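import Cfsg.Agent.LY.Chk

/-! Lyons' theorem: certificates. -/

set_option autoImplicit false
set_option maxRecDepth 100000

namespace Cfsg.Agent.LY.Ck

def ty15 : List (List ℕ × V) :=
  [([4, 4, 4, 196, 16, 16, 8, 4, 0, 4], ⟨4, 2, 4, 49, 25, 39, true⟩), ([4, 4, 2, 196, 16, 0, 4, 2,
  0, 2], ⟨4, 2, 4, 49, 25, 39, true⟩), ([4, 4, 2, 4, 64, 0, 8, 6, 0, 6], ⟨4, 0, 4, 1, 65, 63,
  true⟩), ([4, 4, 2, 4, 64, 16, 4, 6, 0, 6], ⟨4, 0, 4, 1, 65, 63, true⟩), ([0, 4, 2, 64, 64, 0, 8,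
  6, 4, 2], ⟨4, 0, 0, 16, 76, 52, true⟩), ([0, 4, 2, 64, 64, 16, 4, 6, 4, 2], ⟨4, 0, 0, 16, 76, 52,
  true⟩), ([4, 4, 1, 36, 36, 4, 2, 3, 0, 3], ⟨4, 1, 4, 9, 13, 51, true⟩), ([0, 4, 1, 256, 36, 4, 2,
  3, 4, 1], ⟨4, 1, 0, 64, 88, 40, true⟩), ([4, 0, 3, 196, 36, 4, 2, 3, 4, 1], ⟨0, 3, 4, 49, 25, 39,
  true⟩), ([4, 0, 4, 36, 16, 16, 8, 4, 4, 4], ⟨0, 2, 4, 9, 13, 51, true⟩), ([4, 0, 2, 36, 16, 0, 4,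
  2, 4, 2], ⟨0, 2, 4, 9, 13, 51, true⟩), ([4, 0, 2, 100, 0, 0, 8, 2, 4, 6], ⟨0, 0, 4, 25, 53, 75,
  true⟩), ([4, 0, 2, 100, 0, 16, 4, 2, 4, 6], ⟨0, 0, 4, 25, 53, 75, true⟩), ([0, 0, 4, 256, 16, 16,
  8, 4, 0, 4], ⟨0, 2, 0, 64, 88, 40, true⟩), ([0, 0, 2, 256, 16, 0, 4, 2, 0, 2], ⟨0, 2, 0, 64, 88,
  40, true⟩), ([0, 0, 2, 0, 0, 0, 8, 2, 0, 2], ⟨0, 0, 0, 0, 64, 64, true⟩), ([0, 0, 2, 0, 0, 16, 4,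
  2, 0, 2], ⟨0, 0, 0, 0, 64, 64, true⟩), ([4, 0, 1, 4, 4, 4, 2, 1, 4, 3], ⟨0, 1, 4, 1, 65, 63,
  true⟩), ([0, 0, 1, 64, 4, 4, 2, 1, 0, 1], ⟨0, 1, 0, 16, 76, 52, true⟩), ([8, 2, 1, 8, 8, 8, 0, 1,
  2, 5], ⟨2, 1, 4, 4, 14, 114, true⟩), ([2, 2, 1, 98, 8, 8, 0, 1, 0, 1], ⟨2, 1, 2, 49, 25, 39,
  true⟩), ([0, 2, 1, 288, 8, 8, 0, 1, 2, 1], ⟨2, 1, 0, 144, 100, 28, true⟩), ([8, 0, 1, 8, 8, 8, 0,
  1, 8, 5], ⟨0, 1, 4, 4, 66, 126, true⟩), ([2, 0, 1, 18, 8, 8, 0, 1, 2, 1], ⟨0, 1, 2, 9, 13, 51,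
  true⟩), ([0, 0, 1, 128, 8, 8, 0, 1, 0, 1], ⟨0, 1, 0, 64, 88, 40, true⟩), ([9, 4, 1, 81, 16, 0, 0,
  1, 1, 4], ⟨2, 1, 3, 81, 39, 153, true⟩), ([4, 4, 1, 196, 16, 0, 0, 1, 0, 1], ⟨2, 1, 2, 196, 50,
  78, true⟩), ([9, 4, 0, 49, 64, 0, 0, 4, 1, 9], ⟨2, 0, 3, 49, 55, 201, true⟩), ([4, 4, 0, 4, 64,
  0, 0, 4, 0, 4], ⟨2, 0, 2, 4, 66, 126, true⟩), ([1, 4, 0, 9, 64, 0, 0, 4, 1, 1], ⟨2, 0, 1, 9, 13,
  51, true⟩), ([1, 4, 0, 169, 64, 0, 0, 4, 9, 1], ⟨2, 0, -1, 169, 99, 29, true⟩), ([0, 4, 0, 64,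
  64, 0, 0, 4, 4, 0], ⟨2, 0, 0, 64, 88, 40, true⟩), ([9, 1, 1, 25, 0, 0, 0, 0, 4, 4], ⟨1, 1, 3, 25,
  27, 165, true⟩), ([4, 1, 1, 100, 0, 0, 0, 0, 1, 1], ⟨1, 1, 2, 100, 38, 90, true⟩), ([4, 1, 1, 4,
  64, 0, 0, 4, 9, 1], ⟨1, -1, -2, 4, 114, 14, true⟩), ([1, 1, 1, 225, 0, 0, 0, 0, 0, 0], ⟨1, 1, 1,
  225, 49, 79, true⟩), ([1, 1, 1, 289, 64, 0, 0, 4, 0, 4], ⟨1, -1, 1, 289, 81, 111, true⟩), ([1, 1,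
  1, 49, 64, 0, 0, 4, 4, 0], ⟨1, -1, -1, 49, 39, 25, true⟩), ([0, 1, 1, 144, 64, 0, 0, 4, 1, 1],
  ⟨1, -1, 0, 144, 28, 100, true⟩), ([9, 1, 0, 121, 16, 0, 0, 1, 4, 9], ⟨1, 0, 3, 121, 43, 213,
  true⟩), ([4, 1, 0, 36, 16, 0, 0, 1, 1, 4], ⟨1, 0, 2, 36, 54, 138, true⟩), ([4, 1, 0, 196, 16, 0,
  0, 1, 9, 4], ⟨1, 0, -2, 196, 162, 30, true⟩), ([1, 1, 0, 1, 16, 0, 0, 1, 0, 1], ⟨1, 0, 1, 1, 65,
  63, true⟩), ([1, 1, 0, 81, 16, 0, 0, 1, 4, 1], ⟨1, 0, -1, 81, 87, 41, true⟩), ([0, 1, 0, 16, 16,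
  0, 0, 1, 1, 0], ⟨1, 0, 0, 16, 76, 52, true⟩), ([9, 0, 4, 289, 64, 0, 0, 4, 9, 1], ⟨0, 2, 3, 289,
  63, 129, true⟩), ([9, 0, 1, 1, 16, 0, 0, 1, 9, 4], ⟨0, 1, 3, 1, 15, 177, true⟩), ([4, 0, 1, 36,
  16, 0, 0, 1, 4, 1], ⟨0, 1, 2, 36, 26, 102, true⟩), ([1, 0, 1, 121, 16, 0, 0, 1, 1, 0], ⟨0, 1, 1,
  121, 37, 27, true⟩), ([0, 0, 1, 256, 16, 0, 0, 1, 0, 1], ⟨0, 1, 0, 256, 112, 80, true⟩), ([9, 0,
  0, 225, 0, 0, 0, 0, 9, 9], ⟨0, 0, 3, 225, 31, 225, true⟩), ([4, 0, 0, 100, 0, 0, 0, 0, 4, 4], ⟨0,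
  0, 2, 100, 42, 150, true⟩), ([1, 0, 0, 25, 0, 0, 0, 0, 1, 1], ⟨0, 0, 1, 25, 53, 75, true⟩)]

open Tr in
def c15_0 : List (List V × Tr) :=
  [([⟨0, 0, 1, 25, 53, 75, true⟩, ⟨0, 0, 1, 25, 53, 75, true⟩, ⟨1, 0, 0, 16, 76, 52, true⟩, ⟨1, 0,
  -1, 81, 87, 41, true⟩, ⟨1, 0, 2, 36, 54, 138, true⟩, ⟨1, 1, 2, 100, 38, 90, true⟩, ⟨0, 2, 4, 9,
  13, 51, true⟩], S 5 (S 6 (L false 0 1 0) (S 3 (L false 1 0 0) (S 4 (S 2 (R 3 0 (L true 1 0 0) (L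
  false 1 0 0)) (R 5 3 (L false 0 1 0) (R 3 1 (R 6 1 (L true 0 1 0) (R 3 0 (L false (-1) 1 0) (R 2
  0 (L true 1 0 0) (L false 1 0 0)))) (L false 1 0 0)))) (S 2 (R 5 3 (L false 0 1 0) (R 3 1 (R 3 0
  (L false (-1) 1 0) (R 4 0 (L true 1 0 0) (L false 1 0 0))) (L false 1 0 0))) (R 5 3 (L false 0 1
  0) (R 3 2 (R 3 0 (L false (-1) 1 0) (R 6 1 (L true 0 1 0) (R 5 10 (L false 0 1 0) (R 6 4 (L true
  0 1 0) (R 5 27 (L false 0 1 0) (R 6 13 (L true 0 1 0) (R 5 77 (L false 0 1 0) (R 6 38 (L true 0 1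
  0) (R 5 216 (L false 0 1 0) (R 6 108 (L true 0 1 0) (R 5 604 (L false 0 1 0) (R 6 301 (L true 0 1
  0) (R 5 1677 (L false 0 1 0) (R 6 838 (L true 0 1 0) (R 5 4660 (L false 0 1 0) (R 6 2330 (L true
  0 1 0) (R 5 12949 (L false 0 1 0) (R 6 6474 (L true 0 1 0) (R 5 35971 (L false 0 1 0) (R 6 17985
  (L true 0 1 0) (R 5 99922 (L false 0 1 0) (R 6 49960 (L true 0 1 0) (R 5 277560 (L false 0 1 0)
  (R 6 138780 (L true 0 1 0) (R 5 771004 (L false 0 1 0) (R 6 385501 (L true 0 1 0) (R 5 2141677 (L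
  false 0 1 0) (R 6 1070838 (L true 0 1 0) (R 5 5949105 (L false 0 1 0) (R 6 2974552 (L true 0 1 0)
  (R 5 9999999 (L false 0 1 0) (R 6 4999999 (L true 0 1 0) (R 5 9999999 (L false 0 1 0) (R 5
  9999999 (L false 0 1 0) (R 6 9999999 (L true 0 1 0) (R 5 9999999 (L false 0 1 0) (R 6 4999999 (L
  true 0 1 0) (R 2 0 (R 4 9999999 (L true 1 0 0) (R 3 0 (L false (-1) 1 0) (L false 1 0 0))) (R 4 4
  (R 3 0 (R 4 0 (L false (-1) 1 0) (R 2 3 (L true 1 0 0) (L false 1 0 0))) (L false 1 0 0)) (L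
  false 1 0 0)))))))))))))))))))))))))))))))))))))))) (L false 1 0 0))))))) (S 6 (S 3 (S 4 (S 2 (R
  6 0 (L false 0 1 0) (L false 1 (-1) 0)) (R 6 0 (L false 0 1 0) (L false 1 (-1) 0))) (S 2 (R 6 0
  (L false 0 1 0) (L false 1 (-1) 0)) (R 6 0 (L false 0 1 0) (L false 1 (-1) 0)))) (S 4 (S 2 (R 6 0
  (L false 0 1 0) (R 3 1 (R 3 0 (L false (-1) 1 0) (R 6 0 (R 5 1 (R 4 2 (L false 1 (-1) 0) (L true
  1 0 0)) (L true 0 (-1) 0)) (L false 1 (-1) 0))) (L false 1 (-1) 0))) (R 6 0 (L false 0 1 0) (R 3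
  2 (R 3 0 (L false (-1) 1 0) (R 4 3 (L true (-1) 1 0) (R 5 0 (L true 0 1 0) (R 5 1 (R 6 0 (R 5 0
  (R 2 0 (R 4 1 (R 3 0 (L false (-1) 1 0) (L false 1 (-1) 0)) (L true 1 0 0)) (R 3 0 (R 2 0 (L
  false (-1) 1 0) (R 4 1 (L false 1 (-1) 0) (R 4 101 (R 2 0 (L false (-1) 1 0) (R 4 1 (L false 1
  (-1) 0) (R 2 0 (L false (-1) 1 0) (R 2 99 (R 4 65 (R 2 65 (R 4 6 (R 2 2 (R 4 2 (R 2 0 (R 4 0 (L
  false 1 (-1) 0) (L true 1 0 0)) (L false 1 (-1) 0)) (L true 1 0 0)) (L false 1 (-1) 0)) (R 2 6 (L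
  true 1 0 0) (R 4 5 (L false 1 (-1) 0) (R 2 5 (L true 1 0 0) (R 4 7 (L false 1 (-1) 0) (R 2 7 (L
  true 1 0 0) (R 4 7 (L false 1 (-1) 0) (R 4 26 (R 2 7 (L true 1 0 0) (R 4 6 (L false 1 (-1) 0) (R
  2 26 (R 2 6 (L true 1 0 0) (R 4 4 (L false 1 (-1) 0) (R 4 10 (R 2 4 (L true 1 0 0) (R 4 2 (L
  false 1 (-1) 0) (R 2 10 (R 4 5 (R 2 2 (L true 1 0 0) (R 4 1 (L false 1 (-1) 0) (R 2 1 (L true 1 0
  0) (R 4 0 (L false 1 (-1) 0) (R 2 3 (R 4 1 (R 2 0 (L false (-1) 1 0) (R 4 0 (L false 1 (-1) 0) (R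
  2 1 (L false (-1) 1 0) (L false 1 (-1) 0)))) (L false (-1) 1 0)) (L true (-1) 0 0)))))) (L false
  (-1) 1 0)) (L true (-1) 0 0)))) (L false (-1) 1 0)))) (L true (-1) 0 0)))) (L false (-1) 1
  0))))))))) (L true (-1) 0 0)) (L false (-1) 1 0)) (L true (-1) 0 0))))) (L false (-1) 1 0)))) (L
  false 1 (-1) 0))) (L true 0 (-1) 0)) (L true 0 1 0)) (R 6 0 (L true 0 (-1) 0) (R 2 1 (R 3 0 (R 4
  1 (L true (-1) 0 0) (R 5 2 (R 6 1 (R 4 3 (R 2 0 (L false (-1) 1 0) (L false 1 (-1) 0)) (L true 1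
  0 0)) (L true 0 1 0)) (R 6 1 (L true 0 (-1) 0) (R 2 0 (R 4 0 (L true (-1) 0 0) (L false (-1) 1
  0)) (L false 1 (-1) 0))))) (L false 1 (-1) 0)) (L false 1 (-1) 0))))))) (L false 1 (-1) 0)))) (S
  2 (R 6 0 (L false 0 1 0) (R 3 1 (R 3 0 (L false (-1) 1 0) (R 5 0 (L true 0 1 0) (R 2 4 (L true
  (-1) 0 0) (R 5 1 (R 6 0 (R 4 13 (L false (-1) 1 0) (R 5 0 (R 2 13 (L true (-1) 0 0) (R 4 62 (L
  false (-1) 1 0) (R 2 27 (L true (-1) 0 0) (L false (-1) 1 0)))) (L true 0 (-1) 0))) (L true 0 1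
  0)) (R 6 0 (L true 0 (-1) 0) (R 4 3 (R 2 1 (L true (-1) 0 0) (R 4 0 (L false (-1) 1 0) (R 6 3 (R
  5 6 (R 2 9 (R 4 1 (R 6 0 (L false (-1) 1 0) (R 5 1 (L true 0 1 0) (R 4 0 (R 6 0 (L false (-1) 1
  0) (R 5 1 (L true 0 1 0) (R 6 0 (R 5 0 (R 2 6 (L false 1 (-1) 0) (L false (-1) 1 0)) (L true 0
  (-1) 0)) (L false 1 (-1) 0)))) (L false 1 (-1) 0)))) (L false 1 (-1) 0)) (L true 1 0 0)) (L true
  0 (-1) 0)) (L false 1 (-1) 0)))) (L false 1 (-1) 0))))))) (L false 1 (-1) 0))) (L true (-1) 0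
  0)))) (L true 0 (-1) 0))), ([⟨0, 0, 2, 100, 42, 150, true⟩, ⟨1, 0, -1, 81, 87, 41, true⟩, ⟨1, 0,
  1, 1, 65, 63, true⟩, ⟨1, 0, 1, 1, 65, 63, true⟩, ⟨1, 1, 2, 100, 38, 90, true⟩, ⟨0, 2, 4, 9, 13,
  51, true⟩], S 4 (S 5 (L false 0 1 0) (S 1 (L false 1 0 0) (S 2 (S 3 (R 1 0 (L false (-1) 1 0) (L
  false 1 0 0)) (R 1 0 (L false (-1) 1 0) (L false 1 0 0))) (S 3 (R 1 0 (L false (-1) 1 0) (L false
  1 0 0)) (R 1 0 (L false (-1) 1 0) (L false 1 0 0)))))) (S 5 (S 1 (S 2 (S 3 (R 5 0 (L false 0 1 0)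
  (L false 1 (-1) 0)) (R 5 0 (L false 0 1 0) (L false 1 (-1) 0))) (S 3 (R 5 0 (L false 0 1 0) (L
  false 1 (-1) 0)) (R 5 0 (L false 0 1 0) (L false 1 (-1) 0)))) (S 2 (S 3 (R 5 0 (L false 0 1 0) (R
  1 1 (R 1 0 (L false (-1) 1 0) (R 5 0 (R 4 1 (R 4 0 (L true 0 1 0) (R 3 2 (R 2 2 (L false 1 (-1)
  0) (L true 1 0 0)) (L true 1 0 0))) (L true 0 (-1) 0)) (L false 1 (-1) 0))) (L false 1 (-1) 0)))
  (R 5 0 (L false 0 1 0) (R 1 1 (R 1 0 (L false (-1) 1 0) (R 5 0 (R 4 1 (R 4 0 (L true 0 1 0) (R 2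
  1 (L true (-1) 0 0) (L false (-1) 1 0))) (L true 0 (-1) 0)) (L false 1 (-1) 0))) (L false 1 (-1)
  0)))) (S 3 (R 5 0 (L false 0 1 0) (R 1 1 (R 1 0 (L false (-1) 1 0) (R 5 0 (R 4 1 (R 4 0 (L true 0
  1 0) (R 3 1 (L true (-1) 0 0) (L false (-1) 1 0))) (L true 0 (-1) 0)) (L false 1 (-1) 0))) (L
  false 1 (-1) 0))) (L true (-1) 0 0)))) (L true 0 (-1) 0))), ([⟨0, 0, 1, 25, 53, 75, true⟩, ⟨0, 0,
  1, 25, 53, 75, true⟩, ⟨0, 0, 1, 25, 53, 75, true⟩, ⟨0, 0, 1, 25, 53, 75, true⟩, ⟨1, 0, -1, 81,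
  87, 41, true⟩, ⟨1, 0, 1, 1, 65, 63, true⟩, ⟨1, 0, 1, 1, 65, 63, true⟩, ⟨1, 1, 2, 100, 38, 90,
  true⟩, ⟨0, 2, 4, 9, 13, 51, true⟩], S 7 (S 8 (L false 0 1 0) (S 4 (L false 1 0 0) (S 5 (S 6 (R 4
  0 (L false (-1) 1 0) (L false 1 0 0)) (R 4 0 (L false (-1) 1 0) (L false 1 0 0))) (S 6 (R 4 0 (L
  false (-1) 1 0) (L false 1 0 0)) (R 4 0 (L false (-1) 1 0) (L false 1 0 0)))))) (S 8 (S 4 (S 5 (S
  6 (R 8 0 (L false 0 1 0) (L false 1 (-1) 0)) (R 8 0 (L false 0 1 0) (L false 1 (-1) 0))) (S 6 (R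
  8 0 (L false 0 1 0) (L false 1 (-1) 0)) (R 8 0 (L false 0 1 0) (L false 1 (-1) 0)))) (S 5 (S 6 (R
  8 0 (L false 0 1 0) (R 4 1 (R 4 0 (L false (-1) 1 0) (R 8 0 (R 7 1 (R 7 0 (L true 0 1 0) (R 6 2
  (R 5 2 (L false 1 (-1) 0) (L true 1 0 0)) (L true 1 0 0))) (L true 0 (-1) 0)) (L false 1 (-1)
  0))) (L false 1 (-1) 0))) (R 8 0 (L false 0 1 0) (R 4 1 (R 4 0 (L false (-1) 1 0) (R 8 0 (R 7 1
  (R 7 0 (L true 0 1 0) (R 5 1 (L true (-1) 0 0) (L false (-1) 1 0))) (L true 0 (-1) 0)) (L false 1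
  (-1) 0))) (L false 1 (-1) 0)))) (S 6 (R 8 0 (L false 0 1 0) (R 4 1 (R 4 0 (L false (-1) 1 0) (R 8
  0 (R 7 1 (R 7 0 (L true 0 1 0) (R 6 1 (L true (-1) 0 0) (L false (-1) 1 0))) (L true 0 (-1) 0))
  (L false 1 (-1) 0))) (L false 1 (-1) 0))) (L true (-1) 0 0)))) (L true 0 (-1) 0))), ([⟨0, 0, 1,
  25, 53, 75, true⟩, ⟨0, 0, 1, 25, 53, 75, true⟩, ⟨0, 0, 2, 100, 42, 150, true⟩, ⟨1, 0, 0, 16, 76,
  52, true⟩, ⟨1, 0, 0, 16, 76, 52, true⟩, ⟨1, 0, 1, 1, 65, 63, true⟩, ⟨1, 1, 2, 100, 38, 90, true⟩,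
  ⟨0, 2, 4, 9, 13, 51, true⟩], S 6 (L false 1 0 0) (S 7 (S 3 (S 4 (S 5 (R 7 0 (L false 0 1 0) (L
  false 1 (-1) 0)) (R 7 0 (L false 0 1 0) (L false 1 (-1) 0))) (S 5 (R 7 0 (L false 0 1 0) (L false
  1 (-1) 0)) (R 7 0 (L false 0 1 0) (L false 1 (-1) 0)))) (S 4 (S 5 (R 7 0 (L false 0 1 0) (L false
  1 (-1) 0)) (R 7 0 (L false 0 1 0) (L false 1 (-1) 0))) (S 5 (R 7 0 (L false 0 1 0) (L false 1
  (-1) 0)) (L true (-1) 0 0)))) (L false 1 (-1) 0))), ([⟨0, 0, 1, 25, 53, 75, true⟩, ⟨0, 0, 1, 25,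
  53, 75, true⟩, ⟨0, 0, 1, 25, 53, 75, true⟩, ⟨0, 0, 1, 25, 53, 75, true⟩, ⟨0, 0, 1, 25, 53, 75,
  true⟩, ⟨0, 0, 1, 25, 53, 75, true⟩, ⟨1, 0, 0, 16, 76, 52, true⟩, ⟨1, 0, 0, 16, 76, 52, true⟩, ⟨1,
  0, 1, 1, 65, 63, true⟩, ⟨1, 1, 2, 100, 38, 90, true⟩, ⟨0, 2, 4, 9, 13, 51, true⟩], S 9 (L false 1
  0 0) (S 10 (S 6 (S 7 (S 8 (R 10 0 (L false 0 1 0) (L false 1 (-1) 0)) (R 10 0 (L false 0 1 0) (L
  false 1 (-1) 0))) (S 8 (R 10 0 (L false 0 1 0) (L false 1 (-1) 0)) (R 10 0 (L false 0 1 0) (L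
  false 1 (-1) 0)))) (S 7 (S 8 (R 10 0 (L false 0 1 0) (L false 1 (-1) 0)) (R 10 0 (L false 0 1 0)
  (L false 1 (-1) 0))) (S 8 (R 10 0 (L false 0 1 0) (L false 1 (-1) 0)) (L true (-1) 0 0)))) (L
  false 1 (-1) 0))), ([⟨1, 0, -1, 81, 87, 41, true⟩, ⟨1, 0, 1, 1, 65, 63, true⟩, ⟨1, 0, 1, 1, 65,
  63, true⟩, ⟨1, 1, 2, 100, 38, 90, true⟩, ⟨0, 0, 4, 25, 53, 75, true⟩, ⟨0, 2, 4, 9, 13, 51,
  true⟩], S 3 (S 5 (L false 0 1 0) (S 0 (L false 1 0 0) (S 1 (S 2 (R 0 0 (L false (-1) 1 0) (L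
  false 1 0 0)) (R 0 0 (L false (-1) 1 0) (L false 1 0 0))) (S 2 (R 0 0 (L false (-1) 1 0) (L false
  1 0 0)) (R 0 0 (L false (-1) 1 0) (L false 1 0 0)))))) (S 5 (S 0 (S 1 (S 2 (R 5 0 (L false 0 1 0)
  (L false 1 (-1) 0)) (R 5 0 (L false 0 1 0) (L false 1 (-1) 0))) (S 2 (R 5 0 (L false 0 1 0) (L
  false 1 (-1) 0)) (R 5 0 (L false 0 1 0) (L false 1 (-1) 0)))) (S 1 (S 2 (R 5 0 (L false 0 1 0) (R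
  0 1 (R 0 0 (L false (-1) 1 0) (R 5 0 (R 3 1 (R 3 0 (L true 0 1 0) (R 2 2 (R 1 2 (L false 1 (-1)
  0) (L true 1 0 0)) (L true 1 0 0))) (L true 0 (-1) 0)) (L false 1 (-1) 0))) (L false 1 (-1) 0)))
  (R 5 0 (L false 0 1 0) (R 0 1 (R 0 0 (L false (-1) 1 0) (R 5 0 (R 3 1 (R 3 0 (L true 0 1 0) (R 1
  1 (L true (-1) 0 0) (L false (-1) 1 0))) (L true 0 (-1) 0)) (L false 1 (-1) 0))) (L false 1 (-1)
  0)))) (S 2 (R 5 0 (L false 0 1 0) (R 0 1 (R 0 0 (L false (-1) 1 0) (R 5 0 (R 3 1 (R 3 0 (L true 0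
  1 0) (R 2 1 (L true (-1) 0 0) (L false (-1) 1 0))) (L true 0 (-1) 0)) (L false 1 (-1) 0))) (L
  false 1 (-1) 0))) (L true (-1) 0 0)))) (L true 0 (-1) 0))), ([⟨0, 0, 1, 25, 53, 75, true⟩, ⟨0, 0,
  1, 25, 53, 75, true⟩, ⟨1, 0, 0, 16, 76, 52, true⟩, ⟨1, 0, 0, 16, 76, 52, true⟩, ⟨1, 0, 1, 1, 65,
  63, true⟩, ⟨1, 1, 2, 100, 38, 90, true⟩, ⟨0, 0, 4, 25, 53, 75, true⟩, ⟨0, 2, 4, 9, 13, 51,
  true⟩], S 5 (L false 1 0 0) (S 7 (S 2 (S 3 (S 4 (R 7 0 (L false 0 1 0) (L false 1 (-1) 0)) (R 7 0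
  (L false 0 1 0) (L false 1 (-1) 0))) (S 4 (R 7 0 (L false 0 1 0) (L false 1 (-1) 0)) (R 7 0 (L
  false 0 1 0) (L false 1 (-1) 0)))) (S 3 (S 4 (R 7 0 (L false 0 1 0) (L false 1 (-1) 0)) (R 7 0 (L
  false 0 1 0) (L false 1 (-1) 0))) (S 4 (R 7 0 (L false 0 1 0) (L false 1 (-1) 0)) (L true (-1) 0
  0)))) (L false 1 (-1) 0))), ([⟨0, 0, 1, 25, 53, 75, true⟩, ⟨0, 0, 1, 25, 53, 75, true⟩, ⟨1, 0, 0,
  16, 76, 52, true⟩, ⟨1, 0, -1, 81, 87, 41, true⟩, ⟨1, 0, 2, 36, 54, 138, true⟩, ⟨1, 1, 2, 100, 38,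
  90, true⟩, ⟨0, 0, 0, 0, 64, 64, true⟩, ⟨0, 2, 4, 9, 13, 51, true⟩], S 5 (S 7 (L false 0 1 0) (S 3
  (L false 1 0 0) (S 4 (S 2 (R 3 0 (L true 1 0 0) (L false 1 0 0)) (R 5 3 (L false 0 1 0) (R 3 1 (R
  7 1 (L true 0 1 0) (R 3 0 (L false (-1) 1 0) (R 2 0 (L true 1 0 0) (L false 1 0 0)))) (L false 1
  0 0)))) (S 2 (R 5 3 (L false 0 1 0) (R 3 1 (R 3 0 (L false (-1) 1 0) (R 4 0 (L true 1 0 0) (L
  false 1 0 0))) (L false 1 0 0))) (R 5 3 (L false 0 1 0) (R 3 2 (R 3 0 (L false (-1) 1 0) (R 7 1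
  (L true 0 1 0) (R 5 10 (L false 0 1 0) (R 7 4 (L true 0 1 0) (R 5 27 (L false 0 1 0) (R 7 13 (L
  true 0 1 0) (R 5 77 (L false 0 1 0) (R 7 38 (L true 0 1 0) (R 5 216 (L false 0 1 0) (R 7 108 (L
  true 0 1 0) (R 5 604 (L false 0 1 0) (R 7 301 (L true 0 1 0) (R 5 1677 (L false 0 1 0) (R 7 838
  (L true 0 1 0) (R 5 4660 (L false 0 1 0) (R 7 2330 (L true 0 1 0) (R 5 12949 (L false 0 1 0) (R 7
  6474 (L true 0 1 0) (R 5 35971 (L false 0 1 0) (R 7 17985 (L true 0 1 0) (R 5 99922 (L false 0 1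
  0) (R 7 49960 (L true 0 1 0) (R 5 277560 (L false 0 1 0) (R 7 138780 (L true 0 1 0) (R 5 771004
  (L false 0 1 0) (R 7 385501 (L true 0 1 0) (R 5 2141677 (L false 0 1 0) (R 7 1070838 (L true 0 1
  0) (R 5 5949105 (L false 0 1 0) (R 7 2974552 (L true 0 1 0) (R 5 9999999 (L false 0 1 0) (R 7
  4999999 (L true 0 1 0) (R 5 9999999 (L false 0 1 0) (R 5 9999999 (L false 0 1 0) (R 7 9999999 (L
  true 0 1 0) (R 5 9999999 (L false 0 1 0) (R 7 4999999 (L true 0 1 0) (R 2 0 (R 4 9999999 (L true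
  1 0 0) (R 3 0 (L false (-1) 1 0) (L false 1 0 0))) (R 4 4 (R 3 0 (R 4 0 (L false (-1) 1 0) (R 2 3
  (L true 1 0 0) (L false 1 0 0))) (L false 1 0 0)) (L false 1 0
  0)))))))))))))))))))))))))))))))))))))))) (L false 1 0 0))))))) (S 7 (S 3 (S 4 (S 2 (R 7 0 (L
  false 0 1 0) (L false 1 (-1) 0)) (R 7 0 (L false 0 1 0) (L false 1 (-1) 0))) (S 2 (R 7 0 (L false
  0 1 0) (L false 1 (-1) 0)) (R 7 0 (L false 0 1 0) (L false 1 (-1) 0)))) (S 4 (S 2 (R 7 0 (L false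
  0 1 0) (R 3 1 (R 3 0 (L false (-1) 1 0) (R 7 0 (R 5 1 (R 4 2 (L false 1 (-1) 0) (L true 1 0 0))
  (L true 0 (-1) 0)) (L false 1 (-1) 0))) (L false 1 (-1) 0))) (R 7 0 (L false 0 1 0) (R 3 2 (R 3 0
  (L false (-1) 1 0) (R 4 3 (L true (-1) 1 0) (R 5 0 (L true 0 1 0) (R 5 1 (R 7 0 (R 5 0 (R 2 0 (R
  4 1 (R 3 0 (L false (-1) 1 0) (L false 1 (-1) 0)) (L true 1 0 0)) (R 3 0 (R 2 0 (L false (-1) 1
  0) (R 4 1 (L false 1 (-1) 0) (R 4 101 (R 2 0 (L false (-1) 1 0) (R 4 1 (L false 1 (-1) 0) (R 2 0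
  (L false (-1) 1 0) (R 2 99 (R 4 65 (R 2 65 (R 4 6 (R 2 2 (R 4 2 (R 2 0 (R 4 0 (L false 1 (-1) 0)
  (L true 1 0 0)) (L false 1 (-1) 0)) (L true 1 0 0)) (L false 1 (-1) 0)) (R 2 6 (L true 1 0 0) (R
  4 5 (L false 1 (-1) 0) (R 2 5 (L true 1 0 0) (R 4 7 (L false 1 (-1) 0) (R 2 7 (L true 1 0 0) (R 4
  7 (L false 1 (-1) 0) (R 4 26 (R 2 7 (L true 1 0 0) (R 4 6 (L false 1 (-1) 0) (R 2 26 (R 2 6 (L
  true 1 0 0) (R 4 4 (L false 1 (-1) 0) (R 4 10 (R 2 4 (L true 1 0 0) (R 4 2 (L false 1 (-1) 0) (R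
  2 10 (R 4 5 (R 2 2 (L true 1 0 0) (R 4 1 (L false 1 (-1) 0) (R 2 1 (L true 1 0 0) (R 4 0 (L false
  1 (-1) 0) (R 2 3 (R 4 1 (R 2 0 (L false (-1) 1 0) (R 4 0 (L false 1 (-1) 0) (R 2 1 (L false (-1)
  1 0) (L false 1 (-1) 0)))) (L false (-1) 1 0)) (L true (-1) 0 0)))))) (L false (-1) 1 0)) (L true
  (-1) 0 0)))) (L false (-1) 1 0)))) (L true (-1) 0 0)))) (L false (-1) 1 0))))))))) (L true (-1) 0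
  0)) (L false (-1) 1 0)) (L true (-1) 0 0))))) (L false (-1) 1 0)))) (L false 1 (-1) 0))) (L true
  0 (-1) 0)) (L true 0 1 0)) (R 7 0 (L true 0 (-1) 0) (R 2 1 (R 3 0 (R 4 1 (L true (-1) 0 0) (R 5 2
  (R 7 1 (R 4 3 (R 2 0 (L false (-1) 1 0) (L false 1 (-1) 0)) (L true 1 0 0)) (L true 0 1 0)) (R 7
  1 (L true 0 (-1) 0) (R 2 0 (R 4 0 (L true (-1) 0 0) (L false (-1) 1 0)) (L false 1 (-1) 0))))) (L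
  false 1 (-1) 0)) (L false 1 (-1) 0))))))) (L false 1 (-1) 0)))) (S 2 (R 7 0 (L false 0 1 0) (R 3
  1 (R 3 0 (L false (-1) 1 0) (R 5 0 (L true 0 1 0) (R 2 4 (L true (-1) 0 0) (R 5 1 (R 7 0 (R 4 13
  (L false (-1) 1 0) (R 5 0 (R 2 13 (L true (-1) 0 0) (R 4 62 (L false (-1) 1 0) (R 2 27 (L true
  (-1) 0 0) (L false (-1) 1 0)))) (L true 0 (-1) 0))) (L true 0 1 0)) (R 7 0 (L true 0 (-1) 0) (R 4
  3 (R 2 1 (L true (-1) 0 0) (R 4 0 (L false (-1) 1 0) (R 7 3 (R 5 6 (R 2 9 (R 4 1 (R 7 0 (L false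
  (-1) 1 0) (R 5 1 (L true 0 1 0) (R 4 0 (R 7 0 (L false (-1) 1 0) (R 5 1 (L true 0 1 0) (R 7 0 (R
  5 0 (R 2 6 (L false 1 (-1) 0) (L false (-1) 1 0)) (L true 0 (-1) 0)) (L false 1 (-1) 0)))) (L
  false 1 (-1) 0)))) (L false 1 (-1) 0)) (L true 1 0 0)) (L true 0 (-1) 0)) (L false 1 (-1) 0))))
  (L false 1 (-1) 0))))))) (L false 1 (-1) 0))) (L true (-1) 0 0)))) (L true 0 (-1) 0))), ([⟨0, 0,
  2, 100, 42, 150, true⟩, ⟨1, 0, -1, 81, 87, 41, true⟩, ⟨1, 0, 1, 1, 65, 63, true⟩, ⟨1, 0, 1, 1,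
  65, 63, true⟩, ⟨1, 1, 2, 100, 38, 90, true⟩, ⟨0, 0, 0, 0, 64, 64, true⟩, ⟨0, 2, 4, 9, 13, 51,
  true⟩], S 4 (S 6 (L false 0 1 0) (S 1 (L false 1 0 0) (S 2 (S 3 (R 1 0 (L false (-1) 1 0) (L
  false 1 0 0)) (R 1 0 (L false (-1) 1 0) (L false 1 0 0))) (S 3 (R 1 0 (L false (-1) 1 0) (L false
  1 0 0)) (R 1 0 (L false (-1) 1 0) (L false 1 0 0)))))) (S 6 (S 1 (S 2 (S 3 (R 6 0 (L false 0 1 0)
  (L false 1 (-1) 0)) (R 6 0 (L false 0 1 0) (L false 1 (-1) 0))) (S 3 (R 6 0 (L false 0 1 0) (L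
  false 1 (-1) 0)) (R 6 0 (L false 0 1 0) (L false 1 (-1) 0)))) (S 2 (S 3 (R 6 0 (L false 0 1 0) (R
  1 1 (R 1 0 (L false (-1) 1 0) (R 6 0 (R 4 1 (R 4 0 (L true 0 1 0) (R 3 2 (R 2 2 (L false 1 (-1)
  0) (L true 1 0 0)) (L true 1 0 0))) (L true 0 (-1) 0)) (L false 1 (-1) 0))) (L false 1 (-1) 0)))
  (R 6 0 (L false 0 1 0) (R 1 1 (R 1 0 (L false (-1) 1 0) (R 6 0 (R 4 1 (R 4 0 (L true 0 1 0) (R 2
  1 (L true (-1) 0 0) (L false (-1) 1 0))) (L true 0 (-1) 0)) (L false 1 (-1) 0))) (L false 1 (-1)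
  0)))) (S 3 (R 6 0 (L false 0 1 0) (R 1 1 (R 1 0 (L false (-1) 1 0) (R 6 0 (R 4 1 (R 4 0 (L true 0
  1 0) (R 3 1 (L true (-1) 0 0) (L false (-1) 1 0))) (L true 0 (-1) 0)) (L false 1 (-1) 0))) (L
  false 1 (-1) 0))) (L true (-1) 0 0)))) (L true 0 (-1) 0))), ([⟨0, 0, 1, 25, 53, 75, true⟩, ⟨0, 0,
  1, 25, 53, 75, true⟩, ⟨0, 0, 1, 25, 53, 75, true⟩, ⟨0, 0, 1, 25, 53, 75, true⟩, ⟨1, 0, -1, 81,
  87, 41, true⟩, ⟨1, 0, 1, 1, 65, 63, true⟩, ⟨1, 0, 1, 1, 65, 63, true⟩, ⟨1, 1, 2, 100, 38, 90,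
  true⟩, ⟨0, 0, 0, 0, 64, 64, true⟩, ⟨0, 2, 4, 9, 13, 51, true⟩], S 7 (S 9 (L false 0 1 0) (S 4 (L
  false 1 0 0) (S 5 (S 6 (R 4 0 (L false (-1) 1 0) (L false 1 0 0)) (R 4 0 (L false (-1) 1 0) (L
  false 1 0 0))) (S 6 (R 4 0 (L false (-1) 1 0) (L false 1 0 0)) (R 4 0 (L false (-1) 1 0) (L false
  1 0 0)))))) (S 9 (S 4 (S 5 (S 6 (R 9 0 (L false 0 1 0) (L false 1 (-1) 0)) (R 9 0 (L false 0 1 0)
  (L false 1 (-1) 0))) (S 6 (R 9 0 (L false 0 1 0) (L false 1 (-1) 0)) (R 9 0 (L false 0 1 0) (L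
  false 1 (-1) 0)))) (S 5 (S 6 (R 9 0 (L false 0 1 0) (R 4 1 (R 4 0 (L false (-1) 1 0) (R 9 0 (R 7
  1 (R 7 0 (L true 0 1 0) (R 6 2 (R 5 2 (L false 1 (-1) 0) (L true 1 0 0)) (L true 1 0 0))) (L true
  0 (-1) 0)) (L false 1 (-1) 0))) (L false 1 (-1) 0))) (R 9 0 (L false 0 1 0) (R 4 1 (R 4 0 (L
  false (-1) 1 0) (R 9 0 (R 7 1 (R 7 0 (L true 0 1 0) (R 5 1 (L true (-1) 0 0) (L false (-1) 1 0)))
  (L true 0 (-1) 0)) (L false 1 (-1) 0))) (L false 1 (-1) 0)))) (S 6 (R 9 0 (L false 0 1 0) (R 4 1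
  (R 4 0 (L false (-1) 1 0) (R 9 0 (R 7 1 (R 7 0 (L true 0 1 0) (R 6 1 (L true (-1) 0 0) (L false
  (-1) 1 0))) (L true 0 (-1) 0)) (L false 1 (-1) 0))) (L false 1 (-1) 0))) (L true (-1) 0 0)))) (L
  true 0 (-1) 0))), ([⟨0, 0, 1, 25, 53, 75, true⟩, ⟨0, 0, 1, 25, 53, 75, true⟩, ⟨0, 0, 2, 100, 42,
  150, true⟩, ⟨1, 0, 0, 16, 76, 52, true⟩, ⟨1, 0, 0, 16, 76, 52, true⟩, ⟨1, 0, 1, 1, 65, 63, true⟩,
  ⟨1, 1, 2, 100, 38, 90, true⟩, ⟨0, 0, 0, 0, 64, 64, true⟩, ⟨0, 2, 4, 9, 13, 51, true⟩], S 6 (L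
  false 1 0 0) (S 8 (S 3 (S 4 (S 5 (R 8 0 (L false 0 1 0) (L false 1 (-1) 0)) (R 8 0 (L false 0 1
  0) (L false 1 (-1) 0))) (S 5 (R 8 0 (L false 0 1 0) (L false 1 (-1) 0)) (R 8 0 (L false 0 1 0) (L
  false 1 (-1) 0)))) (S 4 (S 5 (R 8 0 (L false 0 1 0) (L false 1 (-1) 0)) (R 8 0 (L false 0 1 0) (L
  false 1 (-1) 0))) (S 5 (R 8 0 (L false 0 1 0) (L false 1 (-1) 0)) (L true (-1) 0 0)))) (L false 1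
  (-1) 0))), ([⟨0, 0, 1, 25, 53, 75, true⟩, ⟨0, 0, 1, 25, 53, 75, true⟩, ⟨0, 0, 1, 25, 53, 75,
  true⟩, ⟨0, 0, 1, 25, 53, 75, true⟩, ⟨0, 0, 1, 25, 53, 75, true⟩, ⟨0, 0, 1, 25, 53, 75, true⟩, ⟨1,
  0, 0, 16, 76, 52, true⟩, ⟨1, 0, 0, 16, 76, 52, true⟩, ⟨1, 0, 1, 1, 65, 63, true⟩, ⟨1, 1, 2, 100,
  38, 90, true⟩, ⟨0, 0, 0, 0, 64, 64, true⟩, ⟨0, 2, 4, 9, 13, 51, true⟩], S 9 (L false 1 0 0) (S 11
  (S 6 (S 7 (S 8 (R 11 0 (L false 0 1 0) (L false 1 (-1) 0)) (R 11 0 (L false 0 1 0) (L false 1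
  (-1) 0))) (S 8 (R 11 0 (L false 0 1 0) (L false 1 (-1) 0)) (R 11 0 (L false 0 1 0) (L false 1
  (-1) 0)))) (S 7 (S 8 (R 11 0 (L false 0 1 0) (L false 1 (-1) 0)) (R 11 0 (L false 0 1 0) (L false
  1 (-1) 0))) (S 8 (R 11 0 (L false 0 1 0) (L false 1 (-1) 0)) (L true (-1) 0 0)))) (L false 1 (-1)
  0))), ([⟨1, 0, -1, 81, 87, 41, true⟩, ⟨1, 0, 2, 36, 54, 138, true⟩, ⟨2, 1, 2, 49, 25, 39, true⟩,
  ⟨0, 1, 0, 16, 76, 52, true⟩, ⟨0, 1, 4, 1, 65, 63, true⟩, ⟨0, 2, 4, 9, 13, 51, true⟩], S 2 (L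
  false 1 0 1) (S 5 (S 0 (S 1 (S 3 (S 4 (R 2 0 (L true 0 1 0) (L false 1 0 0)) (R 2 0 (L true 1 0
  0) (L false 1 0 0))) (S 4 (R 2 0 (L true 1 0 0) (L false 1 0 0)) (R 5 0 (L false 0 0 1) (L false
  2 (-2) (-1))))) (S 3 (L true (-1) 4 (-1)) (S 4 (R 2 0 (L false (-1) 1 (-1)) (L false 2 (-2) 1))
  (R 5 0 (L false (-1) 2 0) (L false 2 (-2) (-1)))))) (S 1 (S 3 (S 4 (L true (-1) 0 1) (R 2 0 (R 1
  0 (L true (-1) 0 0) (L false (-2) 2 (-1))) (L false 1 0 1))) (S 4 (L true (-1) 0 1) (R 2 0 (R 1 0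
  (L false 1 (-1) 1) (L false (-2) 2 (-1))) (L false 1 0 1)))) (L true (-1) 0 0))) (S 0 (L false 2
  (-2) (-1)) (S 1 (S 3 (S 4 (R 2 0 (R 1 0 (L true (-1) 0 0) (L false (-1) 1 (-1))) (L false 1 (-1)
  1)) (R 2 1 (R 0 0 (L false (-1) 1 0) (R 1 2 (L true (-1) 0 (-1)) (R 2 0 (L false 0 0 (-1)) (R 5 0
  (R 0 0 (L false 0 0 1) (L false 1 (-1) 0)) (L false 1 (-1) 1))))) (L false 1 0 1))) (L true 0
  (-4) 1)) (L true (-1) 0 0)))))]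

theorem c15_0_ok : c15_0.all (fun p => chk true p.2 p.1) = true := by decide +kernel

open Tr in
def c15_1 : List (List V × Tr) :=
  [([⟨0, 0, 2, 100, 42, 150, true⟩, ⟨1, 0, 0, 16, 76, 52, true⟩, ⟨1, 0, 1, 1, 65, 63, true⟩, ⟨2, 1,
  2, 49, 25, 39, true⟩, ⟨0, 1, 0, 16, 76, 52, true⟩, ⟨0, 1, 4, 1, 65, 63, true⟩, ⟨0, 2, 4, 9, 13,
  51, true⟩], S 3 (L false 1 0 0) (S 6 (S 1 (S 4 (S 5 (S 2 (R 3 0 (L false (-1) 1 0) (L false 1 0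
  0)) (R 3 0 (L false (-1) 1 0) (L false 1 0 0))) (S 2 (R 3 0 (L false (-1) 1 0) (L false 1 0 0))
  (R 3 0 (L false (-1) 1 0) (L false 1 0 0)))) (S 5 (S 2 (R 3 0 (L true 1 0 0) (L false 1 0 0)) (R
  3 0 (R 6 0 (L false (-1) 1 0) (R 4 1 (L true 0 1 0) (R 1 0 (L true (-1) 0 0) (L false (-1) 1
  0)))) (L false 1 0 0))) (S 2 (R 3 0 (L true 1 0 0) (L false 1 0 0)) (R 3 0 (R 6 0 (L false (-1) 1
  0) (R 4 7 (R 1 0 (L true (-1) 0 0) (R 6 0 (L false (-1) 1 0) (R 4 1 (R 5 0 (L true 0 1 0) (R 4 0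
  (R 6 5 (R 5 11 (R 1 0 (L false 1 (-1) 0) (R 5 0 (L true 0 1 0) (R 2 0 (L true 1 0 0) (R 6 1 (R 1
  4 (R 2 4 (R 5 2 (R 1 1 (R 6 0 (R 1 0 (R 5 0 (R 2 0 (L false (-1) 1 0) (L false 1 (-1) 0)) (L true
  0 (-1) 0)) (L false (-1) 1 0)) (L false 1 (-1) 0)) (R 6 0 (L false (-1) 1 0) (R 5 1 (L true 0 1
  0) (R 1 0 (L false 1 (-1) 0) (R 2 2 (L true 1 0 0) (R 1 0 (L false 1 (-1) 0) (L false (-1) 1
  0))))))) (L true 0 (-1) 0)) (L true (-1) 0 0)) (L false (-1) 1 0)) (R 1 8 (L false 1 (-1) 0) (R 5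
  3 (L true 0 1 0) (R 6 2 (R 2 8 (L true 1 0 0) (R 6 1 (R 1 3 (L false 1 (-1) 0) (R 5 2 (R 1 451 (R
  2 3 (L true 1 0 0) (R 2 451 (R 1 15 (R 6 0 (R 1 2 (R 5 0 (R 1 1 (L false 1 (-1) 0) (R 2 2 (L
  false (-1) 1 0) (L true (-1) 0 0))) (L true 0 (-1) 0)) (L false (-1) 1 0)) (L false 1 (-1) 0)) (R
  6 0 (L false (-1) 1 0) (R 1 88 (L false 1 (-1) 0) (R 5 1 (L true 0 1 0) (R 2 104 (L true 1 0 0)
  (R 1 93 (L false 1 (-1) 0) (R 1 19 (R 2 93 (L true 1 0 0) (R 2 19 (R 1 10 (L false 1 (-1) 0) (R 1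
  1 (R 2 10 (L true 1 0 0) (R 1 0 (L false 1 (-1) 0) (R 2 6 (L false (-1) 1 0) (L false 1 (-1)
  0)))) (L false (-1) 1 0))) (L true (-1) 0 0))) (L false (-1) 1 0)))))))) (L true (-1) 0 0))) (L
  false (-1) 1 0)) (L true 0 (-1) 0))) (L false 1 (-1) 0))) (L false 1 (-1) 0)))))))) (L true 0
  (-1) 0)) (L false 1 (-1) 0)) (R 1 0 (R 6 74 (L false (-1) 1 0) (R 5 1 (L true 0 1 0) (L false
  (-1) 1 0))) (L false (-1) 1 0)))) (L false (-1) 1 0)))) (L false (-1) 1 0))) (L false 1 0 0)))))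
  (S 4 (S 5 (S 2 (R 3 1 (L true 0 1 0) (L false 1 0 0)) (L true (-1) 0 0)) (S 2 (R 3 1 (R 6 0 (L
  false 0 1 0) (R 3 0 (L false (-1) 1 0) (R 1 2 (R 5 0 (L true 0 1 0) (R 6 45 (R 2 2 (L true (-1) 0
  0) (R 2 2 (R 6 31 (R 6 1 (R 1 0 (R 6 0 (L false (-1) 1 0) (R 4 1 (L false (-1) 1 0) (L false 1
  (-1) 0))) (R 4 0 (R 6 0 (R 5 0 (R 1 0 (L false (-1) 1 0) (L false 1 (-1) 0)) (L true 0 (-1) 0))
  (L false 1 (-1) 0)) (L false 1 (-1) 0))) (R 4 0 (R 1 0 (R 6 12 (L false (-1) 1 0) (R 5 29 (L true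
  0 1 0) (R 6 10 (L false (-1) 1 0) (R 5 32 (R 2 0 (R 6 0 (R 5 21 (L true 0 1 0) (L false (-1) 1
  0)) (L false 1 (-1) 0)) (L true 1 0 0)) (L true 0 (-1) 0))))) (L false 1 (-1) 0)) (L false 1 (-1)
  0))) (L false 1 (-1) 0)) (L true 1 0 0))) (L false 1 (-1) 0))) (L false 1 (-1) 0)))) (L false 1 0
  0)) (L true (-1) 0 0))) (S 5 (S 2 (R 3 1 (R 6 0 (L false (-1) 1 0) (R 4 0 (L true 0 1 0) (R 3 0
  (L false (-1) 1 0) (R 6 0 (R 1 0 (R 4 5 (L false 1 (-1) 0) (R 5 5 (L true 0 (-1) 0) (R 2 3 (R 2 2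
  (L true (-1) 0 0) (R 4 10 (R 5 10 (R 4 8 (L false 1 (-1) 0) (R 5 8 (L true 0 (-1) 0) (R 4 0 (L
  false 1 (-1) 0) (L false (-1) 1 0)))) (L true 0 1 0)) (L false (-1) 1 0))) (L true 1 0 0)))) (L
  false 1 (-1) 0)) (L false 1 (-1) 0))))) (L false 1 0 0)) (L true (-1) 0 0)) (S 2 (R 3 1 (R 6 0 (L
  false (-1) 1 0) (R 2 0 (L true (-1) 0 0) (R 3 0 (R 4 0 (R 6 2 (L false (-1) 1 0) (R 1 2 (L false
  (-1) 1 0) (R 5 5 (L true 0 1 0) (R 1 0 (L false (-1) 1 0) (R 2 3 (L true (-1) 0 0) (R 6 2 (R 5 4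
  (R 1 18 (L false (-1) 1 0) (R 6 0 (L false (-1) 1 0) (R 5 1 (L true 0 1 0) (R 2 18 (L true (-1) 0
  0) (R 6 0 (L false (-1) 1 0) (R 1 10 (R 2 10 (R 1 6 (L false (-1) 1 0) (R 5 1 (L true 0 1 0) (R 1
  1 (R 2 6 (L true (-1) 0 0) (L false (-1) 1 0)) (L false 1 (-1) 0)))) (L true 1 0 0)) (L false 1
  (-1) 0))))))) (L true 0 (-1) 0)) (R 1 15 (R 5 5 (L true 0 1 0) (R 2 15 (R 6 3622 (R 5 7244 (R 6 7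
  (R 1 2 (L false (-1) 1 0) (R 5 14 (R 2 2 (L true (-1) 0 0) (R 6 2 (R 1 2 (L false (-1) 1 0) (R 5
  4 (R 2 2 (L true (-1) 0 0) (R 1 3 (R 6 0 (L false (-1) 1 0) (R 1 2 (R 6 0 (L false (-1) 1 0) (R 1
  0 (R 5 3 (L true 0 1 0) (L false (-1) 1 0)) (L false 1 (-1) 0))) (L false 1 (-1) 0))) (R 6 0 (R 1
  2 (L false (-1) 1 0) (R 5 0 (L false 1 (-1) 0) (L true 0 (-1) 0))) (L false 1 (-1) 0)))) (L true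
  0 (-1) 0))) (R 1 2 (R 6 3 (R 5 5 (L true 0 1 0) (R 2 2 (R 1 1 (R 6 0 (L false (-1) 1 0) (R 5 1 (L
  true 0 1 0) (R 5 4 (R 6 1 (R 1 0 (L false (-1) 1 0) (R 6 0 (R 5 0 (R 2 1 (L false 1 (-1) 0) (L
  false (-1) 1 0)) (L true 0 (-1) 0)) (L false 1 (-1) 0))) (L false 1 (-1) 0)) (L true 0 (-1) 0))))
  (L false 1 (-1) 0)) (L true 1 0 0))) (L false 1 (-1) 0)) (L false 1 (-1) 0)))) (L true 0 (-1)
  0))) (R 1 2 (R 5 15 (L true 0 1 0) (R 2 2 (R 6 203 (R 5 406 (R 6 13 (R 1 0 (L false (-1) 1 0) (R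
  5 26 (R 2 0 (L true (-1) 0 0) (R 6 4 (R 1 0 (L false (-1) 1 0) (R 6 1 (L false (-1) 1 0) (L false
  1 (-1) 0))) (R 1 0 (R 6 5 (L false (-1) 1 0) (R 5 21 (L true 0 1 0) (R 6 0 (R 2 0 (L false 1 (-1)
  0) (L false (-1) 1 0)) (L false 1 (-1) 0)))) (L false 1 (-1) 0)))) (L true 0 (-1) 0))) (R 1 0 (R
  6 84 (L false (-1) 1 0) (R 5 197 (L true 0 1 0) (R 2 0 (R 6 28 (R 6 26 (L false (-1) 1 0) (R 5 56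
  (R 5 53 (L true 0 1 0) (R 6 0 (L false (-1) 1 0) (L false 1 (-1) 0))) (L true 0 (-1) 0))) (L
  false 1 (-1) 0)) (L true 1 0 0)))) (L false 1 (-1) 0))) (L true 0 (-1) 0)) (L false 1 (-1) 0)) (L
  true 1 0 0))) (L false 1 (-1) 0))) (L true 0 (-1) 0)) (L false 1 (-1) 0)) (L true 1 0 0))) (L
  false 1 (-1) 0)))))))) (L false (-1) 1 0)) (R 6 0 (L true 0 (-1) 0) (L false 1 (-1) 0))))) (L
  false 1 0 0)) (L true (-1) 0 0))))) (S 1 (S 4 (S 5 (S 2 (R 3 0 (L true 1 0 0) (L false 1 0 0)) (R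
  3 0 (R 6 5 (R 1 0 (L true (-1) 0 0) (R 6 1 (R 4 2 (R 6 0 (R 5 0 (R 4 0 (L false (-1) 1 0) (L true
  0 1 0)) (L true 0 1 0)) (L false (-1) 1 0)) (L true 0 1 0)) (L false (-1) 1 0))) (L false (-1) 1
  0)) (L false 1 0 0))) (S 2 (R 3 0 (L true 1 0 0) (L false 1 0 0)) (R 3 0 (R 6 8 (R 4 1 (L true 0
  (-1) 0) (R 6 0 (L false 1 (-1) 0) (R 1 1 (R 2 0 (R 1 0 (L true (-1) 0 0) (R 6 0 (R 4 14 (L false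
  (-1) 1 0) (R 5 12 (L true 0 1 0) (L false (-1) 1 0))) (L false (-1) 1 0))) (L true (-1) 0 0)) (L
  false (-1) 1 0)))) (L false (-1) 1 0)) (L false 1 0 0)))) (S 5 (S 2 (R 3 0 (L true 1 0 0) (L
  false 1 0 0)) (R 3 0 (R 6 0 (L false 1 (-1) 0) (R 4 0 (L false 1 (-1) 0) (R 5 4 (L true 0 (-1) 0)
  (R 1 0 (L true (-1) 0 0) (R 6 65 (R 6 1 (R 4 0 (R 6 0 (L false 1 (-1) 0) (R 1 4 (L false 1 (-1)
  0) (R 1 6 (R 5 2 (R 2 4 (L true 1 0 0) (R 1 3 (L false 1 (-1) 0) (R 2 6 (R 5 1 (L true 0 (-1) 0)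
  (R 1 0 (R 2 0 (L false (-1) 1 0) (L false 1 (-1) 0)) (L false (-1) 1 0))) (L true (-1) 0 0)))) (L
  true 0 1 0)) (L false (-1) 1 0)))) (R 1 20 (R 2 20 (R 1 1 (R 2 1 (R 4 1 (R 6 0 (L false 1 (-1) 0)
  (R 5 4 (R 1 0 (L false 1 (-1) 0) (R 4 0 (R 2 0 (L false (-1) 1 0) (L false 1 (-1) 0)) (L false
  (-1) 1 0))) (L true 0 1 0))) (R 5 2 (L true 0 (-1) 0) (R 6 0 (R 4 1 (L false 1 (-1) 0) (R 4 3 (R
  1 0 (L false 1 (-1) 0) (R 5 5 (R 2 0 (L false (-1) 1 0) (R 4 1 (L false 1 (-1) 0) (L false (-1) 1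
  0))) (L true 0 1 0))) (R 1 0 (R 4 67 (L false 1 (-1) 0) (R 2 0 (R 5 73 (L true 0 (-1) 0) (R 4 90
  (R 5 90 (R 4 71 (L false 1 (-1) 0) (R 5 71 (L true 0 (-1) 0) (R 4 8 (R 4 7 (L false 1 (-1) 0) (R
  5 3 (L false (-1) 1 0) (L false 1 (-1) 0))) (L false (-1) 1 0)))) (L true 0 1 0)) (L false (-1) 1
  0))) (L false 1 (-1) 0))) (L false (-1) 1 0)))) (R 4 0 (R 5 2 (R 1 0 (R 2 0 (L false (-1) 1 0) (L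
  false 1 (-1) 0)) (L false (-1) 1 0)) (L true 0 1 0)) (L false (-1) 1 0))))) (L true (-1) 0 0)) (R
  4 3 (R 6 0 (R 5 4 (R 2 1 (L true 1 0 0) (R 5 0 (L true 0 (-1) 0) (R 1 2 (R 4 0 (L false 1 (-1) 0)
  (R 2 2 (R 4 1 (R 1 0 (L false 1 (-1) 0) (R 4 0 (R 1 0 (L false 1 (-1) 0) (R 2 1 (L true 1 0 0) (L
  false 1 (-1) 0))) (L false (-1) 1 0))) (L false (-1) 1 0)) (L true (-1) 0 0))) (R 4 0 (R 1 6 (L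
  false 1 (-1) 0) (R 2 9 (L true 1 0 0) (R 5 0 (R 1 3 (L false 1 (-1) 0) (L false (-1) 1 0)) (L
  true 0 1 0)))) (L false (-1) 1 0))))) (L true 0 1 0)) (L false (-1) 1 0)) (L false (-1) 1 0))) (L
  true (-1) 0 0)) (L false (-1) 1 0))) (R 4 1 (R 1 3 (R 2 3 (R 1 2 (R 6 30 (R 5 3 (L true 0 (-1) 0)
  (R 5 61 (R 2 2 (R 6 3 (R 5 7 (R 1 0 (R 4 0 (L false 1 (-1) 0) (R 6 0 (L false 1 (-1) 0) (L false
  (-1) 1 0))) (R 4 0 (R 2 0 (L true 1 0 0) (R 6 0 (L false 1 (-1) 0) (R 1 0 (R 6 0 (L false 1 (-1)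
  0) (R 6 0 (R 2 0 (L false (-1) 1 0) (L false 1 (-1) 0)) (L false (-1) 1 0))) (L false (-1) 1
  0)))) (L false (-1) 1 0))) (L true 0 1 0)) (R 1 0 (R 4 0 (R 6 5 (L false 1 (-1) 0) (R 2 0 (R 6 0
  (R 5 39 (L false (-1) 1 0) (L false 1 (-1) 0)) (L false (-1) 1 0)) (L true (-1) 0 0))) (L false
  (-1) 1 0)) (L false (-1) 1 0))) (L true (-1) 0 0)) (L true 0 1 0))) (L false (-1) 1 0)) (L false
  (-1) 1 0)) (L true (-1) 0 0)) (L false (-1) 1 0)) (L false (-1) 1 0))) (L false (-1) 1 0)))))) (L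
  false 1 0 0))) (L true 0 (-1) 0))) (S 4 (S 5 (S 2 (R 3 1 (R 2 0 (L true (-1) 0 0) (R 3 0 (R 6 0
  (R 4 0 (L false (-1) 1 0) (L true 0 1 0)) (L false (-1) 1 0)) (R 1 0 (R 4 0 (R 6 29 (L false 1
  (-1) 0) (R 5 1 (L true 0 (-1) 0) (L false 1 (-1) 0))) (L false 1 (-1) 0)) (L false 1 (-1) 0))))
  (L false 1 0 0)) (L true (-1) 0 0)) (S 2 (R 3 0 (R 6 0 (R 1 1 (L false (-1) 1 0) (R 4 1 (L true 0
  (-1) 0) (R 1 11 (R 4 29 (R 2 2 (L true (-1) 0 0) (R 5 29 (R 2 11 (R 1 1 (R 4 1 (L false (-1) 1 0)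
  (R 5 1 (L true 0 1 0) (R 4 1 (L false (-1) 1 0) (R 5 1 (L true 0 1 0) (R 2 1 (R 4 14 (R 5 14 (R 1
  0 (R 4 9 (L false (-1) 1 0) (R 5 9 (L true 0 1 0) (R 4 2 (L false (-1) 1 0) (R 2 0 (R 5 3 (L
  false 1 (-1) 0) (R 4 0 (L false (-1) 1 0) (L false 1 (-1) 0))) (L true 1 0 0))))) (L false 1 (-1)
  0)) (L true 0 (-1) 0)) (L false 1 (-1) 0)) (L true 1 0 0)))))) (R 4 2 (R 5 2 (R 4 1 (R 5 1 (R 1 4
  (R 2 1 (L true (-1) 0 0) (R 2 4 (R 1 1 (R 4 0 (L false (-1) 1 0) (R 5 0 (L false 1 (-1) 0) (R 1 0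
  (L false (-1) 1 0) (L false 1 (-1) 0)))) (R 4 0 (R 5 0 (R 1 0 (L false (-1) 1 0) (L false 1 (-1)
  0)) (L true 0 (-1) 0)) (L false 1 (-1) 0))) (L true 1 0 0))) (L false 1 (-1) 0)) (L true 0 (-1)
  0)) (L false 1 (-1) 0)) (L true 0 (-1) 0)) (L false 1 (-1) 0))) (L true 1 0 0)) (L true 0 (-1)
  0))) (L false 1 (-1) 0)) (L false 1 (-1) 0)))) (L false (-1) 1 0)) (L false 1 (-1) 0)) (L true
  (-1) 0 0))) (S 5 (S 2 (R 3 0 (R 5 1 (L true 0 (-1) 0) (R 2 0 (L true (-1) 0 0) (R 6 0 (R 1 1 (R 4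
  0 (L false 1 (-1) 0) (R 1 0 (L false (-1) 1 0) (R 4 5 (R 4 3 (L false 1 (-1) 0) (R 5 6 (R 2 1 (R
  5 4 (L true 0 (-1) 0) (R 4 0 (L false 1 (-1) 0) (R 2 0 (L false 1 (-1) 0) (L false (-1) 1 0))))
  (L true 1 0 0)) (L true 0 1 0))) (L false (-1) 1 0)))) (L false 1 (-1) 0)) (R 4 1 (R 1 0 (L false
  (-1) 1 0) (R 5 1 (L true 0 (-1) 0) (R 2 0 (L true (-1) 0 0) (R 4 0 (R 1 3 (R 6 1 (L false 1 (-1)
  0) (R 1 0 (L false (-1) 1 0) (R 6 3 (L false 1 (-1) 0) (R 2 3 (R 5 11 (L true 0 (-1) 0) (R 1 1 (R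
  6 23 (R 5 46 (R 2 0 (L true (-1) 0 0) (R 2 1 (R 6 4 (R 1 0 (R 6 0 (L false 1 (-1) 0) (L false
  (-1) 1 0)) (L false 1 (-1) 0)) (R 1 0 (L false (-1) 1 0) (R 6 10 (L false 1 (-1) 0) (R 5 31 (L
  true 0 (-1) 0) (R 6 2 (R 2 0 (L false 1 (-1) 0) (R 6 0 (L false 1 (-1) 0) (L false (-1) 1 0))) (L
  false (-1) 1 0)))))) (L true 1 0 0))) (L true 0 1 0)) (L false (-1) 1 0)) (L false 1 (-1) 0))) (L
  true 1 0 0))))) (L false 1 (-1) 0)) (R 6 0 (R 1 5 (R 1 3 (L false (-1) 1 0) (R 5 1 (R 2 5 (R 1 0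
  (L false (-1) 1 0) (L false 1 (-1) 0)) (L true 1 0 0)) (L true 0 1 0))) (L false 1 (-1) 0)) (L
  false (-1) 1 0)))))) (L false (-1) 1 0))))) (L false 1 (-1) 0)) (L true (-1) 0 0)) (L true 0 (-1)
  0)))))), ([⟨0, 0, 1, 25, 53, 75, true⟩, ⟨0, 0, 1, 25, 53, 75, true⟩, ⟨0, 0, 1, 25, 53, 75, true⟩,
  ⟨0, 0, 1, 25, 53, 75, true⟩, ⟨1, 0, 0, 16, 76, 52, true⟩, ⟨1, 0, 1, 1, 65, 63, true⟩, ⟨2, 1, 2,
  49, 25, 39, true⟩, ⟨0, 1, 0, 16, 76, 52, true⟩, ⟨0, 1, 4, 1, 65, 63, true⟩, ⟨0, 2, 4, 9, 13, 51,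
  true⟩], S 6 (L false 1 0 0) (S 9 (S 4 (S 7 (S 8 (S 5 (R 6 0 (L false (-1) 1 0) (L false 1 0 0))
  (R 6 0 (L false (-1) 1 0) (L false 1 0 0))) (S 5 (R 6 0 (L false (-1) 1 0) (L false 1 0 0)) (R 6
  0 (L false (-1) 1 0) (L false 1 0 0)))) (S 8 (S 5 (R 6 0 (L true 1 0 0) (L false 1 0 0)) (R 6 0
  (R 9 0 (L false (-1) 1 0) (R 7 1 (L true 0 1 0) (R 4 0 (L true (-1) 0 0) (L false (-1) 1 0)))) (L
  false 1 0 0))) (S 5 (R 6 0 (L true 1 0 0) (L false 1 0 0)) (R 6 0 (R 9 0 (L false (-1) 1 0) (R 7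
  7 (R 4 0 (L true (-1) 0 0) (R 9 0 (L false (-1) 1 0) (R 7 1 (R 8 0 (L true 0 1 0) (R 7 0 (R 9 5
  (R 8 11 (R 4 0 (L false 1 (-1) 0) (R 8 0 (L true 0 1 0) (R 5 0 (L true 1 0 0) (R 9 1 (R 4 4 (R 5
  4 (R 8 2 (R 4 1 (R 9 0 (R 4 0 (R 8 0 (R 5 0 (L false (-1) 1 0) (L false 1 (-1) 0)) (L true 0 (-1)
  0)) (L false (-1) 1 0)) (L false 1 (-1) 0)) (R 9 0 (L false (-1) 1 0) (R 8 1 (L true 0 1 0) (R 4
  0 (L false 1 (-1) 0) (R 5 2 (L true 1 0 0) (R 4 0 (L false 1 (-1) 0) (L false (-1) 1 0))))))) (L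
  true 0 (-1) 0)) (L true (-1) 0 0)) (L false (-1) 1 0)) (R 4 8 (L false 1 (-1) 0) (R 8 3 (L true 0
  1 0) (R 9 2 (R 5 8 (L true 1 0 0) (R 9 1 (R 4 3 (L false 1 (-1) 0) (R 8 2 (R 4 451 (R 5 3 (L true
  1 0 0) (R 5 451 (R 4 15 (R 9 0 (R 4 2 (R 8 0 (R 4 1 (L false 1 (-1) 0) (R 5 2 (L false (-1) 1 0)
  (L true (-1) 0 0))) (L true 0 (-1) 0)) (L false (-1) 1 0)) (L false 1 (-1) 0)) (R 9 0 (L false
  (-1) 1 0) (R 4 88 (L false 1 (-1) 0) (R 8 1 (L true 0 1 0) (R 5 104 (L true 1 0 0) (R 4 93 (L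
  false 1 (-1) 0) (R 4 19 (R 5 93 (L true 1 0 0) (R 5 19 (R 4 10 (L false 1 (-1) 0) (R 4 1 (R 5 10
  (L true 1 0 0) (R 4 0 (L false 1 (-1) 0) (R 5 6 (L false (-1) 1 0) (L false 1 (-1) 0)))) (L false
  (-1) 1 0))) (L true (-1) 0 0))) (L false (-1) 1 0)))))))) (L true (-1) 0 0))) (L false (-1) 1 0))
  (L true 0 (-1) 0))) (L false 1 (-1) 0))) (L false 1 (-1) 0)))))))) (L true 0 (-1) 0)) (L false 1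
  (-1) 0)) (R 4 0 (R 9 74 (L false (-1) 1 0) (R 8 1 (L true 0 1 0) (L false (-1) 1 0))) (L false
  (-1) 1 0)))) (L false (-1) 1 0)))) (L false (-1) 1 0))) (L false 1 0 0))))) (S 7 (S 8 (S 5 (R 6 1
  (L true 0 1 0) (L false 1 0 0)) (L true (-1) 0 0)) (S 5 (R 6 1 (R 9 0 (L false 0 1 0) (R 6 0 (L
  false (-1) 1 0) (R 4 2 (R 8 0 (L true 0 1 0) (R 9 45 (R 5 2 (L true (-1) 0 0) (R 5 2 (R 9 31 (R 9
  1 (R 4 0 (R 9 0 (L false (-1) 1 0) (R 7 1 (L false (-1) 1 0) (L false 1 (-1) 0))) (R 7 0 (R 9 0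
  (R 8 0 (R 4 0 (L false (-1) 1 0) (L false 1 (-1) 0)) (L true 0 (-1) 0)) (L false 1 (-1) 0)) (L
  false 1 (-1) 0))) (R 7 0 (R 4 0 (R 9 12 (L false (-1) 1 0) (R 8 29 (L true 0 1 0) (R 9 10 (L
  false (-1) 1 0) (R 8 32 (R 5 0 (R 9 0 (R 8 21 (L true 0 1 0) (L false (-1) 1 0)) (L false 1 (-1)
  0)) (L true 1 0 0)) (L true 0 (-1) 0))))) (L false 1 (-1) 0)) (L false 1 (-1) 0))) (L false 1
  (-1) 0)) (L true 1 0 0))) (L false 1 (-1) 0))) (L false 1 (-1) 0)))) (L false 1 0 0)) (L true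
  (-1) 0 0))) (S 8 (S 5 (R 6 1 (R 9 0 (L false (-1) 1 0) (R 7 0 (L true 0 1 0) (R 6 0 (L false (-1)
  1 0) (R 9 0 (R 4 0 (R 7 5 (L false 1 (-1) 0) (R 8 5 (L true 0 (-1) 0) (R 5 3 (R 5 2 (L true (-1)
  0 0) (R 7 10 (R 8 10 (R 7 8 (L false 1 (-1) 0) (R 8 8 (L true 0 (-1) 0) (R 7 0 (L false 1 (-1) 0)
  (L false (-1) 1 0)))) (L true 0 1 0)) (L false (-1) 1 0))) (L true 1 0 0)))) (L false 1 (-1) 0))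
  (L false 1 (-1) 0))))) (L false 1 0 0)) (L true (-1) 0 0)) (S 5 (R 6 1 (R 9 0 (L false (-1) 1 0)
  (R 5 0 (L true (-1) 0 0) (R 6 0 (R 7 0 (R 9 2 (L false (-1) 1 0) (R 4 2 (L false (-1) 1 0) (R 8 5
  (L true 0 1 0) (R 4 0 (L false (-1) 1 0) (R 5 3 (L true (-1) 0 0) (R 9 2 (R 8 4 (R 4 18 (L false
  (-1) 1 0) (R 9 0 (L false (-1) 1 0) (R 8 1 (L true 0 1 0) (R 5 18 (L true (-1) 0 0) (R 9 0 (L
  false (-1) 1 0) (R 4 10 (R 5 10 (R 4 6 (L false (-1) 1 0) (R 8 1 (L true 0 1 0) (R 4 1 (R 5 6 (L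
  true (-1) 0 0) (L false (-1) 1 0)) (L false 1 (-1) 0)))) (L true 1 0 0)) (L false 1 (-1) 0)))))))
  (L true 0 (-1) 0)) (R 4 15 (R 8 5 (L true 0 1 0) (R 5 15 (R 9 3622 (R 8 7244 (R 9 7 (R 4 2 (L
  false (-1) 1 0) (R 8 14 (R 5 2 (L true (-1) 0 0) (R 9 2 (R 4 2 (L false (-1) 1 0) (R 8 4 (R 5 2
  (L true (-1) 0 0) (R 4 3 (R 9 0 (L false (-1) 1 0) (R 4 2 (R 9 0 (L false (-1) 1 0) (R 4 0 (R 8 3
  (L true 0 1 0) (L false (-1) 1 0)) (L false 1 (-1) 0))) (L false 1 (-1) 0))) (R 9 0 (R 4 2 (L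
  false (-1) 1 0) (R 8 0 (L false 1 (-1) 0) (L true 0 (-1) 0))) (L false 1 (-1) 0)))) (L true 0
  (-1) 0))) (R 4 2 (R 9 3 (R 8 5 (L true 0 1 0) (R 5 2 (R 4 1 (R 9 0 (L false (-1) 1 0) (R 8 1 (L
  true 0 1 0) (R 8 4 (R 9 1 (R 4 0 (L false (-1) 1 0) (R 9 0 (R 8 0 (R 5 1 (L false 1 (-1) 0) (L
  false (-1) 1 0)) (L true 0 (-1) 0)) (L false 1 (-1) 0))) (L false 1 (-1) 0)) (L true 0 (-1) 0))))
  (L false 1 (-1) 0)) (L true 1 0 0))) (L false 1 (-1) 0)) (L false 1 (-1) 0)))) (L true 0 (-1)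
  0))) (R 4 2 (R 8 15 (L true 0 1 0) (R 5 2 (R 9 203 (R 8 406 (R 9 13 (R 4 0 (L false (-1) 1 0) (R
  8 26 (R 5 0 (L true (-1) 0 0) (R 9 4 (R 4 0 (L false (-1) 1 0) (R 9 1 (L false (-1) 1 0) (L false
  1 (-1) 0))) (R 4 0 (R 9 5 (L false (-1) 1 0) (R 8 21 (L true 0 1 0) (R 9 0 (R 5 0 (L false 1 (-1)
  0) (L false (-1) 1 0)) (L false 1 (-1) 0)))) (L false 1 (-1) 0)))) (L true 0 (-1) 0))) (R 4 0 (R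
  9 84 (L false (-1) 1 0) (R 8 197 (L true 0 1 0) (R 5 0 (R 9 28 (R 9 26 (L false (-1) 1 0) (R 8 56
  (R 8 53 (L true 0 1 0) (R 9 0 (L false (-1) 1 0) (L false 1 (-1) 0))) (L true 0 (-1) 0))) (L
  false 1 (-1) 0)) (L true 1 0 0)))) (L false 1 (-1) 0))) (L true 0 (-1) 0)) (L false 1 (-1) 0)) (L
  true 1 0 0))) (L false 1 (-1) 0))) (L true 0 (-1) 0)) (L false 1 (-1) 0)) (L true 1 0 0))) (L
  false 1 (-1) 0)))))))) (L false (-1) 1 0)) (R 9 0 (L true 0 (-1) 0) (L false 1 (-1) 0))))) (L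
  false 1 0 0)) (L true (-1) 0 0))))) (S 4 (S 7 (S 8 (S 5 (R 6 0 (L true 1 0 0) (L false 1 0 0)) (R
  6 0 (R 9 5 (R 4 0 (L true (-1) 0 0) (R 9 1 (R 7 2 (R 9 0 (R 8 0 (R 7 0 (L false (-1) 1 0) (L true
  0 1 0)) (L true 0 1 0)) (L false (-1) 1 0)) (L true 0 1 0)) (L false (-1) 1 0))) (L false (-1) 1
  0)) (L false 1 0 0))) (S 5 (R 6 0 (L true 1 0 0) (L false 1 0 0)) (R 6 0 (R 9 8 (R 7 1 (L true 0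
  (-1) 0) (R 9 0 (L false 1 (-1) 0) (R 4 1 (R 5 0 (R 4 0 (L true (-1) 0 0) (R 9 0 (R 7 14 (L false
  (-1) 1 0) (R 8 12 (L true 0 1 0) (L false (-1) 1 0))) (L false (-1) 1 0))) (L true (-1) 0 0)) (L
  false (-1) 1 0)))) (L false (-1) 1 0)) (L false 1 0 0)))) (S 8 (S 5 (R 6 0 (L true 1 0 0) (L
  false 1 0 0)) (R 6 0 (R 9 0 (L false 1 (-1) 0) (R 7 0 (L false 1 (-1) 0) (R 8 4 (L true 0 (-1) 0)
  (R 4 0 (L true (-1) 0 0) (R 9 65 (R 9 1 (R 7 0 (R 9 0 (L false 1 (-1) 0) (R 4 4 (L false 1 (-1)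
  0) (R 4 6 (R 8 2 (R 5 4 (L true 1 0 0) (R 4 3 (L false 1 (-1) 0) (R 5 6 (R 8 1 (L true 0 (-1) 0)
  (R 4 0 (R 5 0 (L false (-1) 1 0) (L false 1 (-1) 0)) (L false (-1) 1 0))) (L true (-1) 0 0)))) (L
  true 0 1 0)) (L false (-1) 1 0)))) (R 4 20 (R 5 20 (R 4 1 (R 5 1 (R 7 1 (R 9 0 (L false 1 (-1) 0)
  (R 8 4 (R 4 0 (L false 1 (-1) 0) (R 7 0 (R 5 0 (L false (-1) 1 0) (L false 1 (-1) 0)) (L false
  (-1) 1 0))) (L true 0 1 0))) (R 8 2 (L true 0 (-1) 0) (R 9 0 (R 7 1 (L false 1 (-1) 0) (R 7 3 (R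
  4 0 (L false 1 (-1) 0) (R 8 5 (R 5 0 (L false (-1) 1 0) (R 7 1 (L false 1 (-1) 0) (L false (-1) 1
  0))) (L true 0 1 0))) (R 4 0 (R 7 67 (L false 1 (-1) 0) (R 5 0 (R 8 73 (L true 0 (-1) 0) (R 7 90
  (R 8 90 (R 7 71 (L false 1 (-1) 0) (R 8 71 (L true 0 (-1) 0) (R 7 8 (R 7 7 (L false 1 (-1) 0) (R
  8 3 (L false (-1) 1 0) (L false 1 (-1) 0))) (L false (-1) 1 0)))) (L true 0 1 0)) (L false (-1) 1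
  0))) (L false 1 (-1) 0))) (L false (-1) 1 0)))) (R 7 0 (R 8 2 (R 4 0 (R 5 0 (L false (-1) 1 0) (L
  false 1 (-1) 0)) (L false (-1) 1 0)) (L true 0 1 0)) (L false (-1) 1 0))))) (L true (-1) 0 0)) (R
  7 3 (R 9 0 (R 8 4 (R 5 1 (L true 1 0 0) (R 8 0 (L true 0 (-1) 0) (R 4 2 (R 7 0 (L false 1 (-1) 0)
  (R 5 2 (R 7 1 (R 4 0 (L false 1 (-1) 0) (R 7 0 (R 4 0 (L false 1 (-1) 0) (R 5 1 (L true 1 0 0) (L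
  false 1 (-1) 0))) (L false (-1) 1 0))) (L false (-1) 1 0)) (L true (-1) 0 0))) (R 7 0 (R 4 6 (L
  false 1 (-1) 0) (R 5 9 (L true 1 0 0) (R 8 0 (R 4 3 (L false 1 (-1) 0) (L false (-1) 1 0)) (L
  true 0 1 0)))) (L false (-1) 1 0))))) (L true 0 1 0)) (L false (-1) 1 0)) (L false (-1) 1 0))) (L
  true (-1) 0 0)) (L false (-1) 1 0))) (R 7 1 (R 4 3 (R 5 3 (R 4 2 (R 9 30 (R 8 3 (L true 0 (-1) 0)
  (R 8 61 (R 5 2 (R 9 3 (R 8 7 (R 4 0 (R 7 0 (L false 1 (-1) 0) (R 9 0 (L false 1 (-1) 0) (L false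
  (-1) 1 0))) (R 7 0 (R 5 0 (L true 1 0 0) (R 9 0 (L false 1 (-1) 0) (R 4 0 (R 9 0 (L false 1 (-1)
  0) (R 9 0 (R 5 0 (L false (-1) 1 0) (L false 1 (-1) 0)) (L false (-1) 1 0))) (L false (-1) 1
  0)))) (L false (-1) 1 0))) (L true 0 1 0)) (R 4 0 (R 7 0 (R 9 5 (L false 1 (-1) 0) (R 5 0 (R 9 0
  (R 8 39 (L false (-1) 1 0) (L false 1 (-1) 0)) (L false (-1) 1 0)) (L true (-1) 0 0))) (L false
  (-1) 1 0)) (L false (-1) 1 0))) (L true (-1) 0 0)) (L true 0 1 0))) (L false (-1) 1 0)) (L false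
  (-1) 1 0)) (L true (-1) 0 0)) (L false (-1) 1 0)) (L false (-1) 1 0))) (L false (-1) 1 0)))))) (L
  false 1 0 0))) (L true 0 (-1) 0))) (S 7 (S 8 (S 5 (R 6 1 (R 5 0 (L true (-1) 0 0) (R 6 0 (R 9 0
  (R 7 0 (L false (-1) 1 0) (L true 0 1 0)) (L false (-1) 1 0)) (R 4 0 (R 7 0 (R 9 29 (L false 1
  (-1) 0) (R 8 1 (L true 0 (-1) 0) (L false 1 (-1) 0))) (L false 1 (-1) 0)) (L false 1 (-1) 0))))
  (L false 1 0 0)) (L true (-1) 0 0)) (S 5 (R 6 0 (R 9 0 (R 4 1 (L false (-1) 1 0) (R 7 1 (L true 0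
  (-1) 0) (R 4 11 (R 7 29 (R 5 2 (L true (-1) 0 0) (R 8 29 (R 5 11 (R 4 1 (R 7 1 (L false (-1) 1 0)
  (R 8 1 (L true 0 1 0) (R 7 1 (L false (-1) 1 0) (R 8 1 (L true 0 1 0) (R 5 1 (R 7 14 (R 8 14 (R 4
  0 (R 7 9 (L false (-1) 1 0) (R 8 9 (L true 0 1 0) (R 7 2 (L false (-1) 1 0) (R 5 0 (R 8 3 (L
  false 1 (-1) 0) (R 7 0 (L false (-1) 1 0) (L false 1 (-1) 0))) (L true 1 0 0))))) (L false 1 (-1)
  0)) (L true 0 (-1) 0)) (L false 1 (-1) 0)) (L true 1 0 0)))))) (R 7 2 (R 8 2 (R 7 1 (R 8 1 (R 4 4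
  (R 5 1 (L true (-1) 0 0) (R 5 4 (R 4 1 (R 7 0 (L false (-1) 1 0) (R 8 0 (L false 1 (-1) 0) (R 4 0
  (L false (-1) 1 0) (L false 1 (-1) 0)))) (R 7 0 (R 8 0 (R 4 0 (L false (-1) 1 0) (L false 1 (-1)
  0)) (L true 0 (-1) 0)) (L false 1 (-1) 0))) (L true 1 0 0))) (L false 1 (-1) 0)) (L true 0 (-1)
  0)) (L false 1 (-1) 0)) (L true 0 (-1) 0)) (L false 1 (-1) 0))) (L true 1 0 0)) (L true 0 (-1)
  0))) (L false 1 (-1) 0)) (L false 1 (-1) 0)))) (L false (-1) 1 0)) (L false 1 (-1) 0)) (L true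
  (-1) 0 0))) (S 8 (S 5 (R 6 0 (R 8 1 (L true 0 (-1) 0) (R 5 0 (L true (-1) 0 0) (R 9 0 (R 4 1 (R 7
  0 (L false 1 (-1) 0) (R 4 0 (L false (-1) 1 0) (R 7 5 (R 7 3 (L false 1 (-1) 0) (R 8 6 (R 5 1 (R
  8 4 (L true 0 (-1) 0) (R 7 0 (L false 1 (-1) 0) (R 5 0 (L false 1 (-1) 0) (L false (-1) 1 0))))
  (L true 1 0 0)) (L true 0 1 0))) (L false (-1) 1 0)))) (L false 1 (-1) 0)) (R 7 1 (R 4 0 (L false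
  (-1) 1 0) (R 8 1 (L true 0 (-1) 0) (R 5 0 (L true (-1) 0 0) (R 7 0 (R 4 3 (R 9 1 (L false 1 (-1)
  0) (R 4 0 (L false (-1) 1 0) (R 9 3 (L false 1 (-1) 0) (R 5 3 (R 8 11 (L true 0 (-1) 0) (R 4 1 (R
  9 23 (R 8 46 (R 5 0 (L true (-1) 0 0) (R 5 1 (R 9 4 (R 4 0 (R 9 0 (L false 1 (-1) 0) (L false
  (-1) 1 0)) (L false 1 (-1) 0)) (R 4 0 (L false (-1) 1 0) (R 9 10 (L false 1 (-1) 0) (R 8 31 (L
  true 0 (-1) 0) (R 9 2 (R 5 0 (L false 1 (-1) 0) (R 9 0 (L false 1 (-1) 0) (L false (-1) 1 0))) (L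
  false (-1) 1 0)))))) (L true 1 0 0))) (L true 0 1 0)) (L false (-1) 1 0)) (L false 1 (-1) 0))) (L
  true 1 0 0))))) (L false 1 (-1) 0)) (R 9 0 (R 4 5 (R 4 3 (L false (-1) 1 0) (R 8 1 (R 5 5 (R 4 0
  (L false (-1) 1 0) (L false 1 (-1) 0)) (L true 1 0 0)) (L true 0 1 0))) (L false 1 (-1) 0)) (L
  false (-1) 1 0)))))) (L false (-1) 1 0))))) (L false 1 (-1) 0)) (L true (-1) 0 0)) (L true 0 (-1)
  0)))))), ([⟨0, 0, 1, 25, 53, 75, true⟩, ⟨0, 0, 1, 25, 53, 75, true⟩, ⟨1, 0, 0, 16, 76, 52, true⟩,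
  ⟨1, 0, -1, 81, 87, 41, true⟩, ⟨2, 1, 4, 4, 14, 114, true⟩, ⟨0, 1, 0, 16, 76, 52, true⟩, ⟨0, 1, 0,
  16, 76, 52, true⟩, ⟨0, 2, 4, 9, 13, 51, true⟩], S 7 (S 3 (L false 1 0 0) (S 4 (S 2 (S 5 (S 6 (L
  false 0 1 0) (R 3 0 (L false (-1) 1 0) (L false 1 0 0))) (S 6 (R 3 0 (L false (-1) 1 0) (L false
  1 0 0)) (R 3 0 (L true 1 0 0) (L false 1 0 0)))) (S 5 (S 6 (L false 0 1 0) (R 3 1 (R 7 0 (L false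
  0 1 0) (R 3 0 (L false (-1) 1 0) (R 2 0 (R 4 1 (L false 1 0 0) (L true 1 0 0)) (L false 1 0 0))))
  (L false 1 0 0))) (S 6 (R 3 1 (R 7 0 (L false 0 1 0) (R 3 0 (L false (-1) 1 0) (R 2 0 (R 4 1 (L
  false 1 0 0) (L true 1 0 0)) (L false 1 0 0)))) (L false 1 0 0)) (R 3 1 (R 7 0 (L false 0 1 0) (R
  3 0 (L false (-1) 1 0) (R 2 0 (R 4 1 (L false 1 0 0) (L true 1 0 0)) (L false 1 0 0)))) (L false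
  1 0 0))))) (S 2 (S 5 (S 6 (R 3 0 (L false (-1) 1 0) (L false 1 0 0)) (R 3 0 (L false (-1) 1 0) (L
  false 1 0 0))) (S 6 (R 3 0 (L false (-1) 1 0) (L false 1 0 0)) (R 3 0 (L false (-1) 1 0) (L false
  1 0 0)))) (L true (-1) 0 0)))) (S 3 (L false 1 0 0) (S 4 (S 2 (S 5 (S 6 (R 3 0 (L false (-1) 1 0)
  (L false 1 0 0)) (R 3 0 (L true 1 0 0) (L false 1 0 0))) (S 6 (R 3 0 (L true 1 0 0) (L false 1 0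
  0)) (R 3 0 (L true 1 0 0) (L false 1 0 0)))) (S 5 (S 6 (R 3 1 (R 3 0 (L false (-1) 1 0) (R 2 0 (R
  4 1 (L false 1 0 0) (L true 1 0 0)) (L false 1 0 0))) (L false 1 0 0)) (R 3 1 (R 3 0 (L false
  (-1) 1 0) (R 2 0 (R 4 1 (L false 1 0 0) (L true 1 0 0)) (L false 1 0 0))) (L false 1 0 0))) (S 6
  (R 3 1 (R 3 0 (L false (-1) 1 0) (R 2 0 (R 4 1 (L false 1 0 0) (L true 1 0 0)) (L false 1 0 0)))
  (L false 1 0 0)) (R 3 1 (R 4 2 (L true 0 (-1) 0) (R 2 3 (L true 1 0 0) (R 3 0 (R 7 0 (R 6 0 (R 5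
  0 (R 4 0 (R 2 1 (L false (-1) 1 0) (L true (-1) 0 0)) (L true 0 1 0)) (L false (-1) 1 0)) (L
  false (-1) 1 0)) (L false (-1) 1 0)) (L false 1 0 0)))) (L false 1 0 0))))) (S 2 (S 5 (S 6 (R 3 0
  (L false (-1) 1 0) (L false 1 0 0)) (R 3 0 (L false (-1) 1 0) (L false 1 0 0))) (S 6 (R 3 0 (L
  false (-1) 1 0) (L false 1 0 0)) (L true 0 (-1) 0))) (L true (-1) 0 0)))))]

theorem c15_1_ok : c15_1.all (fun p => chk true p.2 p.1) = true := by decide +kernel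

open Tr in
def c15_2 : List (List V × Tr) :=
  [([⟨0, 0, 1, 25, 53, 75, true⟩, ⟨0, 0, 1, 25, 53, 75, true⟩, ⟨0, 1, 2, 36, 26, 102, true⟩, ⟨1, 0,
  0, 16, 76, 52, true⟩, ⟨1, 0, 1, 1, 65, 63, true⟩, ⟨0, 1, 2, 9, 13, 51, true⟩, ⟨2, 1, 2, 49, 25,
  39, true⟩, ⟨0, 0, 4, 25, 53, 75, true⟩], S 6 (L false 1 0 0) (S 2 (S 5 (S 3 (S 4 (R 6 0 (L false
  (-1) 1 0) (L false 1 0 0)) (R 6 0 (L false (-1) 1 0) (L false 1 0 0))) (S 4 (R 6 1 (R 2 1 (R 2 0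
  (L false 0 1 0) (R 5 0 (L false (-1) 1 0) (L true 0 1 0))) (L true 0 1 0)) (L false 1 0 0)) (L
  true (-1) 0 0))) (S 3 (S 4 (R 6 0 (L true 1 0 0) (L false 1 0 0)) (R 6 0 (R 2 3 (L false (-1) 1
  0) (R 3 1 (R 5 2 (L true 0 1 0) (L false (-1) 1 0)) (L false (-1) 1 0))) (L false 1 0 0))) (S 4
  (R 6 1 (R 2 0 (L false (-1) 1 0) (R 6 0 (L false (-1) 1 0) (R 2 1 (R 5 0 (R 3 0 (R 2 0 (L true 0
  (-1) 0) (L false 1 (-1) 0)) (L false 1 (-1) 0)) (L true 0 (-1) 0)) (L false 1 (-1) 0)))) (L false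
  1 0 0)) (L true (-1) 0 0)))) (S 5 (S 3 (S 4 (R 6 0 (L true 1 0 0) (L false 1 0 0)) (R 6 0 (R 5 1
  (L true 0 (-1) 0) (R 2 10 (R 2 0 (L false 1 (-1) 0) (R 3 5 (R 5 10 (R 3 0 (L true (-1) 0 0) (R 2
  1 (R 5 2 (R 2 0 (R 5 0 (L true 0 (-1) 0) (R 3 1 (R 4 1 (R 3 0 (L false 1 (-1) 0) (L false (-1) 1
  0)) (L true (-1) 0 0)) (L false (-1) 1 0))) (L false (-1) 1 0)) (L true 0 1 0)) (L false (-1) 1
  0))) (L true 0 1 0)) (L false (-1) 1 0))) (L false (-1) 1 0))) (L false 1 0 0))) (S 4 (R 6 1 (R 5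
  1 (L true 0 (-1) 0) (R 6 0 (R 2 0 (R 5 0 (R 3 4 (L false (-1) 1 0) (R 3 1 (R 4 2 (L true (-1) 0
  0) (L false (-1) 1 0)) (L false 1 (-1) 0))) (L true 0 1 0)) (L false (-1) 1 0)) (L false 1 (-1)
  0))) (L false 1 0 0)) (L true (-1) 0 0))) (L true 0 (-1) 0)))), ([⟨1, 0, -1, 81, 87, 41, true⟩,
  ⟨1, 0, 1, 1, 65, 63, true⟩, ⟨1, 0, 1, 1, 65, 63, true⟩, ⟨1, 1, 2, 100, 38, 90, true⟩, ⟨0, 1, 2,
  9, 13, 51, true⟩, ⟨0, 1, 2, 9, 13, 51, true⟩, ⟨0, 0, 4, 25, 53, 75, true⟩], S 3 (S 0 (L false 1 0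
  0) (S 4 (S 5 (L false 0 1 0) (S 1 (S 2 (R 0 0 (L false (-1) 1 0) (L false 1 0 0)) (R 0 0 (L false
  (-1) 1 0) (L false 1 0 0))) (S 2 (R 0 0 (L false (-1) 1 0) (L false 1 0 0)) (R 0 0 (L false (-1)
  1 0) (L false 1 0 0))))) (S 5 (S 1 (S 2 (R 0 0 (L false (-1) 1 0) (L false 1 0 0)) (R 0 0 (L
  false (-1) 1 0) (L false 1 0 0))) (S 2 (R 0 0 (L false (-1) 1 0) (L false 1 0 0)) (R 0 0 (L false
  (-1) 1 0) (L false 1 0 0)))) (S 1 (S 2 (R 0 0 (L false (-1) 1 0) (L false 1 0 0)) (R 0 0 (L false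
  (-1) 1 0) (L false 1 0 0))) (S 2 (R 0 0 (L false (-1) 1 0) (L false 1 0 0)) (R 0 0 (L false (-1)
  1 0) (L false 1 0 0))))))) (S 0 (S 4 (S 5 (S 1 (S 2 (R 3 0 (L true 1 0 0) (L false 1 0 0)) (R 3 0
  (R 5 0 (R 4 0 (L false 0 1 0) (L false 1 (-1) 0)) (L false 1 (-1) 0)) (L false 1 0 0))) (S 2 (R 3
  0 (R 5 0 (R 4 0 (L false 0 1 0) (L false 1 (-1) 0)) (L false 1 (-1) 0)) (L false 1 0 0)) (R 3 0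
  (R 5 0 (R 4 0 (L false 0 1 0) (L false 1 (-1) 0)) (L false 1 (-1) 0)) (L false 1 0 0)))) (L false
  1 (-1) 0)) (L false 1 (-1) 0)) (S 4 (S 5 (S 1 (S 2 (R 0 0 (L false (-1) 1 0) (R 3 5 (R 5 6 (R 4 6
  (R 3 0 (R 5 1 (R 4 1 (R 0 0 (R 5 0 (L false (-1) 1 0) (R 4 0 (L false (-1) 1 0) (L true 0 1 0)))
  (R 4 0 (R 5 0 (L false 0 1 0) (R 0 3 (L false (-1) 1 0) (L false 1 (-1) 0))) (R 5 0 (R 0 3 (L
  false (-1) 1 0) (L false 1 (-1) 0)) (L false 1 (-1) 0)))) (L true 0 1 0)) (L true 0 1 0)) (R 0 1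
  (R 5 0 (L false 0 1 0) (R 4 0 (L false 0 1 0) (R 0 0 (R 5 0 (R 4 0 (R 3 0 (R 2 2 (R 1 2 (L false
  1 (-1) 0) (L true 1 0 0)) (L true 1 0 0)) (L true 0 (-1) 0)) (L false 1 (-1) 0)) (L false 1 (-1)
  0)) (L false 1 (-1) 0)))) (L false 1 0 0))) (L true 0 1 0)) (L true 0 1 0)) (L false 1 0 0))) (R
  0 0 (L false (-1) 1 0) (R 3 5 (R 5 6 (R 4 6 (R 1 2 (L true (-1) 0 0) (R 3 0 (R 5 1 (R 4 1 (R 0 0
  (L false (-1) 1 0) (R 4 0 (R 5 0 (L false 0 1 0) (R 0 4 (R 0 3 (L false (-1) 1 0) (R 2 2 (L false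
  (-1) 1 0) (R 1 7 (L true (-1) 0 0) (R 2 6 (L false (-1) 1 0) (R 2 59 (R 1 66 (R 1 6 (L true (-1)
  0 0) (R 2 4 (L false (-1) 1 0) (R 2 21 (R 1 4 (L true (-1) 0 0) (R 1 21 (R 2 11 (R 1 11 (R 2 7 (R
  2 1 (L false (-1) 1 0) (R 1 7 (R 2 3 (R 1 1 (L true (-1) 0 0) (R 2 1 (L false (-1) 1 0) (R 1 1 (L
  false 1 (-1) 0) (R 2 0 (L false (-1) 1 0) (R 1 1 (L false 1 (-1) 0) (L false (-1) 1 0)))))) (L
  false 1 (-1) 0)) (L true 1 0 0))) (L false 1 (-1) 0)) (L true 1 0 0)) (L false 1 (-1) 0)) (L true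
  1 0 0))) (L false 1 (-1) 0)))) (L true 1 0 0)) (L false 1 (-1) 0)))))) (L false 1 (-1) 0))) (R 5
  0 (R 0 4 (R 0 3 (L false (-1) 1 0) (R 2 2 (L false (-1) 1 0) (R 1 7 (L true (-1) 0 0) (R 2 6 (L
  false (-1) 1 0) (R 2 59 (R 1 66 (R 1 6 (L true (-1) 0 0) (R 2 4 (L false (-1) 1 0) (R 2 21 (R 1 4
  (L true (-1) 0 0) (R 1 21 (R 2 11 (R 1 11 (R 2 7 (R 2 1 (L false (-1) 1 0) (R 1 7 (R 2 3 (R 1 1
  (L true (-1) 0 0) (R 2 1 (L false (-1) 1 0) (R 1 1 (L false 1 (-1) 0) (R 2 0 (L false (-1) 1 0)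
  (R 1 1 (L false 1 (-1) 0) (L false (-1) 1 0)))))) (L false 1 (-1) 0)) (L true 1 0 0))) (L false 1
  (-1) 0)) (L true 1 0 0)) (L false 1 (-1) 0)) (L true 1 0 0))) (L false 1 (-1) 0)))) (L true 1 0
  0)) (L false 1 (-1) 0)))))) (L false 1 (-1) 0)) (L false 1 (-1) 0)))) (L true 0 1 0)) (L true 0 1
  0)) (R 0 2 (R 5 0 (L false 0 1 0) (R 4 0 (L false 0 1 0) (R 0 0 (R 5 0 (R 4 0 (L false (-1) 1 0)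
  (L false 1 (-1) 0)) (L false 1 (-1) 0)) (L false 1 (-1) 0)))) (L false 1 0 0)))) (L true 0 1 0))
  (L true 0 1 0)) (L false 1 0 0)))) (S 2 (R 0 0 (L false (-1) 1 0) (R 3 5 (R 5 6 (R 4 6 (R 2 2 (L
  true (-1) 0 0) (R 3 0 (R 5 1 (R 4 1 (R 0 0 (L false (-1) 1 0) (R 4 0 (R 5 0 (L false 0 1 0) (R 0
  4 (R 0 3 (L false (-1) 1 0) (R 1 2 (L false (-1) 1 0) (R 2 7 (L true (-1) 0 0) (R 1 6 (L false
  (-1) 1 0) (R 1 59 (R 2 66 (R 2 6 (L true (-1) 0 0) (R 1 4 (L false (-1) 1 0) (R 1 21 (R 2 4 (L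
  true (-1) 0 0) (R 2 21 (R 1 11 (R 2 11 (R 1 7 (R 1 1 (L false (-1) 1 0) (R 2 7 (R 1 3 (R 2 1 (L
  true (-1) 0 0) (R 1 1 (L false (-1) 1 0) (R 2 1 (L false 1 (-1) 0) (R 1 0 (L false (-1) 1 0) (R 2
  1 (L false 1 (-1) 0) (L false (-1) 1 0)))))) (L false 1 (-1) 0)) (L true 1 0 0))) (L false 1 (-1)
  0)) (L true 1 0 0)) (L false 1 (-1) 0)) (L true 1 0 0))) (L false 1 (-1) 0)))) (L true 1 0 0)) (L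
  false 1 (-1) 0)))))) (L false 1 (-1) 0))) (R 5 0 (R 0 4 (R 0 3 (L false (-1) 1 0) (R 1 2 (L false
  (-1) 1 0) (R 2 7 (L true (-1) 0 0) (R 1 6 (L false (-1) 1 0) (R 1 59 (R 2 66 (R 2 6 (L true (-1)
  0 0) (R 1 4 (L false (-1) 1 0) (R 1 21 (R 2 4 (L true (-1) 0 0) (R 2 21 (R 1 11 (R 2 11 (R 1 7 (R
  1 1 (L false (-1) 1 0) (R 2 7 (R 1 3 (R 2 1 (L true (-1) 0 0) (R 1 1 (L false (-1) 1 0) (R 2 1 (L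
  false 1 (-1) 0) (R 1 0 (L false (-1) 1 0) (R 2 1 (L false 1 (-1) 0) (L false (-1) 1 0)))))) (L
  false 1 (-1) 0)) (L true 1 0 0))) (L false 1 (-1) 0)) (L true 1 0 0)) (L false 1 (-1) 0)) (L true
  1 0 0))) (L false 1 (-1) 0)))) (L true 1 0 0)) (L false 1 (-1) 0)))))) (L false 1 (-1) 0)) (L
  false 1 (-1) 0)))) (L true 0 1 0)) (L true 0 1 0)) (R 0 2 (R 5 0 (L false 0 1 0) (R 4 0 (L false
  0 1 0) (R 0 0 (R 5 0 (R 4 0 (L false (-1) 1 0) (L false 1 (-1) 0)) (L false 1 (-1) 0)) (L false 1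
  (-1) 0)))) (L false 1 0 0)))) (L true 0 1 0)) (L true 0 1 0)) (L false 1 0 0))) (L true (-1) 0
  0))) (S 1 (S 2 (R 0 3 (R 4 1 (L true 0 (-1) 0) (R 0 0 (L false (-1) 1 0) (L false 1 (-1) 0))) (L
  false 1 (-1) 0)) (R 0 3 (R 4 1 (L true 0 (-1) 0) (R 0 0 (L false (-1) 1 0) (L false 1 (-1) 0)))
  (L false 1 (-1) 0))) (S 2 (R 0 3 (R 4 1 (L true 0 (-1) 0) (R 0 0 (L false (-1) 1 0) (L false 1
  (-1) 0))) (L false 1 (-1) 0)) (L true (-1) 0 0)))) (S 5 (S 1 (S 2 (R 0 3 (R 5 1 (L true 0 (-1) 0)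
  (R 0 0 (L false (-1) 1 0) (L false 1 (-1) 0))) (L false 1 (-1) 0)) (R 0 3 (R 5 1 (L true 0 (-1)
  0) (R 0 0 (L false (-1) 1 0) (L false 1 (-1) 0))) (L false 1 (-1) 0))) (S 2 (R 0 3 (R 5 1 (L true
  0 (-1) 0) (R 0 0 (L false (-1) 1 0) (L false 1 (-1) 0))) (L false 1 (-1) 0)) (L true (-1) 0 0)))
  (L true 0 (-1) 0))))), ([⟨0, 0, 1, 25, 53, 75, true⟩, ⟨0, 0, 1, 25, 53, 75, true⟩, ⟨1, 0, 0, 16,
  76, 52, true⟩, ⟨1, 0, 0, 16, 76, 52, true⟩, ⟨1, 0, 1, 1, 65, 63, true⟩, ⟨1, 1, 2, 100, 38, 90,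
  true⟩, ⟨0, 1, 2, 9, 13, 51, true⟩, ⟨0, 1, 2, 9, 13, 51, true⟩, ⟨0, 0, 4, 25, 53, 75, true⟩], S 5
  (L false 1 0 0) (S 6 (S 7 (S 2 (S 3 (S 4 (R 5 0 (L true 1 0 0) (L false 1 0 0)) (R 5 0 (R 7 0 (R
  6 0 (L false 0 1 0) (L false 1 (-1) 0)) (L false 1 (-1) 0)) (L false 1 0 0))) (S 4 (R 5 0 (R 7 1
  (R 6 1 (R 6 0 (R 7 0 (L false 0 1 0) (R 3 0 (R 2 0 (L false 1 (-1) 0) (L true 1 0 0)) (L false 1
  (-1) 0))) (R 3 0 (R 7 0 (R 2 0 (L false 1 (-1) 0) (L true 1 0 0)) (L false 1 (-1) 0)) (L false 1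
  (-1) 0))) (L true 0 1 0)) (L true 0 1 0)) (L false 1 0 0)) (R 5 0 (R 7 1 (R 6 1 (R 2 1 (L true
  (-1) 0 0) (R 6 0 (R 7 0 (L false 0 1 0) (R 3 0 (L false (-1) 1 0) (L false 1 (-1) 0))) (R 3 0 (R
  7 0 (L false (-1) 1 0) (L false 1 (-1) 0)) (L false 1 (-1) 0)))) (L true 0 1 0)) (L true 0 1 0))
  (L false 1 0 0)))) (S 3 (S 4 (R 5 0 (R 7 1 (R 6 1 (R 6 0 (R 7 0 (L false 0 1 0) (R 2 0 (R 3 0 (L
  false 1 (-1) 0) (L true 1 0 0)) (L false 1 (-1) 0))) (R 2 0 (R 7 0 (R 3 0 (L false 1 (-1) 0) (L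
  true 1 0 0)) (L false 1 (-1) 0)) (L false 1 (-1) 0))) (L true 0 1 0)) (L true 0 1 0)) (L false 1
  0 0)) (R 5 0 (R 7 1 (R 6 1 (R 3 1 (L true (-1) 0 0) (R 6 0 (R 7 0 (L false 0 1 0) (R 2 0 (L false
  (-1) 1 0) (L false 1 (-1) 0))) (R 2 0 (R 7 0 (L false (-1) 1 0) (L false 1 (-1) 0)) (L false 1
  (-1) 0)))) (L true 0 1 0)) (L true 0 1 0)) (L false 1 0 0))) (S 4 (R 5 2 (R 7 3 (R 6 3 (R 4 1 (L
  true (-1) 0 0) (R 6 0 (R 5 0 (R 7 0 (L false 0 1 0) (R 3 0 (L false (-1) 1 0) (R 2 3 (R 2 0 (L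
  false (-1) 1 0) (R 3 2 (R 7 0 (R 3 0 (L false (-1) 1 0) (R 2 0 (L false (-1) 1 0) (L false 1 (-1)
  0))) (L true 0 1 0)) (L false 1 (-1) 0))) (L false 1 (-1) 0)))) (L false 0 1 0)) (R 7 0 (R 5 0 (R
  3 0 (L false (-1) 1 0) (R 2 3 (R 2 0 (L false (-1) 1 0) (R 3 2 (R 6 0 (R 3 0 (L false (-1) 1 0)
  (R 2 0 (L false (-1) 1 0) (L false 1 (-1) 0))) (L true 0 1 0)) (L false 1 (-1) 0))) (L false 1
  (-1) 0))) (L false 0 1 0)) (L false 1 (-1) 0)))) (L true 0 1 0)) (L true 0 1 0)) (L false 1 0 0))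
  (L true (-1) 0 0)))) (S 2 (S 3 (L false 1 (-1) 0) (S 4 (R 5 0 (R 6 0 (L true 0 (-1) 0) (L false 1
  (-1) 0)) (L false 1 0 0)) (R 5 0 (R 6 0 (L true 0 (-1) 0) (L false 1 (-1) 0)) (L false 1 0 0))))
  (S 3 (S 4 (R 5 0 (R 6 0 (L true 0 (-1) 0) (L false 1 (-1) 0)) (L false 1 0 0)) (R 5 0 (R 6 0 (L
  true 0 (-1) 0) (L false 1 (-1) 0)) (L false 1 0 0))) (S 4 (R 6 0 (L true 0 (-1) 0) (L false 1
  (-1) 0)) (L true (-1) 0 0))))) (S 7 (S 2 (S 3 (L false 1 (-1) 0) (S 4 (R 5 0 (R 7 0 (L true 0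
  (-1) 0) (L false 1 (-1) 0)) (L false 1 0 0)) (R 5 0 (R 7 0 (L true 0 (-1) 0) (L false 1 (-1) 0))
  (L false 1 0 0)))) (S 3 (S 4 (R 5 0 (R 7 0 (L true 0 (-1) 0) (L false 1 (-1) 0)) (L false 1 0 0))
  (R 5 0 (R 7 0 (L true 0 (-1) 0) (L false 1 (-1) 0)) (L false 1 0 0))) (S 4 (R 7 0 (L true 0 (-1)
  0) (L false 1 (-1) 0)) (L true (-1) 0 0)))) (L false 1 (-1) 0)))), ([⟨1, 0, 0, 16, 76, 52, true⟩,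
  ⟨1, 0, 0, 16, 76, 52, true⟩, ⟨1, 0, 0, 16, 76, 52, true⟩, ⟨1, 1, 3, 25, 27, 165, true⟩, ⟨0, 1, 0,
  64, 88, 40, true⟩, ⟨0, 1, 2, 9, 13, 51, true⟩, ⟨0, 0, 4, 25, 53, 75, true⟩], S 3 (L false 1 0 0)
  (S 4 (S 5 (S 0 (L false 1 0 0) (S 1 (L false 1 0 0) (S 2 (L false 1 0 0) (L true (-1) 0 0)))) (S
  0 (L false 1 0 0) (S 1 (L false 1 0 0) (S 2 (L false 1 0 0) (L true (-1) 0 0))))) (S 5 (S 0 (L
  false 1 0 0) (S 1 (L false 1 0 0) (S 2 (L false 1 0 0) (L true (-1) 0 0)))) (L false 1 (-1)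
  0)))), ([⟨0, 0, 1, 25, 53, 75, true⟩, ⟨0, 0, 1, 25, 53, 75, true⟩, ⟨0, 0, 1, 25, 53, 75, true⟩,
  ⟨0, 1, 1, 121, 37, 27, true⟩, ⟨1, 0, 0, 16, 76, 52, true⟩, ⟨1, 0, -1, 81, 87, 41, true⟩, ⟨0, 1,
  2, 9, 13, 51, true⟩, ⟨2, 1, 4, 4, 14, 114, true⟩, ⟨0, 0, 0, 0, 64, 64, true⟩], S 3 (S 5 (L false
  1 0 0) (S 6 (S 7 (L false 0 1 0) (S 4 (R 5 0 (L false (-1) 1 0) (L false 1 0 0)) (L true (-1) 0
  0))) (S 7 (S 4 (R 5 0 (L false (-1) 1 0) (L false 1 0 0)) (R 3 10 (L false 0 1 0) (R 5 1 (R 5 0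
  (L false (-1) 1 0) (R 4 0 (R 7 1 (L false 1 0 0) (L true 1 0 0)) (L false 1 0 0))) (L false 1 0
  0)))) (S 4 (R 5 0 (L false (-1) 1 0) (L false 1 0 0)) (L true (-1) 0 0))))) (S 5 (L false 1 0 0)
  (S 6 (S 7 (S 4 (R 5 0 (L true 1 0 0) (L false 1 0 0)) (R 3 0 (L false 1 (-1) 0) (R 5 1 (R 7 0 (L
  true (-1) 0 0) (R 3 0 (R 6 0 (R 5 0 (L false (-1) 1 0) (L false 1 (-1) 0)) (L true 0 1 0)) (R 5 0
  (L false (-1) 1 0) (R 4 0 (R 6 0 (L true 1 (-2) 0) (R 7 0 (L false 1 0 0) (L true 1 0 0))) (L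
  false 1 0 0))))) (L false 1 0 0)))) (S 4 (R 5 0 (R 3 0 (L false 1 (-1) 0) (R 3 1 (R 6 2 (L true 0
  (-1) 0) (R 3 0 (L false 1 (-1) 0) (R 4 0 (L true (-1) 0 0) (L false (-1) 1 0)))) (L false (-1) 1
  0))) (L false 1 0 0)) (L true (-1) 0 0))) (S 7 (S 4 (R 5 0 (L true 1 0 0) (L false 1 0 0)) (R 3 1
  (L false 1 (-1) 0) (R 5 1 (R 7 2 (L true 0 (-1) 0) (R 4 3 (L true 1 0 0) (R 5 0 (R 3 0 (R 6 0 (R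
  7 0 (R 4 1 (L false (-1) 1 0) (L true (-1) 0 0)) (L false (-1) 1 0)) (L false (-1) 1 0)) (L false
  (-1) 1 0)) (L false 1 0 0)))) (L false 1 0 0)))) (L true 0 (-1) 0))))), ([⟨0, 0, 1, 25, 53, 75,
  true⟩, ⟨0, 0, 1, 25, 53, 75, true⟩, ⟨0, 1, 2, 36, 26, 102, true⟩, ⟨1, 0, 0, 16, 76, 52, true⟩,
  ⟨1, 0, -1, 81, 87, 41, true⟩, ⟨0, 1, 0, 64, 88, 40, true⟩, ⟨2, 1, 4, 4, 14, 114, true⟩, ⟨0, 0, 0,
  0, 64, 64, true⟩], S 2 (S 4 (L false 1 0 0) (S 5 (S 6 (L false 0 1 0) (S 3 (R 4 0 (L false (-1) 1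
  0) (L false 1 0 0)) (L true (-1) 0 0))) (S 6 (S 3 (R 4 0 (L true 1 0 0) (L false 1 0 0)) (R 4 1
  (R 6 0 (L true (-1) 0 0) (R 5 0 (L true 0 1 0) (R 2 0 (L false 0 1 0) (R 4 0 (L false (-1) 1 0)
  (R 3 0 (R 6 0 (L false 1 0 0) (L true 1 0 0)) (L false 1 0 0)))))) (L false 1 0 0))) (S 3 (R 4 0
  (R 5 0 (R 2 0 (L false (-1) 1 0) (L false 1 (-1) 0)) (L false (-1) 1 0)) (L false 1 0 0)) (L true
  (-1) 0 0))))) (S 4 (L false 1 0 0) (S 5 (S 6 (S 3 (R 4 0 (L false (-1) 1 0) (L false 1 0 0)) (R 4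
  1 (R 4 0 (L false (-1) 1 0) (R 3 0 (R 6 1 (L false 1 0 0) (L true 1 0 0)) (L false 1 0 0))) (L
  false 1 0 0))) (S 3 (R 4 0 (L false (-1) 1 0) (L false 1 0 0)) (L true (-1) 0 0))) (S 6 (S 3 (R 4
  0 (L true 1 0 0) (L false 1 0 0)) (R 4 1 (R 6 1 (L true 0 (-1) 0) (R 5 0 (L false 1 (-1) 0) (R 3
  3 (L true 1 (-2) 0) (R 4 0 (R 2 0 (R 5 0 (R 6 1 (R 3 1 (L false (-1) 1 0) (L true (-1) 0 0)) (L
  true 0 1 0)) (L false (-1) 1 0)) (L false (-1) 1 0)) (L false 1 0 0))))) (L false 1 0 0))) (L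
  true 0 (-1) 0))))), ([⟨0, 0, 1, 25, 53, 75, true⟩, ⟨0, 0, 1, 25, 53, 75, true⟩, ⟨0, 0, 1, 25, 53,
  75, true⟩, ⟨0, 1, 1, 121, 37, 27, true⟩, ⟨1, 0, 0, 16, 76, 52, true⟩, ⟨1, 0, 1, 1, 65, 63, true⟩,
  ⟨0, 1, 4, 4, 66, 126, true⟩, ⟨2, 1, 2, 49, 25, 39, true⟩, ⟨0, 0, 0, 0, 64, 64, true⟩], S 3 (S 7
  (L false 1 0 0) (S 4 (S 6 (S 5 (R 7 0 (L false (-1) 1 0) (L false 1 0 0)) (R 7 0 (L false (-1) 1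
  0) (L false 1 0 0))) (S 5 (R 7 0 (L true 1 0 0) (L false 1 0 0)) (R 7 0 (L false (-1) 1 0) (L
  false 1 0 0)))) (S 6 (S 5 (R 7 1 (R 3 0 (L false 0 1 0) (L true 0 1 0)) (L false 1 0 0)) (L true
  (-1) 0 0)) (S 5 (R 7 1 (R 3 2 (L false (-1) 1 0) (R 7 0 (L false (-1) 1 0) (R 3 5 (R 4 4 (R 6 5
  (R 3 0 (L false 0 1 0) (R 4 1 (R 6 0 (L true 0 1 0) (R 3 3 (R 5 4 (R 5 2 (L true (-1) 0 0) (R 4 0
  (L false (-1) 1 0) (R 3 0 (L false (-1) 1 0) (L false 1 (-1) 0)))) (L true 1 0 0)) (L false 1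
  (-1) 0))) (L false 1 (-1) 0))) (L true 0 (-1) 0)) (L false 1 0 0)) (L false 1 (-1) 0)))) (L false
  1 0 0)) (L true (-1) 0 0))))) (S 7 (L false 1 0 0) (S 4 (S 6 (S 5 (R 7 0 (L true 1 0 0) (L false
  1 0 0)) (R 7 0 (R 3 5 (L false 1 (-1) 0) (R 6 5 (L true 0 (-1) 0) (R 3 34 (R 4 0 (L true (-1) 0
  0) (R 3 6 (R 6 6 (R 3 2 (R 4 2 (L false 1 (-1) 0) (R 3 0 (L false 1 (-1) 0) (R 4 33 (R 5 2 (L
  true 1 0 0) (R 6 2 (R 6 0 (L true 0 (-1) 0) (R 5 33 (R 4 22 (R 5 22 (R 4 3 (R 3 0 (L false 1 (-1)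
  0) (R 4 1 (R 4 0 (L false 1 (-1) 0) (R 5 1 (L false (-1) 1 0) (L true (-1) 0 0))) (L false (-1) 1
  0))) (R 3 0 (R 4 9 (L false 1 (-1) 0) (R 5 13 (L true 1 0 0) (R 6 0 (R 4 5 (L false 1 (-1) 0) (L
  false (-1) 1 0)) (L true 0 1 0)))) (L false (-1) 1 0))) (L true (-1) 0 0)) (L false (-1) 1 0)) (L
  true (-1) 0 0))) (L true 0 1 0))) (L false (-1) 1 0)))) (R 4 1 (R 5 1 (R 3 2 (R 6 2 (L true 0
  (-1) 0) (R 4 0 (L false 1 (-1) 0) (R 3 0 (L false 1 (-1) 0) (L false (-1) 1 0)))) (L false (-1) 1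
  0)) (L true (-1) 0 0)) (L false (-1) 1 0))) (L true 0 1 0)) (L false (-1) 1 0))) (L false (-1) 1
  0)))) (L false 1 0 0))) (L true 0 (-1) 0)) (S 6 (S 5 (R 7 0 (R 3 2 (L false 1 (-1) 0) (R 3 4 (R 6
  2 (L true 0 (-1) 0) (R 6 4 (R 4 0 (L false (-1) 1 0) (R 3 1 (L false 1 (-1) 0) (R 4 0 (L false
  (-1) 1 0) (R 6 1 (L true 0 (-1) 0) (R 5 2 (L true (-1) 0 0) (R 3 1 (R 4 6 (R 4 0 (L false (-1) 1
  0) (R 3 0 (L false 1 (-1) 0) (R 4 3 (L false (-1) 1 0) (R 5 6 (R 6 0 (L true 0 (-1) 0) (R 6 0 (R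
  5 4 (L true (-1) 0 0) (R 4 0 (L false (-1) 1 0) (L false 1 (-1) 0))) (L true 0 1 0))) (L true 1 0
  0))))) (L false 1 (-1) 0)) (L false (-1) 1 0))))))) (L true 0 1 0))) (L false (-1) 1 0))) (L
  false 1 (-1) 0)) (L true (-1) 0 0)) (L true 0 (-1) 0))))), ([⟨0, 0, 1, 25, 53, 75, true⟩, ⟨0, 0,
  1, 25, 53, 75, true⟩, ⟨0, 1, 2, 36, 26, 102, true⟩, ⟨1, 0, -1, 81, 87, 41, true⟩, ⟨1, 0, 2, 36,
  54, 138, true⟩, ⟨0, 1, 2, 9, 13, 51, true⟩, ⟨2, 1, 2, 49, 25, 39, true⟩, ⟨0, 0, 0, 0, 64, 64,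
  true⟩], S 6 (S 2 (S 3 (L false 1 0 0) (S 5 (L false 0 1 0) (S 4 (R 3 0 (L true 1 0 0) (L false 1
  0 0)) (R 6 3 (L false 0 1 0) (R 3 1 (R 2 2 (L false 0 1 0) (R 3 0 (L false (-1) 1 0) (R 4 0 (L
  true 1 0 0) (L false 1 0 0)))) (L false 1 0 0)))))) (S 3 (L false 1 0 0) (S 5 (S 4 (R 3 0 (L true
  1 0 0) (L false 1 0 0)) (R 6 1 (L false 0 1 0) (R 3 1 (R 5 0 (L false 0 1 0) (R 3 0 (L false (-1)
  1 0) (R 4 0 (L true 1 0 0) (L false 1 0 0)))) (L false 1 0 0)))) (S 4 (R 3 0 (L true 1 0 0) (L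
  false 1 0 0)) (R 6 1 (L false 0 1 0) (R 3 1 (R 3 0 (L false (-1) 1 0) (R 4 0 (L true 1 0 0) (L
  false 1 0 0))) (L false 1 0 0))))))) (S 2 (S 3 (S 5 (S 4 (R 6 0 (L true 1 0 0) (L false 1 0 0))
  (R 6 1 (R 2 1 (R 2 0 (L false 0 1 0) (R 5 0 (L false (-1) 2 0) (L true 0 1 0))) (L true 0 1 0))
  (L false 1 0 0))) (S 4 (R 6 0 (L true 1 0 0) (L false 1 0 0)) (R 6 1 (R 2 0 (L false (-1) 2 0) (R
  3 1 (L true (-1) 0 0) (R 6 0 (R 2 0 (L false (-1) 1 0) (R 3 12 (R 4 12 (R 5 0 (L true 0 1 0) (R 2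
  1 (L false (-1) 1 0) (R 4 0 (L false (-1) 1 0) (R 3 2 (R 4 1 (R 3 0 (L true (-1) 0 0) (L false
  (-1) 1 0)) (L true (-1) 0 0)) (L false (-1) 1 0))))) (L true (-1) 0 0)) (L false (-1) 1 0))) (R 2
  0 (L true 0 (-1) 0) (L false 1 (-1) 0))))) (L false 1 0 0)))) (S 5 (S 4 (R 2 0 (L false 0 1 0) (R
  6 0 (L true 0 1 0) (R 5 0 (L false 0 1 0) (R 3 0 (L false (-1) 1 0) (R 4 5 (L true (-1) 2 0) (R 6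
  5 (R 2 4 (R 6 0 (L true 0 1 0) (R 3 1 (R 2 0 (L false 0 1 0) (R 5 3 (R 4 9 (R 6 0 (L true 0 1 0)
  (R 3 0 (R 2 2 (L false (-1) 2 0) (R 6 2 (L true 0 1 0) (L false 0 1 0))) (L false 1 0 0))) (L
  true 1 0 0)) (L true 0 1 0))) (L false 1 0 0))) (L true 0 1 0)) (L false 1 0 0))))))) (L true
  (-1) 0 0)) (S 4 (R 2 0 (L false (-1) 2 0) (R 3 0 (L false (-1) 1 0) (R 4 1 (L true (-1) 0 0) (R 6
  6 (R 6 0 (R 5 1 (R 2 1 (L false (-1) 1 0) (L true 0 1 0)) (L false (-1) 1 0)) (R 3 8 (R 2 0 (L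
  true 0 (-1) 0) (R 3 2 (R 4 14 (R 4 1 (L true (-1) 0 0) (R 6 0 (R 4 2 (R 3 1 (R 4 1 (R 3 0 (R 5 0
  (R 2 0 (L false (-1) 1 0) (L true 0 1 0)) (L false (-1) 1 0)) (R 2 1 (R 5 1 (R 5 0 (L false 1
  (-1) 0) (R 2 0 (L true 0 (-1) 0) (L false 1 (-1) 0))) (L true 0 (-1) 0)) (L false 1 (-1) 0))) (L
  true 1 0 0)) (L false 1 (-1) 0)) (L true 1 0 0)) (R 3 0 (R 2 0 (L true 0 (-1) 0) (R 4 1 (L true
  (-1) 0 0) (R 6 1 (R 4 2 (R 5 0 (L false 1 (-1) 0) (R 2 0 (L true 0 (-1) 0) (R 6 0 (R 2 1 (L false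
  (-1) 1 0) (R 5 1 (L true 0 1 0) (R 2 3 (L false (-1) 1 0) (R 5 3 (L true 0 1 0) (R 2 5 (L false
  (-1) 1 0) (R 4 0 (R 2 16 (R 5 22 (R 5 5 (L true 0 1 0) (R 2 4 (L false (-1) 1 0) (R 2 4 (R 5 4 (L
  true 0 1 0) (R 2 1 (L false (-1) 1 0) (R 5 4 (R 2 0 (R 5 2 (L false 1 (-1) 0) (L false (-1) 1 0))
  (L false 1 (-1) 0)) (L true 0 (-1) 0)))) (L false 1 (-1) 0)))) (L true 0 (-1) 0)) (L false 1 (-1)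
  0)) (L true 1 0 0))))))) (R 2 2 (R 5 1 (L false 1 (-1) 0) (L true 0 (-1) 0)) (L false 1 (-1)
  0))))) (L true 1 0 0)) (R 2 2 (R 5 0 (L false 1 (-1) 0) (L true 0 (-1) 0)) (L false 1 (-1) 0)))))
  (L false 1 (-1) 0)))) (L true 1 0 0)) (L false 1 (-1) 0))) (L false 1 (-1) 0))) (L false 1 0
  0))))) (L true (-1) 0 0)))) (S 3 (S 5 (S 4 (R 6 0 (L true 1 0 0) (L false 1 0 0)) (R 6 1 (R 5 1
  (L true 0 (-1) 0) (R 6 0 (R 3 1 (L true (-1) 0 0) (R 3 1 (R 4 1 (R 2 8 (R 2 0 (L false 1 (-1) 0)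
  (R 5 8 (R 5 0 (L true 0 (-1) 0) (R 2 1 (R 5 1 (R 3 0 (R 4 0 (R 2 0 (L false 1 (-1) 0) (L false
  (-1) 1 0)) (L false 1 (-1) 0)) (R 4 0 (L false (-1) 1 0) (R 2 0 (L false 1 (-1) 0) (L false (-1)
  1 0)))) (L true 0 1 0)) (R 4 0 (L false (-1) 1 0) (R 3 0 (L true (-1) 0 0) (L false (-1) 1 0)))))
  (L true 0 1 0))) (L false (-1) 1 0)) (L true (-1) 0 0)) (R 4 1 (L true 1 0 0) (R 2 26 (R 5 26 (R
  2 1 (R 5 1 (R 3 2 (R 4 2 (R 2 0 (L false 1 (-1) 0) (R 5 0 (L true 0 (-1) 0) (R 3 0 (L false 1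
  (-1) 0) (R 4 0 (L false (-1) 1 0) (R 3 0 (L false 1 (-1) 0) (L false (-1) 1 0)))))) (L true (-1)
  0 0)) (R 4 2 (L true 1 0 0) (R 3 4 (R 4 4 (R 2 0 (L false 1 (-1) 0) (R 5 0 (L false (-1) 1 0) (R
  4 1 (L false (-1) 1 0) (R 3 1 (L true (-1) 0 0) (L false (-1) 1 0))))) (L true (-1) 0 0)) (R 4 4
  (L true 1 0 0) (R 2 0 (R 4 5 (R 3 5 (L false 1 (-1) 0) (L true 1 0 0)) (L false 1 (-1) 0)) (R 3 1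
  (R 4 1 (L false (-1) 1 0) (L true (-1) 0 0)) (L false (-1) 1 0))))))) (L true 0 1 0)) (R 3 6 (R 4
  6 (R 2 3 (R 5 1 (L true 0 (-1) 0) (R 3 2 (R 4 2 (R 2 1 (R 4 0 (L false (-1) 1 0) (R 5 1 (R 2 0 (R
  3 0 (L true (-1) 0 0) (L false (-1) 1 0)) (L false (-1) 1 0)) (L true 0 1 0))) (L false (-1) 1
  0)) (L true (-1) 0 0)) (L false (-1) 1 0))) (L false (-1) 1 0)) (L true (-1) 0 0)) (L false (-1)
  1 0))) (L true 0 1 0)) (L false (-1) 1 0))))) (L false 1 (-1) 0))) (L false 1 0 0))) (L true 0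
  (-1) 0)) (S 5 (S 4 (R 5 1 (L true 0 (-1) 0) (R 4 0 (L true (-1) 0 0) (R 3 0 (L false (-1) 1 0) (R
  6 4 (R 4 0 (L true (-1) 0 0) (R 6 0 (R 3 2 (L false (-1) 1 0) (R 2 8 (R 4 2 (L true (-1) 0 0) (R
  2 1 (R 5 1 (R 3 3 (L false (-1) 1 0) (R 4 3 (L true (-1) 0 0) (R 2 0 (R 3 30 (R 4 30 (R 5 0 (R 3
  5 (L false (-1) 1 0) (R 4 5 (L true (-1) 0 0) (R 3 3 (L false (-1) 1 0) (R 3 8 (R 4 3 (L true
  (-1) 0 0) (R 4 8 (R 3 2 (L false (-1) 1 0) (R 4 2 (L true (-1) 0 0) (R 3 2 (R 4 2 (R 3 0 (L false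
  (-1) 1 0) (R 4 1 (L false 1 (-1) 0) (R 3 0 (L false (-1) 1 0) (L false 1 (-1) 0)))) (L true 1 0
  0)) (L false 1 (-1) 0)))) (L true 1 0 0))) (L false 1 (-1) 0))))) (L true 0 1 0)) (L true 1 0 0))
  (L false 1 (-1) 0)) (L false (-1) 1 0)))) (L true 0 1 0)) (L false (-1) 1 0))) (L false (-1) 1
  0))) (R 3 1 (R 4 9 (R 3 0 (R 2 0 (L false 1 (-1) 0) (R 6 1 (R 4 1 (L true (-1) 0 0) (R 4 2 (R 5 1
  (L true 0 (-1) 0) (R 2 0 (L false 1 (-1) 0) (R 5 0 (L true 0 (-1) 0) (R 6 0 (R 2 0 (R 5 0 (L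
  false (-1) 1 0) (L true 0 1 0)) (L false (-1) 1 0)) (R 2 54 (L false 1 (-1) 0) (R 5 2 (L true 0
  (-1) 0) (L false 1 (-1) 0))))))) (L true 1 0 0))) (L false 1 (-1) 0))) (L false 1 (-1) 0)) (L
  true 1 0 0)) (L false 1 (-1) 0)))) (L false 1 (-1) 0))))) (L true (-1) 0 0)) (L true 0 (-1)
  0))))), ([⟨0, 0, 1, 25, 53, 75, true⟩, ⟨0, 0, 1, 25, 53, 75, true⟩, ⟨0, 0, 2, 100, 42, 150,
  true⟩, ⟨0, 1, 2, 36, 26, 102, true⟩, ⟨1, 0, 0, 16, 76, 52, true⟩, ⟨1, 0, 1, 1, 65, 63, true⟩, ⟨0,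
  1, 2, 9, 13, 51, true⟩, ⟨2, 1, 2, 49, 25, 39, true⟩, ⟨0, 0, 0, 0, 64, 64, true⟩], S 7 (L false 1
  0 0) (S 3 (S 6 (S 4 (S 5 (R 7 0 (L false (-1) 1 0) (L false 1 0 0)) (R 7 0 (L false (-1) 1 0) (L
  false 1 0 0))) (S 5 (R 7 1 (R 3 1 (R 3 0 (L false 0 1 0) (R 6 0 (L false (-1) 1 0) (L true 0 1
  0))) (L true 0 1 0)) (L false 1 0 0)) (L true (-1) 0 0))) (S 4 (S 5 (R 7 0 (L true 1 0 0) (L
  false 1 0 0)) (R 7 0 (R 3 3 (L false (-1) 1 0) (R 4 1 (R 6 2 (L true 0 1 0) (L false (-1) 1 0))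
  (L false (-1) 1 0))) (L false 1 0 0))) (S 5 (R 7 1 (R 3 0 (L false (-1) 1 0) (R 7 0 (L false (-1)
  1 0) (R 3 1 (R 6 0 (R 4 0 (R 3 0 (L true 0 (-1) 0) (L false 1 (-1) 0)) (L false 1 (-1) 0)) (L
  true 0 (-1) 0)) (L false 1 (-1) 0)))) (L false 1 0 0)) (L true (-1) 0 0)))) (S 6 (S 4 (S 5 (R 7 0
  (L true 1 0 0) (L false 1 0 0)) (R 7 0 (R 6 1 (L true 0 (-1) 0) (R 3 10 (R 3 0 (L false 1 (-1) 0)
  (R 4 5 (R 6 10 (R 4 0 (L true (-1) 0 0) (R 3 1 (R 6 2 (R 3 0 (R 6 0 (L true 0 (-1) 0) (R 4 1 (R 5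
  1 (R 4 0 (L false 1 (-1) 0) (L false (-1) 1 0)) (L true (-1) 0 0)) (L false (-1) 1 0))) (L false
  (-1) 1 0)) (L true 0 1 0)) (L false (-1) 1 0))) (L true 0 1 0)) (L false (-1) 1 0))) (L false
  (-1) 1 0))) (L false 1 0 0))) (S 5 (R 7 1 (R 6 1 (L true 0 (-1) 0) (R 7 0 (R 3 0 (R 6 0 (R 4 4 (L
  false (-1) 1 0) (R 4 1 (R 5 2 (L true (-1) 0 0) (L false (-1) 1 0)) (L false 1 (-1) 0))) (L true
  0 1 0)) (L false (-1) 1 0)) (L false 1 (-1) 0))) (L false 1 0 0)) (L true (-1) 0 0))) (L true 0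
  (-1) 0)))), ([⟨0, 0, 1, 25, 53, 75, true⟩, ⟨0, 0, 1, 25, 53, 75, true⟩, ⟨0, 0, 1, 25, 53, 75,
  true⟩, ⟨0, 0, 1, 25, 53, 75, true⟩, ⟨0, 0, 1, 25, 53, 75, true⟩, ⟨0, 0, 1, 25, 53, 75, true⟩, ⟨0,
  1, 2, 36, 26, 102, true⟩, ⟨1, 0, 0, 16, 76, 52, true⟩, ⟨1, 0, 1, 1, 65, 63, true⟩, ⟨0, 1, 2, 9,
  13, 51, true⟩, ⟨2, 1, 2, 49, 25, 39, true⟩, ⟨0, 0, 0, 0, 64, 64, true⟩], S 10 (L false 1 0 0) (S
  6 (S 9 (S 7 (S 8 (R 10 0 (L false (-1) 1 0) (L false 1 0 0)) (R 10 0 (L false (-1) 1 0) (L false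
  1 0 0))) (S 8 (R 10 1 (R 6 1 (R 6 0 (L false 0 1 0) (R 9 0 (L false (-1) 1 0) (L true 0 1 0))) (L
  true 0 1 0)) (L false 1 0 0)) (L true (-1) 0 0))) (S 7 (S 8 (R 10 0 (L true 1 0 0) (L false 1 0
  0)) (R 10 0 (R 6 3 (L false (-1) 1 0) (R 7 1 (R 9 2 (L true 0 1 0) (L false (-1) 1 0)) (L false
  (-1) 1 0))) (L false 1 0 0))) (S 8 (R 10 1 (R 6 0 (L false (-1) 1 0) (R 10 0 (L false (-1) 1 0)
  (R 6 1 (R 9 0 (R 7 0 (R 6 0 (L true 0 (-1) 0) (L false 1 (-1) 0)) (L false 1 (-1) 0)) (L true 0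
  (-1) 0)) (L false 1 (-1) 0)))) (L false 1 0 0)) (L true (-1) 0 0)))) (S 9 (S 7 (S 8 (R 10 0 (L
  true 1 0 0) (L false 1 0 0)) (R 10 0 (R 9 1 (L true 0 (-1) 0) (R 6 10 (R 6 0 (L false 1 (-1) 0)
  (R 7 5 (R 9 10 (R 7 0 (L true (-1) 0 0) (R 6 1 (R 9 2 (R 6 0 (R 9 0 (L true 0 (-1) 0) (R 7 1 (R 8
  1 (R 7 0 (L false 1 (-1) 0) (L false (-1) 1 0)) (L true (-1) 0 0)) (L false (-1) 1 0))) (L false
  (-1) 1 0)) (L true 0 1 0)) (L false (-1) 1 0))) (L true 0 1 0)) (L false (-1) 1 0))) (L false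
  (-1) 1 0))) (L false 1 0 0))) (S 8 (R 10 1 (R 9 1 (L true 0 (-1) 0) (R 10 0 (R 6 0 (R 9 0 (R 7 4
  (L false (-1) 1 0) (R 7 1 (R 8 2 (L true (-1) 0 0) (L false (-1) 1 0)) (L false 1 (-1) 0))) (L
  true 0 1 0)) (L false (-1) 1 0)) (L false 1 (-1) 0))) (L false 1 0 0)) (L true (-1) 0 0))) (L
  true 0 (-1) 0)))), ([⟨0, 0, 1, 25, 53, 75, true⟩, ⟨0, 0, 1, 25, 53, 75, true⟩, ⟨0, 0, 1, 25, 53,
  75, true⟩, ⟨0, 1, 3, 1, 15, 177, true⟩, ⟨1, 0, 0, 16, 76, 52, true⟩, ⟨1, 0, 1, 1, 65, 63, true⟩,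
  ⟨0, 1, 0, 64, 88, 40, true⟩, ⟨2, 1, 2, 49, 25, 39, true⟩, ⟨0, 0, 0, 0, 64, 64, true⟩], S 7 (L
  false 1 0 0) (S 6 (S 4 (S 3 (S 5 (R 7 0 (L false (-1) 1 0) (L false 1 0 0)) (R 7 0 (L false (-1)
  1 0) (L false 1 0 0))) (S 5 (R 7 0 (L false (-1) 1 0) (L false 1 0 0)) (R 7 0 (L false (-1) 1 0)
  (L false 1 0 0)))) (S 3 (S 5 (R 7 1 (R 6 0 (L false (-1) 1 0) (L true 0 1 0)) (L false 1 0 0)) (L
  true (-1) 0 0)) (S 5 (R 7 1 (R 7 0 (L false (-1) 1 0) (R 6 3 (R 6 2 (L true 0 (-1) 0) (R 4 0 (R 3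
  0 (R 5 1 (L false 1 (-1) 0) (L false (-1) 1 0)) (L true 0 (-1) 0)) (L false 1 (-1) 0))) (L false
  1 (-1) 0))) (L false 1 0 0)) (L true (-1) 0 0)))) (S 4 (S 3 (S 5 (R 7 0 (L true 1 0 0) (L false 1
  0 0)) (R 7 0 (R 6 2 (L false 1 (-1) 0) (R 3 3 (L true 0 (-1) 0) (R 6 18 (R 4 0 (L true (-1) 0 0)
  (R 6 3 (R 3 3 (R 6 1 (R 4 1 (L false 1 (-1) 0) (R 5 1 (L true 1 0 0) (R 6 0 (L false 1 (-1) 0) (R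
  4 1 (R 5 0 (R 4 0 (L false 1 (-1) 0) (L true 1 0 0)) (L false 1 (-1) 0)) (L false (-1) 1 0)))))
  (R 4 0 (R 5 0 (R 6 0 (L false 1 (-1) 0) (L false (-1) 1 0)) (L true (-1) 0 0)) (L false (-1) 1
  0))) (L true 0 1 0)) (L false (-1) 1 0))) (L false (-1) 1 0)))) (L false 1 0 0))) (L true 0 (-1)
  0)) (S 3 (S 5 (R 7 0 (R 6 3 (R 6 0 (L false 1 (-1) 0) (R 3 1 (L true 0 (-1) 0) (R 6 0 (L false 1
  (-1) 0) (R 4 0 (L false (-1) 1 0) (R 3 2 (R 4 18 (R 4 0 (L false (-1) 1 0) (R 6 0 (L false 1 (-1)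
  0) (R 4 5 (L false (-1) 1 0) (R 5 8 (L true (-1) 0 0) (R 3 1 (L true 0 (-1) 0) (R 4 5 (L false
  (-1) 1 0) (R 5 11 (R 4 0 (R 5 5 (L true (-1) 0 0) (L false (-1) 1 0)) (L false 1 (-1) 0)) (L true
  1 0 0)))))))) (L false 1 (-1) 0)) (L true 0 1 0)))))) (L false (-1) 1 0)) (L false 1 (-1) 0)) (L
  true (-1) 0 0)) (L true 0 (-1) 0)))))]

theorem c15_2_ok : c15_2.all (fun p => chk true p.2 p.1) = true := by decide +kernel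

open Tr in
def c15_3 : List (List V × Tr) :=
  [([⟨1, 0, 0, 16, 76, 52, true⟩, ⟨1, 0, 0, 16, 76, 52, true⟩, ⟨1, 0, 2, 36, 54, 138, true⟩, ⟨1, 1,
  1, 225, 49, 79, true⟩, ⟨0, 1, 2, 9, 13, 51, true⟩, ⟨0, 1, 4, 4, 66, 126, true⟩, ⟨0, 0, 0, 0, 64,
  64, true⟩], S 3 (L false 1 0 0) (S 4 (S 2 (S 0 (S 1 (L false 1 (-1) 0) (S 5 (L true 0 (-1) 1) (R
  3 0 (L false 2 (-2) (-1)) (L false 2 (-2) 1)))) (S 1 (S 5 (L true 0 (-1) 1) (R 3 0 (L false 2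
  (-2) (-1)) (L false 2 (-2) 1))) (S 5 (L true 0 (-1) 1) (R 3 0 (R 4 0 (L true 0 (-1) 0) (L false 0
  0 (-1))) (L false 2 (-2) 1))))) (S 0 (S 1 (S 5 (R 3 0 (L false 0 0 (-1)) (L false 2 (-2) 1)) (L
  false 1 (-1) 0)) (S 5 (R 3 1 (R 4 0 (R 2 1 (R 3 0 (L false 0 0 (-1)) (L false 0 0 1)) (L true 0 4
  (-1))) (L false 0 0 (-1))) (L false 2 (-2) 1)) (R 3 1 (L true 0 2 (-1)) (L false 2 (-2) 1)))) (S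
  1 (S 5 (R 3 1 (R 4 0 (R 2 1 (R 3 0 (L false 0 0 (-1)) (L false 0 0 1)) (L true 0 4 (-1))) (L
  false 0 0 (-1))) (L false 2 (-2) 1)) (R 3 1 (L true 0 2 (-1)) (L false 2 (-2) 1))) (L true (-1) 0
  0)))) (L false 1 (-1) 0))), ([⟨0, 0, 1, 25, 53, 75, true⟩, ⟨0, 0, 1, 25, 53, 75, true⟩, ⟨1, 0, 0,
  16, 76, 52, true⟩, ⟨1, 0, 1, 1, 65, 63, true⟩, ⟨1, 0, 1, 1, 65, 63, true⟩, ⟨1, 1, 1, 225, 49, 79,
  true⟩, ⟨0, 1, 2, 9, 13, 51, true⟩, ⟨0, 1, 4, 4, 66, 126, true⟩, ⟨0, 0, 0, 0, 64, 64, true⟩], S 5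
  (L false 1 0 0) (S 6 (S 2 (L false 1 (-1) 0) (S 7 (S 3 (S 4 (R 6 0 (R 5 3 (R 2 0 (R 7 3 (R 7 0 (L
  false (-1) 1 0) (R 5 0 (L true 0 1 0) (R 4 3 (R 3 3 (R 5 0 (R 7 0 (R 4 0 (R 3 0 (L true (-1) 0 0)
  (L false (-1) 1 0)) (L false (-1) 1 0)) (L true 0 1 0)) (R 7 0 (L true 0 (-1) 0) (R 5 0 (R 7 0 (R
  4 1 (R 3 0 (L false 1 (-1) 0) (R 4 0 (R 3 0 (L false 1 (-1) 0) (L false (-1) 1 0)) (L false (-1)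
  1 0))) (L false (-1) 1 0)) (L true 0 1 0)) (R 7 0 (L true 0 (-1) 0) (R 4 0 (L false 1 (-1) 0) (R
  3 0 (L false 1 (-1) 0) (R 4 0 (R 3 0 (L true (-1) 0 0) (L false (-1) 1 0)) (L false (-1) 1
  0)))))))) (L true 1 0 0)) (L true 1 0 0)))) (L true 0 1 0)) (L false 1 (-1) 0)) (L false 0 1 0))
  (L false 1 (-1) 0)) (R 6 0 (R 5 3 (R 2 0 (R 7 3 (L false (-1) 1 0) (L true 0 1 0)) (L false 1
  (-1) 0)) (L false 0 1 0)) (L false 1 (-1) 0))) (S 4 (R 6 0 (R 5 3 (R 2 0 (R 7 3 (L false (-1) 1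
  0) (L true 0 1 0)) (L false 1 (-1) 0)) (L false 0 1 0)) (L false 1 (-1) 0)) (L true (-1) 0 0)))
  (S 3 (S 4 (R 6 0 (L true 0 (-1) 0) (L false 1 (-1) 0)) (R 6 0 (L true 0 (-1) 0) (L false 1 (-1)
  0))) (S 4 (R 6 0 (L true 0 (-1) 0) (L false 1 (-1) 0)) (L true (-1) 0 0))))) (L false 1 (-1)
  0))), ([⟨1, 0, -1, 81, 87, 41, true⟩, ⟨1, 0, 1, 1, 65, 63, true⟩, ⟨1, 0, 1, 1, 65, 63, true⟩, ⟨1,
  1, 2, 100, 38, 90, true⟩, ⟨0, 1, 0, 64, 88, 40, true⟩, ⟨0, 1, 4, 4, 66, 126, true⟩, ⟨0, 0, 0, 0,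
  64, 64, true⟩], S 3 (L false 1 0 1) (S 0 (L false 1 (-1) 0) (S 4 (S 5 (S 1 (S 2 (R 3 0 (L true 0
  0 1) (L false 1 0 1)) (R 3 0 (L false (-1) 1 (-1)) (L false 1 0 1))) (S 2 (R 3 0 (L false (-1) 1
  (-1)) (L false 1 0 1)) (L true (-1) 0 0))) (S 1 (S 2 (R 3 1 (R 0 3 (L true 1 0 (-1)) (L false 1 0
  (-1))) (L false 1 0 1)) (R 3 1 (R 0 3 (L true 1 0 (-1)) (L false 0 0 (-1))) (L false 1 0 1))) (S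
  2 (R 3 1 (R 0 3 (L true 1 0 (-1)) (L false 0 0 (-1))) (L false 1 0 1)) (L true (-1) 0 0)))) (L
  true (-1) (-4) 1)))), ([⟨0, 0, 1, 25, 53, 75, true⟩, ⟨0, 0, 1, 25, 53, 75, true⟩, ⟨1, 0, 0, 16,
  76, 52, true⟩, ⟨1, 0, 0, 16, 76, 52, true⟩, ⟨1, 0, 1, 1, 65, 63, true⟩, ⟨1, 1, 2, 100, 38, 90,
  true⟩, ⟨0, 1, 0, 64, 88, 40, true⟩, ⟨0, 1, 4, 4, 66, 126, true⟩, ⟨0, 0, 0, 0, 64, 64, true⟩], S 5
  (L false 1 0 0) (S 6 (S 2 (S 3 (L false 1 (-1) 0) (S 7 (S 4 (R 5 0 (L true 0 1 0) (L false 1 0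
  0)) (R 5 0 (L true 0 1 0) (L false 1 0 0))) (S 4 (R 5 0 (R 6 0 (L true 0 (-1) 0) (L false 1 (-1)
  0)) (L false 1 0 0)) (R 5 0 (R 6 0 (L true 0 (-1) 0) (L false 1 (-1) 0)) (L false 1 0 0))))) (S 3
  (S 7 (S 4 (R 5 0 (L true 0 1 0) (L false 1 0 0)) (R 5 0 (L true 0 1 0) (L false 1 0 0))) (S 4 (R
  5 0 (R 6 0 (L true 0 (-1) 0) (L false 1 (-1) 0)) (L false 1 0 0)) (R 5 0 (R 6 0 (L true 0 (-1) 0)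
  (L false 1 (-1) 0)) (L false 1 0 0)))) (S 7 (S 4 (R 5 2 (R 6 1 (R 5 0 (L true 0 1 0) (R 7 1 (R 6
  0 (L false 0 1 0) (R 3 0 (R 2 0 (L false (-1) 1 0) (L false 1 (-1) 0)) (L false 1 (-1) 0))) (L
  true 0 1 0))) (L false 1 (-1) 0)) (L false 1 0 0)) (L true (-1) 0 0)) (S 4 (R 5 2 (R 6 1 (L true
  0 (-1) 0) (L false 1 (-1) 0)) (L false 1 0 0)) (L true (-1) 0 0))))) (L false 1 (-1) 0)))]

theorem c15_3_ok : c15_3.all (fun p => chk true p.2 p.1) = true := by decide +kernel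

open Tr in
def c15_4 : List (List V × Tr) :=
  [([⟨0, 0, 1, 25, 53, 75, true⟩, ⟨0, 0, 1, 25, 53, 75, true⟩, ⟨1, 0, 0, 16, 76, 52, true⟩, ⟨1, 0,
  -1, 81, 87, 41, true⟩, ⟨1, 0, 2, 36, 54, 138, true⟩, ⟨1, 1, 2, 100, 38, 90, true⟩, ⟨0, 1, 2, 9,
  13, 51, true⟩, ⟨0, 1, 2, 9, 13, 51, true⟩, ⟨0, 0, 0, 0, 64, 64, true⟩], S 5 (S 3 (L false 1 0 0)
  (S 6 (S 7 (L false 0 1 0) (S 4 (S 2 (R 3 0 (L true 1 0 0) (L false 1 0 0)) (R 5 8 (L false 0 1 0)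
  (R 3 1 (R 6 0 (L false 0 1 0) (R 3 0 (L false (-1) 1 0) (R 2 0 (L true 1 0 0) (L false 1 0 0))))
  (L false 1 0 0)))) (S 2 (R 5 8 (L false 0 1 0) (R 3 1 (R 6 0 (L false 0 1 0) (R 3 0 (L false (-1)
  1 0) (R 4 0 (L true 1 0 0) (L false 1 0 0)))) (L false 1 0 0))) (R 5 8 (L false 0 1 0) (R 3 2 (R
  6 0 (L false 0 1 0) (R 3 0 (L false (-1) 1 0) (R 7 9 (L true 0 1 0) (R 5 110 (L false 0 1 0) (R 6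
  9 (L false 0 1 0) (R 7 120 (L true 0 1 0) (R 6 120 (L false 0 1 0) (R 5 1343 (L false 0 1 0) (R 7
  1464 (L true 0 1 0) (R 6 1464 (L false 0 1 0) (R 5 16277 (L false 0 1 0) (R 7 17742 (L true 0 1
  0) (R 6 17742 (L false 0 1 0) (R 5 197144 (L false 0 1 0) (R 7 214887 (L true 0 1 0) (R 6 214887
  (L false 0 1 0) (R 5 2387643 (L false 0 1 0) (R 7 2602531 (L true 0 1 0) (R 6 2602531 (L false 0
  1 0) (R 5 9999999 (L false 0 1 0) (R 5 9999999 (L false 0 1 0) (R 7 9999999 (L true 0 1 0) (R 6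
  9999999 (L false 0 1 0) (R 5 9999999 (L false 0 1 0) (R 5 9999999 (L false 0 1 0) (R 7 9999999 (L
  true 0 1 0) (R 6 9999999 (L false 0 1 0) (R 7 9999999 (L true 0 1 0) (R 6 9999999 (L false 0 1 0)
  (R 7 9999999 (L true 0 1 0) (R 6 9999999 (L false 0 1 0) (R 2 0 (R 4 9999999 (L true 1 0 0) (R 3
  0 (L false (-1) 1 0) (L false 1 0 0))) (R 4 4 (R 3 0 (R 4 0 (L false (-1) 1 0) (R 2 3 (L true 1 0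
  0) (L false 1 0 0))) (L false 1 0 0)) (L false 1 0 0)))))))))))))))))))))))))))))))))) (L false 1
  0 0)))))) (S 7 (S 4 (S 2 (R 3 0 (L true 1 0 0) (L false 1 0 0)) (R 5 8 (L false 0 1 0) (R 3 1 (R
  7 0 (L false 0 1 0) (R 3 0 (L false (-1) 1 0) (R 2 0 (L true 1 0 0) (L false 1 0 0)))) (L false 1
  0 0)))) (S 2 (R 5 8 (L false 0 1 0) (R 3 1 (R 7 0 (L false 0 1 0) (R 3 0 (L false (-1) 1 0) (R 4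
  0 (L true 1 0 0) (L false 1 0 0)))) (L false 1 0 0))) (R 5 8 (L false 0 1 0) (R 3 2 (R 7 0 (L
  false 0 1 0) (R 3 0 (L false (-1) 1 0) (R 6 9 (L true 0 1 0) (R 5 110 (L false 0 1 0) (R 7 9 (L
  false 0 1 0) (R 6 120 (L true 0 1 0) (R 7 120 (L false 0 1 0) (R 5 1343 (L false 0 1 0) (R 6 1464
  (L true 0 1 0) (R 7 1464 (L false 0 1 0) (R 5 16277 (L false 0 1 0) (R 6 17742 (L true 0 1 0) (R
  7 17742 (L false 0 1 0) (R 5 197144 (L false 0 1 0) (R 6 214887 (L true 0 1 0) (R 7 214887 (L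
  false 0 1 0) (R 5 2387643 (L false 0 1 0) (R 6 2602531 (L true 0 1 0) (R 7 2602531 (L false 0 1
  0) (R 5 9999999 (L false 0 1 0) (R 5 9999999 (L false 0 1 0) (R 6 9999999 (L true 0 1 0) (R 7
  9999999 (L false 0 1 0) (R 5 9999999 (L false 0 1 0) (R 5 9999999 (L false 0 1 0) (R 6 9999999 (L
  true 0 1 0) (R 7 9999999 (L false 0 1 0) (R 6 9999999 (L true 0 1 0) (R 7 9999999 (L false 0 1 0)
  (R 6 9999999 (L true 0 1 0) (R 7 9999999 (L false 0 1 0) (R 2 0 (R 4 9999999 (L true 1 0 0) (R 3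
  0 (L false (-1) 1 0) (L false 1 0 0))) (R 4 4 (R 3 0 (R 4 0 (L false (-1) 1 0) (R 2 3 (L true 1 0
  0) (L false 1 0 0))) (L false 1 0 0)) (L false 1 0 0)))))))))))))))))))))))))))))))))) (L false 1
  0 0))))) (S 4 (S 2 (R 3 0 (L true 1 0 0) (L false 1 0 0)) (R 5 3 (L false 0 1 0) (R 3 1 (R 2 2 (L
  true 1 0 0) (R 3 0 (R 4 0 (R 7 0 (R 6 0 (L true 0 1 0) (L false (-1) 1 0)) (L false (-1) 1 0)) (L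
  false (-1) 1 0)) (L false 1 0 0))) (L false 1 0 0)))) (S 2 (R 5 3 (L false 0 1 0) (R 3 1 (R 3 0
  (L false (-1) 1 0) (R 4 0 (L true 1 0 0) (L false 1 0 0))) (L false 1 0 0))) (R 5 3 (L false 0 1
  0) (R 3 2 (R 3 0 (L false (-1) 1 0) (R 5 2 (R 4 1 (R 2 0 (R 7 1 (R 6 1 (L true 0 1 0) (L false 0
  1 0)) (L false 0 1 0)) (L false 1 0 0)) (L false 1 0 0)) (R 2 0 (R 4 1 (L true 1 0 0) (R 3 0 (R 5
  3 (R 4 4 (R 7 9 (R 6 9 (R 4 0 (L true 1 0 0) (R 7 0 (L false 1 (-1) 0) (R 6 0 (L false 1 (-1) 0)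
  (R 7 0 (R 6 0 (L true 0 1 0) (L false 0 1 0)) (L false 0 1 0))))) (L true 0 (-1) 0)) (L true 0
  (-1) 0)) (L false 1 0 0)) (R 4 4 (L true 1 0 0) (R 7 0 (L false 1 (-1) 0) (R 6 0 (L false 1 (-1)
  0) (R 7 161 (R 6 161 (R 5 314 (R 4 314 (R 7 52 (R 5 205 (R 6 52 (R 5 96 (R 4 96 (R 7 20 (R 5 64
  (R 6 20 (R 5 32 (R 4 32 (R 7 7 (R 6 0 (L true 0 1 0) (R 7 1 (R 6 5 (L true 0 1 0) (R 4 28 (L
  false (-1) 1 0) (L true (-1) 1 0))) (L false (-1) 1 0))) (L false (-1) 1 0)) (L true (-1) 0 0))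
  (L true 0 1 0)) (L false (-1) 1 0)) (L true 0 1 0)) (L false (-1) 1 0)) (L true (-1) 0 0)) (L
  true 0 1 0)) (L false (-1) 1 0)) (L true 0 1 0)) (L false (-1) 1 0)) (L true (-1) 0 0)) (L true 0
  1 0)) (L false (-1) 1 0)) (L false (-1) 1 0)))))) (L false 1 0 0))) (R 4 4 (R 3 0 (R 7 0 (L false
  1 (-1) 0) (R 6 0 (L false 1 (-1) 0) (R 5 2 (L false 0 1 0) (R 2 0 (L true 1 0 0) (R 4 1 (R 5 2 (L
  false 1 0 0) (R 2 5 (L true 1 0 0) (R 4 0 (R 5 12 (L false 1 0 0) (R 7 0 (L false 1 (-1) 0) (R 6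
  0 (L false 1 (-1) 0) (R 2 13 (L true 1 0 0) (R 5 9 (L false 1 0 0) (R 7 0 (L false 1 (-1) 0) (R 6
  0 (L false 1 (-1) 0) (R 2 9 (L true 1 0 0) (R 5 18 (R 7 47 (R 6 47 (R 2 18 (R 6 3 (R 7 25 (L true
  0 1 0) (R 6 0 (R 7 19 (L false 1 (-1) 0) (R 5 16 (L true 0 (-1) 0) (R 2 0 (L false (-1) 1 0) (L
  false 1 (-1) 0)))) (L false (-1) 1 0))) (R 7 3 (R 6 21 (L true 0 1 0) (R 7 0 (R 6 19 (L false 1
  (-1) 0) (R 5 16 (L true 0 (-1) 0) (R 2 0 (L false (-1) 1 0) (L false 1 (-1) 0)))) (L false (-1) 1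
  0))) (L false (-1) 1 0))) (L true (-1) 0 0)) (L true 0 (-1) 0)) (L true 0 (-1) 0)) (R 2 18 (L
  true 1 0 0) (R 6 1 (R 7 46 (L true 0 1 0) (R 6 0 (R 2 0 (R 5 0 (R 7 1 (L false 1 (-1) 0) (L true
  0 (-1) 0)) (L true 1 0 0)) (L false 1 (-1) 0)) (L false (-1) 1 0))) (R 7 13 (R 6 32 (L true 0 1
  0) (R 7 1 (R 6 11 (L true 0 1 0) (R 7 0 (R 2 0 (R 5 0 (R 6 1 (L false 1 (-1) 0) (L true 0 (-1)
  0)) (L true 1 0 0)) (L false 1 (-1) 0)) (L false (-1) 1 0))) (L false (-1) 1 0))) (L false (-1) 1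
  0))))))))))))) (L false 1 0 0)))) (L false 1 0 0)))))) (L false 1 0 0)) (L false 1 0 0))))) (L
  false 1 0 0)))))))) (S 3 (S 6 (S 7 (S 4 (S 2 (R 5 0 (L true 1 0 0) (L false 1 0 0)) (R 5 0 (R 7 1
  (R 6 1 (R 4 0 (L false 1 0 0) (R 3 1 (L false 1 0 0) (R 2 2 (L true 1 0 0) (R 7 0 (R 6 0 (L false
  0 1 0) (L false 1 (-1) 0)) (L false 1 (-1) 0))))) (L true 0 1 0)) (L true 0 1 0)) (L false 1 0
  0))) (S 2 (R 5 0 (R 7 1 (R 6 1 (R 3 2 (L false 1 0 0) (R 4 1 (L true 1 0 0) (R 7 0 (R 6 0 (L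
  false 0 1 0) (L false 1 (-1) 0)) (L false 1 (-1) 0)))) (L true 0 1 0)) (L true 0 1 0)) (L false 1
  0 0)) (R 5 2 (R 3 2 (L true (-1) 0 0) (R 7 3 (R 6 3 (R 6 0 (R 5 0 (R 7 0 (L false 0 1 0) (R 7 0
  (R 2 0 (R 3 6 (R 4 6 (R 4 1 (L false (-1) 1 0) (R 3 1 (L true (-1) 0 0) (R 4 2 (L false (-1) 1 0)
  (R 3 0 (L false 1 (-1) 0) (L false (-1) 1 0))))) (L true (-1) 0 0)) (L false (-1) 1 0)) (R 4 8 (R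
  3 1 (L false 1 (-1) 0) (R 4 1 (R 3 3 (R 2 2 (R 4 0 (R 2 0 (L false (-1) 1 0) (R 3 1 (L false 1
  (-1) 0) (L true 1 0 0))) (L false 1 (-1) 0)) (L false 1 (-1) 0)) (R 2 3 (L true 1 0 0) (R 3 5 (R
  4 0 (R 2 6 (R 3 3 (R 3 0 (L false 1 (-1) 0) (R 2 1 (L true 1 0 0) (R 3 1 (L false 1 (-1) 0) (R 2
  2 (L false (-1) 1 0) (L false 1 (-1) 0))))) (L false (-1) 1 0)) (L true (-1) 0 0)) (L false 1
  (-1) 0)) (R 2 5 (L true 1 0 0) (R 4 0 (R 3 1 (R 2 2 (L false (-1) 1 0) (L true (-1) 0 0)) (L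
  false (-1) 1 0)) (R 3 131 (L false 1 (-1) 0) (R 2 8 (L true 1 0 0) (L false 1 (-1) 0)))))))) (R 2
  2 (R 3 9 (R 4 0 (R 3 8 (L false 1 (-1) 0) (L true 1 0 0)) (L false 1 (-1) 0)) (L true 1 0 0)) (L
  false 1 (-1) 0)))) (L false 1 (-1) 0))) (L true 0 1 0))) (L false 0 1 0)) (R 7 0 (R 5 0 (R 6 0 (R
  2 0 (R 3 6 (R 4 6 (R 4 1 (L false (-1) 1 0) (R 3 1 (L true (-1) 0 0) (R 4 2 (L false (-1) 1 0) (R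
  3 0 (L false 1 (-1) 0) (L false (-1) 1 0))))) (L true (-1) 0 0)) (L false (-1) 1 0)) (R 4 8 (R 3
  1 (L false 1 (-1) 0) (R 4 1 (R 3 3 (R 2 2 (R 4 0 (R 2 0 (L false (-1) 1 0) (R 3 1 (L false 1 (-1)
  0) (L true 1 0 0))) (L false 1 (-1) 0)) (L false 1 (-1) 0)) (R 2 3 (L true 1 0 0) (R 3 5 (R 4 0
  (R 2 6 (R 3 3 (R 3 0 (L false 1 (-1) 0) (R 2 1 (L true 1 0 0) (R 3 1 (L false 1 (-1) 0) (R 2 2 (L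
  false (-1) 1 0) (L false 1 (-1) 0))))) (L false (-1) 1 0)) (L true (-1) 0 0)) (L false 1 (-1) 0))
  (R 2 5 (L true 1 0 0) (R 4 0 (R 3 1 (R 2 2 (L false (-1) 1 0) (L true (-1) 0 0)) (L false (-1) 1
  0)) (R 3 131 (L false 1 (-1) 0) (R 2 8 (L true 1 0 0) (L false 1 (-1) 0)))))))) (R 2 2 (R 3 9 (R
  4 0 (R 3 8 (L false 1 (-1) 0) (L true 1 0 0)) (L false 1 (-1) 0)) (L true 1 0 0)) (L false 1 (-1)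
  0)))) (L false 1 (-1) 0))) (L true 0 1 0)) (L false 0 1 0)) (L false 1 (-1) 0))) (L true 0 1 0))
  (L true 0 1 0))) (L false 1 0 0)))) (S 4 (S 2 (L false 1 (-1) 0) (R 5 0 (R 6 0 (L true 0 (-1) 0)
  (L false 1 (-1) 0)) (L false 1 0 0))) (S 2 (L false 1 (-1) 0) (R 6 0 (L true 0 (-1) 0) (L false 1
  (-1) 0))))) (S 7 (S 4 (S 2 (L false 1 (-1) 0) (R 5 0 (R 7 0 (L true 0 (-1) 0) (L false 1 (-1) 0))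
  (L false 1 0 0))) (S 2 (L false 1 (-1) 0) (R 7 0 (L true 0 (-1) 0) (L false 1 (-1) 0)))) (L false
  1 (-1) 0))) (S 6 (S 7 (S 4 (S 2 (R 3 0 (L false (-1) 1 0) (R 5 5 (R 7 6 (R 6 6 (R 5 0 (R 7 1 (R 6
  1 (R 3 0 (R 4 1 (R 2 1 (R 6 0 (R 7 0 (L false 0 1 0) (R 4 0 (L false 1 (-1) 0) (L false (-1) 1
  0))) (R 7 0 (R 4 0 (L false 1 (-1) 0) (L false (-1) 1 0)) (L false 1 (-1) 0))) (L true 1 0 0)) (L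
  true 1 0 0)) (R 4 0 (L false 1 0 0) (R 6 0 (R 7 0 (L false 0 1 0) (R 3 3 (R 4 4 (R 4 0 (L false 1
  (-1) 0) (R 2 3 (R 3 1 (R 4 1 (R 3 0 (R 2 0 (L false 1 (-1) 0) (L true 1 0 0)) (L false 1 (-1) 0))
  (L true 1 0 0)) (L false 1 (-1) 0)) (L true 1 0 0))) (L true 1 0 0)) (L false 1 (-1) 0))) (R 7 0
  (R 3 3 (R 4 4 (R 4 0 (L false 1 (-1) 0) (R 2 3 (R 3 1 (R 4 1 (R 3 0 (R 2 0 (L false 1 (-1) 0) (L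
  true 1 0 0)) (L false 1 (-1) 0)) (L true 1 0 0)) (L false 1 (-1) 0)) (L true 1 0 0))) (L true 1 0
  0)) (L false 1 (-1) 0)) (L false 1 (-1) 0))))) (L true 0 1 0)) (L true 0 1 0)) (R 3 1 (R 7 0 (L
  false 0 1 0) (R 6 0 (L false 0 1 0) (R 4 107 (L false 1 (-1) 0) (L true 1 0 0)))) (L false 1 0
  0))) (L true 0 1 0)) (L true 0 1 0)) (L false 1 0 0))) (R 3 0 (L false (-1) 1 0) (R 4 2 (L true
  (-1) 0 0) (R 5 0 (R 7 1 (R 6 1 (R 3 0 (R 7 0 (L false (-1) 1 0) (R 6 0 (L false (-1) 1 0) (L true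
  0 1 0))) (R 4 0 (L true (-1) 0 0) (R 6 0 (R 7 0 (L false 0 1 0) (R 3 1 (L false (-1) 1 0) (R 2 0
  (L false (-1) 1 0) (R 3 19 (R 4 2 (L true (-1) 0 0) (R 3 3 (R 2 0 (L false (-1) 1 0) (R 3 0 (L
  false (-1) 1 0) (R 4 1 (L true (-1) 0 0) (R 2 0 (L false (-1) 1 0) (R 2 1 (R 4 4 (R 3 0 (L false
  (-1) 1 0) (R 3 0 (R 4 1 (L true (-1) 0 0) (L false (-1) 1 0)) (L false 1 (-1) 0))) (L true 1 0
  0)) (R 4 2 (L true (-1) 0 0) (R 3 0 (R 4 3 (R 2 3 (L false (-1) 1 0) (L true (-1) 0 0)) (L false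
  (-1) 1 0)) (R 2 1125 (R 4 1127 (R 2 344 (R 4 346 (R 2 133 (R 4 135 (R 2 56 (R 4 58 (R 2 24 (R 4
  26 (R 2 11 (R 4 13 (R 3 0 (R 2 5 (R 4 6 (R 2 2 (R 4 3 (R 4 0 (L false 1 (-1) 0) (R 2 0 (L false
  (-1) 1 0) (R 4 1 (L false 1 (-1) 0) (R 2 0 (L false (-1) 1 0) (L false 1 (-1) 0))))) (L true 1 0
  0)) (L false 1 (-1) 0)) (L true 1 0 0)) (L false 1 (-1) 0)) (L false 1 (-1) 0)) (L true 1 0 0))
  (L false 1 (-1) 0)) (L true 1 0 0)) (L false 1 (-1) 0)) (L true 1 0 0)) (L false 1 (-1) 0)) (L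
  true 1 0 0)) (L false 1 (-1) 0)) (L true 1 0 0)) (L false 1 (-1) 0)) (L true 1 0 0)) (L false 1
  (-1) 0))))))))) (R 2 3 (R 4 22 (R 4 3 (L true (-1) 0 0) (R 3 9 (R 2 2 (R 4 11 (R 2 1 (R 3 2 (R 2
  0 (L false (-1) 1 0) (R 4 3 (R 3 0 (R 4 0 (L false 1 (-1) 0) (L false (-1) 1 0)) (L false 1 (-1)
  0)) (L true 1 0 0))) (R 2 0 (R 4 2 (L true (-1) 0 0) (R 3 2 (L false (-1) 1 0) (R 4 2 (L true
  (-1) 0 0) (R 3 1 (R 4 1 (R 3 0 (L false (-1) 1 0) (L false 1 (-1) 0)) (L true 1 0 0)) (L false 1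
  (-1) 0))))) (L false 1 (-1) 0))) (L false 1 (-1) 0)) (L true 1 0 0)) (L false 1 (-1) 0)) (L false
  1 (-1) 0))) (L true 1 0 0)) (L false 1 (-1) 0)))) (L false 1 (-1) 0))))) (R 7 0 (R 3 1 (L false
  (-1) 1 0) (R 2 0 (L false (-1) 1 0) (R 3 19 (R 4 2 (L true (-1) 0 0) (R 3 3 (R 2 0 (L false (-1)
  1 0) (R 3 0 (L false (-1) 1 0) (R 4 1 (L true (-1) 0 0) (R 2 0 (L false (-1) 1 0) (R 2 1 (R 4 4
  (R 3 0 (L false (-1) 1 0) (R 3 0 (R 4 1 (L true (-1) 0 0) (L false (-1) 1 0)) (L false 1 (-1)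
  0))) (L true 1 0 0)) (R 4 2 (L true (-1) 0 0) (R 3 0 (R 4 3 (R 2 3 (L false (-1) 1 0) (L true
  (-1) 0 0)) (L false (-1) 1 0)) (R 2 1125 (R 4 1127 (R 2 344 (R 4 346 (R 2 133 (R 4 135 (R 2 56 (R
  4 58 (R 2 24 (R 4 26 (R 2 11 (R 4 13 (R 3 0 (R 2 5 (R 4 6 (R 2 2 (R 4 3 (R 4 0 (L false 1 (-1) 0)
  (R 2 0 (L false (-1) 1 0) (R 4 1 (L false 1 (-1) 0) (R 2 0 (L false (-1) 1 0) (L false 1 (-1)
  0))))) (L true 1 0 0)) (L false 1 (-1) 0)) (L true 1 0 0)) (L false 1 (-1) 0)) (L false 1 (-1)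
  0)) (L true 1 0 0)) (L false 1 (-1) 0)) (L true 1 0 0)) (L false 1 (-1) 0)) (L true 1 0 0)) (L
  false 1 (-1) 0)) (L true 1 0 0)) (L false 1 (-1) 0)) (L true 1 0 0)) (L false 1 (-1) 0)) (L true
  1 0 0)) (L false 1 (-1) 0))))))))) (R 2 3 (R 4 22 (R 4 3 (L true (-1) 0 0) (R 3 9 (R 2 2 (R 4 11
  (R 2 1 (R 3 2 (R 2 0 (L false (-1) 1 0) (R 4 3 (R 3 0 (R 4 0 (L false 1 (-1) 0) (L false (-1) 1
  0)) (L false 1 (-1) 0)) (L true 1 0 0))) (R 2 0 (R 4 2 (L true (-1) 0 0) (R 3 2 (L false (-1) 1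
  0) (R 4 2 (L true (-1) 0 0) (R 3 1 (R 4 1 (R 3 0 (L false (-1) 1 0) (L false 1 (-1) 0)) (L true 1
  0 0)) (L false 1 (-1) 0))))) (L false 1 (-1) 0))) (L false 1 (-1) 0)) (L true 1 0 0)) (L false 1
  (-1) 0)) (L false 1 (-1) 0))) (L true 1 0 0)) (L false 1 (-1) 0)))) (L false 1 (-1) 0)))) (L true
  0 1 0))))) (L true 0 1 0)) (L true 0 1 0)) (R 7 0 (L false 0 1 0) (R 6 0 (L false 0 1 0) (R 3 1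
  (R 4 0 (L true (-1) 0 0) (R 5 1 (R 7 1 (R 6 1 (R 2 0 (R 4 2 (R 3 0 (L false (-1) 1 0) (L false 1
  (-1) 0)) (L true 1 0 0)) (R 3 0 (R 5 0 (R 7 0 (R 6 0 (R 2 0 (L false (-1) 1 0) (R 4 1 (L false 1
  (-1) 0) (R 4 101 (R 2 0 (L false (-1) 1 0) (R 4 1 (L false 1 (-1) 0) (R 2 0 (L false (-1) 1 0) (R
  2 99 (R 4 65 (R 2 65 (R 4 6 (R 2 2 (R 4 2 (R 2 0 (R 4 0 (L false 1 (-1) 0) (L true 1 0 0)) (L
  false 1 (-1) 0)) (L true 1 0 0)) (L false 1 (-1) 0)) (R 2 6 (L true 1 0 0) (R 4 5 (L false 1 (-1)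
  0) (R 2 5 (L true 1 0 0) (R 4 7 (L false 1 (-1) 0) (R 2 7 (L true 1 0 0) (R 4 7 (L false 1 (-1)
  0) (R 4 26 (R 2 7 (L true 1 0 0) (R 4 6 (L false 1 (-1) 0) (R 2 26 (R 2 6 (L true 1 0 0) (R 4 4
  (L false 1 (-1) 0) (R 4 10 (R 2 4 (L true 1 0 0) (R 4 2 (L false 1 (-1) 0) (R 2 10 (R 4 5 (R 2 2
  (L true 1 0 0) (R 4 1 (L false 1 (-1) 0) (R 2 1 (L true 1 0 0) (R 4 0 (L false 1 (-1) 0) (R 2 3
  (R 4 1 (R 2 0 (L false (-1) 1 0) (R 4 0 (L false 1 (-1) 0) (R 2 1 (L false (-1) 1 0) (L false 1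
  (-1) 0)))) (L false (-1) 1 0)) (L true (-1) 0 0)))))) (L false (-1) 1 0)) (L true (-1) 0 0)))) (L
  false (-1) 1 0)))) (L true (-1) 0 0)))) (L false (-1) 1 0))))))))) (L true (-1) 0 0)) (L false
  (-1) 1 0)) (L true (-1) 0 0))))) (L false (-1) 1 0)))) (L true 0 1 0)) (L true 0 1 0)) (R 4 1 (L
  true (-1) 0 0) (R 2 0 (R 4 0 (R 7 0 (L false (-1) 1 0) (R 6 0 (L false (-1) 1 0) (L false 1 (-1)
  0))) (L true 1 0 0)) (R 2 1 (R 4 2 (R 7 0 (R 6 0 (L true 0 (-1) 0) (L false 1 (-1) 0)) (L false 1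
  (-1) 0)) (L true 1 0 0)) (R 4 2 (L false 1 (-1) 0) (R 6 0 (R 7 0 (L true 0 (-1) 0) (R 2 0 (R 4 0
  (L false 1 (-1) 0) (L true 1 0 0)) (L false 1 (-1) 0))) (R 2 0 (R 4 0 (L false 1 (-1) 0) (L true
  1 0 0)) (L false 1 (-1) 0)))))))) (L false 1 (-1) 0))) (L true 0 1 0)) (L true 0 1 0)) (R 4 1 (L
  true (-1) 0 0) (R 5 2 (R 7 4 (R 6 4 (R 2 0 (R 4 3 (R 3 0 (L false (-1) 1 0) (L false 1 (-1) 0))
  (L true 1 0 0)) (R 3 0 (R 2 0 (R 4 3 (R 4 0 (L true (-1) 0 0) (R 7 3 (R 6 3 (R 5 0 (R 4 0 (R 7 1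
  (R 6 0 (L false (-1) 1 0) (R 7 0 (R 6 0 (L false (-1) 1 0) (L false 1 (-1) 0)) (L false 1 (-1)
  0))) (L false 1 (-1) 0)) (L true 1 0 0)) (R 4 0 (L true (-1) 0 0) (R 6 0 (R 7 2 (L false (-1) 1
  0) (R 5 0 (R 4 0 (L false 1 (-1) 0) (L false (-1) 1 0)) (L true 0 (-1) 0))) (R 7 0 (R 5 0 (R 6 1
  (L false (-1) 1 0) (R 4 0 (L false 1 (-1) 0) (L false (-1) 1 0))) (L true 0 (-1) 0)) (L false 1
  (-1) 0))))) (L false 1 (-1) 0)) (L false 1 (-1) 0))) (L true 1 0 0)) (R 4 1 (L true (-1) 0 0) (R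
  5 0 (R 7 2 (R 6 2 (R 2 1 (R 4 1 (R 7 0 (R 6 1 (L true 0 (-1) 0) (L false 1 (-1) 0)) (L false 1
  (-1) 0)) (L true 1 0 0)) (R 7 1 (R 6 0 (L true 0 (-1) 0) (R 2 0 (R 4 2 (L false 1 (-1) 0) (L true
  1 0 0)) (L false 1 (-1) 0))) (L false 1 (-1) 0))) (L true 0 1 0)) (L true 0 1 0)) (R 6 0 (R 7 2
  (L true 0 (-1) 0) (R 2 0 (R 4 2 (L false 1 (-1) 0) (L true 1 0 0)) (L false 1 (-1) 0))) (R 2 2 (R
  4 4 (L false 1 (-1) 0) (L true 1 0 0)) (L false 1 (-1) 0)))))) (L false 1 0 0))) (L true 0 1 0))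
  (L true 0 1 0)) (R 3 0 (R 2 13 (R 4 2 (L true (-1) 0 0) (R 2 0 (L false (-1) 1 0) (R 5 9 (R 4 22
  (R 7 14 (R 6 14 (R 2 5 (R 4 15 (R 5 6 (R 6 1 (R 7 3 (L true 0 (-1) 0) (R 6 0 (R 2 0 (R 5 4 (R 4 5
  (R 7 5 (R 5 1 (R 4 2 (R 7 1 (R 5 0 (R 4 0 (L false 1 (-1) 0) (R 7 0 (L false (-1) 1 0) (R 4 0 (L
  false 1 (-1) 0) (L false (-1) 1 0)))) (L true 0 (-1) 0)) (L false 1 (-1) 0)) (L true 1 0 0)) (R 4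
  2 (L true (-1) 0 0) (R 7 2 (L false (-1) 1 0) (R 4 0 (L false 1 (-1) 0) (R 5 0 (L true 1 0 0) (R
  7 1 (L false (-1) 1 0) (R 5 0 (L true 0 1 0) (R 4 0 (L false 1 (-1) 0) (L false (-1) 1 0)))))))))
  (L true 0 1 0)) (L true 1 0 0)) (L false 0 1 0)) (L false 1 (-1) 0)) (L false 1 (-1) 0))) (R 7 0
  (R 2 0 (R 6 2 (L true 0 (-1) 0) (R 5 4 (R 4 5 (R 4 1 (L false 1 (-1) 0) (R 5 0 (L true 1 0 0) (R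
  6 4 (R 6 0 (L false (-1) 1 0) (R 4 0 (L false 1 (-1) 0) (R 5 0 (L true 1 0 0) (R 4 1 (R 5 1 (R 6
  0 (L false (-1) 1 0) (R 4 0 (L false 1 (-1) 0) (R 5 0 (L true 1 0 0) (R 6 1 (L false (-1) 1 0) (L
  false 1 (-1) 0))))) (L true (-1) 0 0)) (L false (-1) 1 0))))) (L true 0 1 0)))) (L true 1 0 0))
  (L false 0 1 0))) (L false 1 (-1) 0)) (L false 1 (-1) 0))) (L false 1 0 0)) (L true 1 0 0)) (L
  false 1 0 0)) (L true 0 1 0)) (L true 0 1 0)) (L true 1 0 0)) (L false 1 0 0)))) (L false 1 0 0))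
  (L false 1 0 0)))))) (L false 1 (-1) 0)))))))) (S 2 (R 3 0 (L false (-1) 1 0) (R 2 3 (L true (-1)
  0 0) (R 5 0 (R 7 1 (R 6 1 (R 3 0 (R 7 0 (L false (-1) 1 0) (R 6 0 (L false (-1) 1 0) (L true 0 1
  0))) (R 6 0 (R 7 0 (L false 0 1 0) (R 3 2 (L false (-1) 1 0) (R 4 0 (L false (-1) 1 0) (R 3 94 (R
  2 4 (L true (-1) 0 0) (R 3 5 (R 4 2 (L false (-1) 1 0) (R 2 2 (L true (-1) 0 0) (R 3 1 (R 4 23 (L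
  false (-1) 1 0) (R 3 0 (L false (-1) 1 0) (R 2 24 (L true (-1) 0 0) (R 4 52 (L false (-1) 1 0) (R
  2 52 (L true (-1) 0 0) (R 4 106 (L false (-1) 1 0) (R 4 2355 (R 2 106 (L true (-1) 0 0) (R 4 189
  (L false (-1) 1 0) (R 2 189 (L true (-1) 0 0) (R 4 270 (L false (-1) 1 0) (R 2 2165 (R 2 270 (L
  true (-1) 0 0) (R 4 286 (L false (-1) 1 0) (R 4 825 (R 2 286 (L true (-1) 0 0) (R 4 221 (L false
  (-1) 1 0) (R 2 825 (R 4 393 (R 2 221 (L true (-1) 0 0) (R 4 133 (L false (-1) 1 0) (R 2 393 (R 4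
  181 (R 2 133 (L true (-1) 0 0) (R 4 68 (L false (-1) 1 0) (R 2 68 (L true (-1) 0 0) (R 4 31 (L
  false (-1) 1 0) (R 2 112 (R 4 48 (R 2 31 (L true (-1) 0 0) (R 4 14 (L false (-1) 1 0) (R 2 48 (R
  4 20 (R 2 14 (L true (-1) 0 0) (R 4 5 (L false (-1) 1 0) (R 2 20 (R 4 8 (R 2 5 (L true (-1) 0 0)
  (R 4 2 (L false (-1) 1 0) (R 2 8 (R 4 3 (R 2 2 (L true (-1) 0 0) (R 4 0 (L false (-1) 1 0) (R 2 3
  (R 4 1 (R 2 0 (L false 1 (-1) 0) (R 4 0 (L false (-1) 1 0) (R 2 1 (L false 1 (-1) 0) (L false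
  (-1) 1 0)))) (L false 1 (-1) 0)) (L true 1 0 0)))) (L false 1 (-1) 0)) (L true 1 0 0)))) (L false
  1 (-1) 0)) (L true 1 0 0)))) (L false 1 (-1) 0)) (L true 1 0 0)))) (L false 1 (-1) 0)) (L true 1
  0 0)))))) (L false 1 (-1) 0)) (L true 1 0 0)))) (L false 1 (-1) 0)) (L true 1 0 0)))) (L false 1
  (-1) 0)))) (L true 1 0 0)))))) (L false 1 (-1) 0)))))))) (R 4 16 (R 2 21 (R 4 11 (R 4 2 (R 3 1 (L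
  false (-1) 1 0) (R 4 0 (L false (-1) 1 0) (R 3 0 (R 4 0 (L false (-1) 1 0) (R 2 13 (L false 1
  (-1) 0) (L false (-1) 1 0))) (L false 1 (-1) 0)))) (R 3 1 (R 2 4 (L true (-1) 0 0) (R 2 9 (R 4 2
  (R 3 0 (L false (-1) 1 0) (R 4 0 (L false (-1) 1 0) (R 4 0 (R 2 2 (L false 1 (-1) 0) (L true 1 0
  0)) (L false 1 (-1) 0)))) (R 3 0 (R 4 2 (L false (-1) 1 0) (R 4 1 (R 2 5 (L true (-1) 0 0) (R 4 0
  (L false (-1) 1 0) (R 2 1 (L false 1 (-1) 0) (L false (-1) 1 0)))) (L false 1 (-1) 0))) (L false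
  1 (-1) 0))) (L true 1 0 0))) (L false 1 (-1) 0))) (L false 1 (-1) 0)) (L true 1 0 0)) (L false 1
  (-1) 0))))) (R 4 3 (R 2 97 (R 2 5 (L true (-1) 0 0) (R 3 9 (R 4 0 (L false (-1) 1 0) (R 2 12 (R 3
  3 (R 4 0 (L false (-1) 1 0) (R 3 2 (R 2 5 (R 4 0 (R 3 1 (L false (-1) 1 0) (L false 1 (-1) 0)) (L
  false 1 (-1) 0)) (L true 1 0 0)) (L false 1 (-1) 0))) (R 4 0 (R 3 2 (L false (-1) 1 0) (R 2 7 (L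
  true (-1) 0 0) (R 3 0 (L false (-1) 1 0) (R 3 0 (R 2 3 (L false 1 (-1) 0) (L false (-1) 1 0)) (L
  false 1 (-1) 0))))) (L false 1 (-1) 0))) (L true 1 0 0))) (R 4 1 (R 2 9 (L true (-1) 0 0) (R 3 13
  (R 4 0 (L false (-1) 1 0) (R 3 0 (R 2 1 (L false 1 (-1) 0) (L true 1 0 0)) (L false 1 (-1) 0)))
  (R 4 0 (R 3 21 (L false (-1) 1 0) (R 2 35 (L true (-1) 0 0) (R 3 18 (L false (-1) 1 0) (R 3 8 (R
  2 18 (L true (-1) 0 0) (R 3 4 (L false (-1) 1 0) (R 2 8 (R 3 0 (R 2 4 (L false 1 (-1) 0) (L false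
  (-1) 1 0)) (L false 1 (-1) 0)) (L true 1 0 0)))) (L false 1 (-1) 0))))) (L false 1 (-1) 0)))) (L
  false 1 (-1) 0)))) (L true 1 0 0)) (L false 1 (-1) 0)))) (L false 1 (-1) 0))))) (R 7 0 (R 3 2 (L
  false (-1) 1 0) (R 4 0 (L false (-1) 1 0) (R 3 94 (R 2 4 (L true (-1) 0 0) (R 3 5 (R 4 2 (L false
  (-1) 1 0) (R 2 2 (L true (-1) 0 0) (R 3 1 (R 4 23 (L false (-1) 1 0) (R 3 0 (L false (-1) 1 0) (R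
  2 24 (L true (-1) 0 0) (R 4 52 (L false (-1) 1 0) (R 2 52 (L true (-1) 0 0) (R 4 106 (L false
  (-1) 1 0) (R 4 2355 (R 2 106 (L true (-1) 0 0) (R 4 189 (L false (-1) 1 0) (R 2 189 (L true (-1)
  0 0) (R 4 270 (L false (-1) 1 0) (R 2 2165 (R 2 270 (L true (-1) 0 0) (R 4 286 (L false (-1) 1 0)
  (R 4 825 (R 2 286 (L true (-1) 0 0) (R 4 221 (L false (-1) 1 0) (R 2 825 (R 4 393 (R 2 221 (L
  true (-1) 0 0) (R 4 133 (L false (-1) 1 0) (R 2 393 (R 4 181 (R 2 133 (L true (-1) 0 0) (R 4 68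
  (L false (-1) 1 0) (R 2 68 (L true (-1) 0 0) (R 4 31 (L false (-1) 1 0) (R 2 112 (R 4 48 (R 2 31
  (L true (-1) 0 0) (R 4 14 (L false (-1) 1 0) (R 2 48 (R 4 20 (R 2 14 (L true (-1) 0 0) (R 4 5 (L
  false (-1) 1 0) (R 2 20 (R 4 8 (R 2 5 (L true (-1) 0 0) (R 4 2 (L false (-1) 1 0) (R 2 8 (R 4 3
  (R 2 2 (L true (-1) 0 0) (R 4 0 (L false (-1) 1 0) (R 2 3 (R 4 1 (R 2 0 (L false 1 (-1) 0) (R 4 0
  (L false (-1) 1 0) (R 2 1 (L false 1 (-1) 0) (L false (-1) 1 0)))) (L false 1 (-1) 0)) (L true 1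
  0 0)))) (L false 1 (-1) 0)) (L true 1 0 0)))) (L false 1 (-1) 0)) (L true 1 0 0)))) (L false 1
  (-1) 0)) (L true 1 0 0)))) (L false 1 (-1) 0)) (L true 1 0 0)))))) (L false 1 (-1) 0)) (L true 1
  0 0)))) (L false 1 (-1) 0)) (L true 1 0 0)))) (L false 1 (-1) 0)))) (L true 1 0 0)))))) (L false
  1 (-1) 0)))))))) (R 4 16 (R 2 21 (R 4 11 (R 4 2 (R 3 1 (L false (-1) 1 0) (R 4 0 (L false (-1) 1
  0) (R 3 0 (R 4 0 (L false (-1) 1 0) (R 2 13 (L false 1 (-1) 0) (L false (-1) 1 0))) (L false 1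
  (-1) 0)))) (R 3 1 (R 2 4 (L true (-1) 0 0) (R 2 9 (R 4 2 (R 3 0 (L false (-1) 1 0) (R 4 0 (L
  false (-1) 1 0) (R 4 0 (R 2 2 (L false 1 (-1) 0) (L true 1 0 0)) (L false 1 (-1) 0)))) (R 3 0 (R
  4 2 (L false (-1) 1 0) (R 4 1 (R 2 5 (L true (-1) 0 0) (R 4 0 (L false (-1) 1 0) (R 2 1 (L false
  1 (-1) 0) (L false (-1) 1 0)))) (L false 1 (-1) 0))) (L false 1 (-1) 0))) (L true 1 0 0))) (L
  false 1 (-1) 0))) (L false 1 (-1) 0)) (L true 1 0 0)) (L false 1 (-1) 0))))) (R 4 3 (R 2 97 (R 2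
  5 (L true (-1) 0 0) (R 3 9 (R 4 0 (L false (-1) 1 0) (R 2 12 (R 3 3 (R 4 0 (L false (-1) 1 0) (R
  3 2 (R 2 5 (R 4 0 (R 3 1 (L false (-1) 1 0) (L false 1 (-1) 0)) (L false 1 (-1) 0)) (L true 1 0
  0)) (L false 1 (-1) 0))) (R 4 0 (R 3 2 (L false (-1) 1 0) (R 2 7 (L true (-1) 0 0) (R 3 0 (L
  false (-1) 1 0) (R 3 0 (R 2 3 (L false 1 (-1) 0) (L false (-1) 1 0)) (L false 1 (-1) 0))))) (L
  false 1 (-1) 0))) (L true 1 0 0))) (R 4 1 (R 2 9 (L true (-1) 0 0) (R 3 13 (R 4 0 (L false (-1) 1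
  0) (R 3 0 (R 2 1 (L false 1 (-1) 0) (L true 1 0 0)) (L false 1 (-1) 0))) (R 4 0 (R 3 21 (L false
  (-1) 1 0) (R 2 35 (L true (-1) 0 0) (R 3 18 (L false (-1) 1 0) (R 3 8 (R 2 18 (L true (-1) 0 0)
  (R 3 4 (L false (-1) 1 0) (R 2 8 (R 3 0 (R 2 4 (L false 1 (-1) 0) (L false (-1) 1 0)) (L false 1
  (-1) 0)) (L true 1 0 0)))) (L false 1 (-1) 0))))) (L false 1 (-1) 0)))) (L false 1 (-1) 0)))) (L
  true 1 0 0)) (L false 1 (-1) 0)))) (L false 1 (-1) 0)))) (L false 1 (-1) 0)))) (L true 0 1 0)) (L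
  true 0 1 0)) (R 7 0 (L false 0 1 0) (R 6 0 (L false 0 1 0) (R 3 0 (R 5 1 (R 7 1 (R 6 1 (R 4 1 (L
  false (-1) 1 0) (R 2 2 (L true (-1) 0 0) (R 5 0 (R 7 0 (R 4 3 (L false (-1) 1 0) (R 6 0 (R 4 14
  (L false (-1) 1 0) (R 2 18 (L true (-1) 0 0) (R 4 117 (L false (-1) 1 0) (R 2 20 (L true (-1) 0
  0) (L false (-1) 1 0))))) (L true 0 1 0))) (L true 0 1 0)) (R 4 2 (R 7 0 (L false (-1) 1 0) (R 6
  0 (L false (-1) 1 0) (L true 0 1 0))) (R 2 3 (L true (-1) 0 0) (R 4 3 (R 2 3 (R 6 0 (R 7 0 (L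
  false (-1) 1 0) (R 4 1 (L false (-1) 1 0) (L false 1 (-1) 0))) (R 7 0 (R 4 1 (L false (-1) 1 0)
  (L false 1 (-1) 0)) (L false 1 (-1) 0))) (L true 1 0 0)) (R 2 3 (L true (-1) 0 0) (R 6 0 (R 7 0
  (L true 0 (-1) 0) (R 4 0 (R 2 0 (L false 1 (-1) 0) (L true 1 0 0)) (L false 1 (-1) 0))) (R 4 0 (R
  7 0 (R 2 0 (L false 1 (-1) 0) (L true 1 0 0)) (L false 1 (-1) 0)) (L false 1 (-1) 0)))))))))) (L
  true 0 1 0)) (L true 0 1 0)) (R 2 2 (L true (-1) 0 0) (R 4 0 (L false (-1) 1 0) (R 5 26 (R 7 28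
  (R 6 28 (R 5 3 (R 7 5 (R 6 5 (R 4 1 (R 7 0 (L false (-1) 1 0) (R 6 0 (L false (-1) 1 0) (R 2 5 (R
  7 3 (R 6 3 (R 5 1 (R 7 1 (R 6 1 (R 4 0 (L false (-1) 1 0) (R 7 0 (R 6 0 (L false (-1) 1 0) (L
  false 1 (-1) 0)) (L false 1 (-1) 0))) (L true 0 1 0)) (L true 0 1 0)) (R 2 2 (L true (-1) 0 0) (R
  4 0 (R 7 0 (L false (-1) 1 0) (R 6 0 (L false (-1) 1 0) (R 7 1 (R 6 0 (L false (-1) 1 0) (R 5 0
  (L true 0 1 0) (R 7 0 (R 6 0 (L false (-1) 1 0) (L true 0 1 0)) (L false 1 (-1) 0)))) (L true 0 1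
  0)))) (R 7 0 (R 6 0 (L false (-1) 1 0) (L false 1 (-1) 0)) (L false 1 (-1) 0))))) (L true 0 1 0))
  (L true 0 1 0)) (L true 1 0 0)))) (R 2 2 (L true (-1) 0 0) (R 5 1 (R 7 3 (R 6 3 (R 4 2 (R 2 3 (R
  6 0 (R 7 1 (L false (-1) 1 0) (R 4 0 (L false (-1) 1 0) (R 4 0 (R 7 0 (L false (-1) 1 0) (L false
  1 (-1) 0)) (L false 1 (-1) 0)))) (R 7 0 (R 6 0 (L false (-1) 1 0) (R 4 0 (L false (-1) 1 0) (R 4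
  0 (R 6 0 (L false (-1) 1 0) (L false 1 (-1) 0)) (L false 1 (-1) 0)))) (L false 1 (-1) 0))) (L
  true 1 0 0)) (R 7 2 (R 6 2 (R 2 2 (L true (-1) 0 0) (R 6 0 (R 7 1 (L true 0 (-1) 0) (R 4 0 (R 5 0
  (R 2 0 (L false 1 (-1) 0) (L true 1 0 0)) (L true 0 (-1) 0)) (L false 1 (-1) 0))) (R 4 3 (R 7 0
  (R 5 0 (R 2 3 (R 6 0 (L true 0 (-1) 0) (L false 1 (-1) 0)) (L true 1 0 0)) (L true 0 (-1) 0)) (L
  false 1 (-1) 0)) (L false 1 (-1) 0)))) (L false 1 (-1) 0)) (L false 1 (-1) 0))) (L true 0 1 0))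
  (L true 0 1 0)) (R 4 2 (R 2 5 (R 2 1 (L true (-1) 0 0) (R 6 0 (R 7 3 (L true 0 (-1) 0) (R 4 0 (L
  false (-1) 1 0) (L false 1 (-1) 0))) (R 7 0 (R 6 2 (L true 0 (-1) 0) (R 4 0 (L false (-1) 1 0) (L
  false 1 (-1) 0))) (L false 1 (-1) 0)))) (L true 1 0 0)) (R 7 2 (R 6 1 (L true 0 (-1) 0) (R 4 0 (R
  7 0 (R 2 6 (L false 1 (-1) 0) (L true 1 0 0)) (L false 1 (-1) 0)) (L false 1 (-1) 0))) (L false 1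
  (-1) 0)))))) (L true 0 1 0)) (L true 0 1 0)) (R 4 10 (R 2 37 (R 2 4 (L true (-1) 0 0) (R 4 1 (R 7
  0 (L false (-1) 1 0) (R 6 0 (L false (-1) 1 0) (R 2 23 (R 5 4 (R 7 8 (R 6 8 (R 2 5 (R 5 1 (R 7 5
  (R 6 5 (R 2 2 (R 6 1 (R 7 2 (L true 0 (-1) 0) (R 4 0 (R 6 0 (L false (-1) 1 0) (R 7 0 (L false
  (-1) 1 0) (L false 1 (-1) 0))) (L false 1 (-1) 0))) (R 4 0 (R 7 0 (L false (-1) 1 0) (R 7 1 (R 6
  1 (R 7 0 (L false (-1) 1 0) (R 6 0 (R 5 0 (R 2 1 (L false 1 (-1) 0) (L false (-1) 1 0)) (L true 0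
  (-1) 0)) (L false 1 (-1) 0))) (L false 1 (-1) 0)) (L false 1 (-1) 0))) (L false 1 (-1) 0))) (L
  true 1 0 0)) (L true 0 1 0)) (L true 0 1 0)) (R 2 1 (L true (-1) 0 0) (R 6 1 (R 7 4 (L true 0
  (-1) 0) (R 4 0 (R 6 0 (L false (-1) 1 0) (L false 1 (-1) 0)) (L false 1 (-1) 0))) (R 4 0 (R 7 0
  (L false (-1) 1 0) (R 7 1 (R 6 1 (L true 0 (-1) 0) (R 7 0 (R 6 0 (L true 0 (-1) 0) (L false 1
  (-1) 0)) (L false 1 (-1) 0))) (L false 1 (-1) 0))) (L false 1 (-1) 0))))) (L true 1 0 0)) (L true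
  0 1 0)) (L true 0 1 0)) (R 2 4 (L true (-1) 0 0) (R 5 5 (R 7 14 (R 6 14 (R 2 6 (R 6 1 (R 7 7 (L
  true 0 (-1) 0) (R 4 0 (R 6 0 (L false (-1) 1 0) (L false 1 (-1) 0)) (L false 1 (-1) 0))) (R 4 0
  (R 7 2 (R 7 0 (L false (-1) 1 0) (R 6 4 (L true 0 (-1) 0) (L false 1 (-1) 0))) (L false 1 (-1)
  0)) (L false 1 (-1) 0))) (L true 1 0 0)) (L true 0 1 0)) (L true 0 1 0)) (R 4 0 (R 7 0 (L false
  (-1) 1 0) (R 6 0 (L false (-1) 1 0) (R 7 7 (R 6 5 (L true 0 (-1) 0) (R 7 0 (R 6 1 (L true 0 (-1)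
  0) (L false 1 (-1) 0)) (L false 1 (-1) 0))) (L false 1 (-1) 0)))) (L false 1 0 0))))) (L true 1 0
  0)))) (R 5 4 (R 7 10 (R 6 10 (R 4 6 (R 2 12 (R 5 3 (R 6 0 (R 7 5 (L true 0 (-1) 0) (R 4 0 (R 2 5
  (R 7 1 (R 5 1 (R 2 1 (L false 1 (-1) 0) (R 7 0 (L false (-1) 1 0) (R 5 0 (L true 0 1 0) (R 2 1 (L
  false 1 (-1) 0) (L true 1 0 0))))) (L true 0 (-1) 0)) (L false 1 (-1) 0)) (L true 1 0 0)) (L
  false 1 (-1) 0))) (R 7 0 (R 6 4 (L true 0 (-1) 0) (R 4 0 (R 2 5 (R 6 1 (R 5 1 (R 2 1 (L false 1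
  (-1) 0) (R 6 0 (L false (-1) 1 0) (R 5 0 (L true 0 1 0) (R 2 1 (L false 1 (-1) 0) (L true 1 0
  0))))) (L true 0 (-1) 0)) (L false 1 (-1) 0)) (L true 1 0 0)) (L false 1 (-1) 0))) (L false 1
  (-1) 0))) (L false 1 0 0)) (L true 1 0 0)) (L false 1 0 0)) (L true 0 1 0)) (L true 0 1 0)) (L
  false 1 0 0)))) (L true 1 0 0)) (L false 1 0 0))) (L true 0 1 0)) (L true 0 1 0)) (L false 1 0
  0))))) (L false 1 (-1) 0))))))) (L true (-1) 0 0))) (S 4 (S 2 (R 3 3 (R 6 1 (L true 0 (-1) 0) (R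
  3 0 (R 4 0 (R 7 0 (R 2 0 (L false 1 (-1) 0) (L false (-1) 1 0)) (L false (-1) 1 0)) (L false (-1)
  1 0)) (L false 1 (-1) 0))) (L false 1 (-1) 0)) (R 6 1 (L true 0 (-1) 0) (R 3 1 (R 3 0 (L false
  (-1) 1 0) (R 2 0 (R 4 3 (L false 1 (-1) 0) (R 5 0 (L true 1 0 0) (R 7 0 (L false 1 (-1) 0) (R 6 1
  (L true 0 (-1) 0) (R 4 649 (R 5 649 (R 5 2 (R 4 2 (R 7 2 (L false 1 (-1) 0) (R 4 0 (L false 1
  (-1) 0) (R 5 0 (L true 1 0 0) (R 6 3 (L true 0 (-1) 0) (R 7 5 (L false 1 (-1) 0) (R 6 37 (R 7 31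
  (R 4 0 (L false 1 (-1) 0) (R 5 0 (L true 1 0 0) (R 6 6 (L true 0 (-1) 0) (R 7 11 (L false 1 (-1)
  0) (R 6 11 (L true 0 (-1) 0) (L false 1 (-1) 0)))))) (L true 0 (-1) 0)) (L false 1 (-1) 0)))))))
  (L true 1 0 0)) (R 4 2 (L true (-1) 0 0) (R 7 17 (R 6 2 (L true 0 (-1) 0) (R 6 663 (R 5 5 (R 4 5
  (R 7 0 (L false 1 (-1) 0) (R 6 22 (R 7 8 (R 6 14 (R 5 1 (R 4 1 (R 7 1 (L false 1 (-1) 0) (R 6 2
  (L true 0 (-1) 0) (R 6 7 (R 7 4 (R 7 0 (L false 1 (-1) 0) (R 6 5 (R 4 0 (R 5 0 (R 7 0 (L false 1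
  (-1) 0) (R 6 1 (L true 0 (-1) 0) (R 7 0 (L false 1 (-1) 0) (R 7 0 (R 6 1 (L false (-1) 1 0) (L
  false 1 (-1) 0)) (L false (-1) 1 0))))) (L true (-1) 0 0)) (L false (-1) 1 0)) (L true 0 1 0)))
  (L false (-1) 1 0)) (L true 0 1 0)))) (L true 1 0 0)) (R 4 1 (L true (-1) 0 0) (R 7 2 (R 6 2 (L
  true 0 (-1) 0) (R 7 0 (L false 1 (-1) 0) (R 4 1 (R 5 1 (R 6 3 (R 7 0 (R 4 0 (L false 1 (-1) 0) (L
  false (-1) 1 0)) (L false (-1) 1 0)) (L true 0 1 0)) (L true (-1) 0 0)) (L false (-1) 1 0)))) (L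
  false (-1) 1 0)))) (L true 0 1 0)) (L false (-1) 1 0)) (L true 0 1 0))) (L true 1 0 0)) (R 4 5 (L
  true (-1) 0 0) (R 7 1 (R 6 5 (L true 0 (-1) 0) (R 5 11 (R 4 11 (R 7 0 (L false 1 (-1) 0) (R 4 5
  (R 5 5 (R 6 6 (R 4 1 (R 5 1 (R 4 0 (L false 1 (-1) 0) (R 5 0 (L true 1 0 0) (R 6 2 (L false (-1)
  1 0) (L false 1 (-1) 0)))) (L true (-1) 0 0)) (L false (-1) 1 0)) (L true 0 1 0)) (L true (-1) 0
  0)) (L false (-1) 1 0))) (L true 1 0 0)) (R 4 11 (L true (-1) 0 0) (R 7 0 (R 4 23 (L false 1 (-1)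
  0) (R 5 23 (L true 1 0 0) (R 6 35 (L true 0 (-1) 0) (R 4 101 (L false 1 (-1) 0) (R 5 101 (L true
  1 0 0) (R 6 101 (L true 0 (-1) 0) (R 4 162 (L false 1 (-1) 0) (R 5 162 (L true 1 0 0) (R 6 162 (L
  true 0 (-1) 0) (R 4 115 (L false 1 (-1) 0) (R 5 115 (L true 1 0 0) (R 4 94 (R 5 94 (R 6 115 (L
  true 0 (-1) 0) (R 4 43 (L false 1 (-1) 0) (R 5 43 (L true 1 0 0) (R 6 94 (R 4 23 (R 5 23 (R 6 43
  (L true 0 (-1) 0) (R 4 11 (L false 1 (-1) 0) (R 5 11 (L true 1 0 0) (R 6 23 (R 4 5 (R 5 5 (R 6 11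
  (L true 0 (-1) 0) (R 4 2 (L false 1 (-1) 0) (R 5 2 (L true 1 0 0) (R 6 5 (R 4 0 (R 5 0 (R 6 1 (L
  false (-1) 1 0) (L false 1 (-1) 0)) (L true (-1) 0 0)) (L false (-1) 1 0)) (L true 0 1 0))))) (L
  true (-1) 0 0)) (L false (-1) 1 0)) (L true 0 1 0))))) (L true (-1) 0 0)) (L false (-1) 1 0)) (L
  true 0 1 0))))) (L true (-1) 0 0)) (L false (-1) 1 0))))))))))))) (L false (-1) 1 0))))) (L false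
  (-1) 1 0)))) (L true 0 1 0))) (L false (-1) 1 0)))) (L true (-1) 0 0)) (L false (-1) 1 0)))))) (L
  false 1 (-1) 0))) (L false 1 (-1) 0)))) (S 2 (R 6 1 (L true 0 (-1) 0) (R 3 1 (R 3 0 (L false (-1)
  1 0) (R 4 1 (R 7 0 (L false 1 (-1) 0) (R 2 3 (L true (-1) 0 0) (R 6 0 (L true 0 (-1) 0) (R 4 0 (R
  7 0 (L false 1 (-1) 0) (R 6 0 (L true 0 (-1) 0) (R 5 0 (R 2 0 (R 6 4 (R 7 4 (L false 1 (-1) 0) (L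
  true 0 (-1) 0)) (L false 1 (-1) 0)) (L true 1 0 0)) (R 5 1 (R 2 2 (R 7 1 (L false 1 (-1) 0) (R 6
  2 (L true 0 (-1) 0) (R 7 3 (L false 1 (-1) 0) (R 6 49 (R 7 45 (R 6 3 (L true 0 (-1) 0) (R 7 5 (L
  false 1 (-1) 0) (R 6 5 (L true 0 (-1) 0) (R 2 1 (L false 1 (-1) 0) (R 5 0 (L true 1 0 0) (R 7 9
  (L false 1 (-1) 0) (R 6 10 (L true 0 (-1) 0) (L false 1 (-1) 0)))))))) (L true 0 (-1) 0)) (L
  false 1 (-1) 0))))) (L true 1 0 0)) (R 6 2 (L true 0 (-1) 0) (R 2 2 (L true (-1) 0 0) (R 7 76 (R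
  5 2 (R 2 2 (R 7 2 (L false 1 (-1) 0) (R 6 78 (R 6 2 (L true 0 (-1) 0) (R 7 35 (R 6 37 (R 7 23 (R
  6 25 (R 5 0 (R 2 0 (R 7 3 (L false 1 (-1) 0) (R 6 3 (L true 0 (-1) 0) (R 7 2 (L false 1 (-1) 0)
  (R 7 11 (R 6 14 (R 7 8 (R 6 4 (R 7 1 (R 6 2 (L true 0 (-1) 0) (L false 1 (-1) 0)) (L true 0 (-1)
  0)) (R 7 2 (L false 1 (-1) 0) (R 6 6 (R 7 3 (R 6 4 (R 7 2 (R 6 0 (L false (-1) 1 0) (R 7 0 (L
  false 1 (-1) 0) (R 6 1 (L false (-1) 1 0) (R 7 0 (L false 1 (-1) 0) (R 6 0 (L false (-1) 1 0) (L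
  false 1 (-1) 0)))))) (L false (-1) 1 0)) (L true 0 1 0)) (L false (-1) 1 0)) (L true 0 1 0)))) (L
  false (-1) 1 0)) (L true 0 1 0)) (L false (-1) 1 0))))) (L true 1 0 0)) (R 2 0 (L true (-1) 0 0)
  (R 7 9 (R 6 11 (R 7 6 (R 6 8 (R 5 0 (R 2 0 (R 7 1 (L false 1 (-1) 0) (R 6 2 (L true 0 (-1) 0) (R
  7 1 (L false 1 (-1) 0) (R 6 1 (L false (-1) 1 0) (R 7 0 (L false 1 (-1) 0) (R 6 2 (L false (-1) 1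
  0) (L true 0 1 0))))))) (L true 1 0 0)) (R 6 1 (L true 0 (-1) 0) (R 7 1 (L false 1 (-1) 0) (R 6 1
  (L true 0 (-1) 0) (R 7 0 (L false 1 (-1) 0) (R 2 0 (L true (-1) 0 0) (R 7 0 (R 6 2 (L false (-1)
  1 0) (L false 1 (-1) 0)) (L false (-1) 1 0)))))))) (L true 0 1 0)) (L false (-1) 1 0)) (L true 0
  1 0)) (L false (-1) 1 0)))) (L true 0 1 0)) (L false (-1) 1 0)) (L true 0 1 0)) (L false (-1) 1
  0))) (L true 0 1 0))) (L true 1 0 0)) (R 6 2 (L true 0 (-1) 0) (R 7 0 (L false 1 (-1) 0) (R 2 2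
  (L true (-1) 0 0) (R 7 10 (R 5 3 (R 2 3 (R 6 14 (R 7 1 (L false 1 (-1) 0) (R 7 3 (R 6 2 (L true 0
  (-1) 0) (R 6 6 (R 7 2 (R 5 1 (R 2 1 (R 7 0 (L false 1 (-1) 0) (R 6 3 (R 7 0 (R 2 0 (L false 1
  (-1) 0) (R 5 0 (L true 1 0 0) (R 6 2 (L false (-1) 1 0) (L false 1 (-1) 0)))) (L false (-1) 1 0))
  (L true 0 1 0))) (L true 1 0 0)) (R 2 1 (L true (-1) 0 0) (R 7 1 (R 6 1 (L true 0 (-1) 0) (R 7 0
  (L false 1 (-1) 0) (R 6 3 (L false (-1) 1 0) (L true 0 1 0)))) (L false (-1) 1 0)))) (L false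
  (-1) 1 0)) (L true 0 1 0))) (L false (-1) 1 0))) (L true 0 1 0)) (L true 1 0 0)) (R 6 4 (L true 0
  (-1) 0) (R 2 3 (L true (-1) 0 0) (R 7 5 (R 5 5 (R 2 5 (R 6 10 (R 7 1 (L false 1 (-1) 0) (R 7 0 (R
  6 7 (R 6 1 (L false (-1) 1 0) (R 2 2 (R 5 2 (R 6 2 (R 2 0 (L false 1 (-1) 0) (R 5 0 (L true 1 0
  0) (R 6 1 (L false (-1) 1 0) (R 5 0 (L true 0 1 0) (R 2 0 (L false 1 (-1) 0) (L false (-1) 1
  0)))))) (L true 0 1 0)) (L true (-1) 0 0)) (L false (-1) 1 0))) (L true 0 1 0)) (L false (-1) 1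
  0))) (L true 0 1 0)) (L true 1 0 0)) (R 6 5 (L true 0 (-1) 0) (R 2 5 (L true (-1) 0 0) (R 7 3 (R
  5 8 (R 6 11 (R 2 8 (R 7 1 (R 7 0 (L false 1 (-1) 0) (R 6 3 (R 5 2 (R 2 4 (L false 1 (-1) 0) (L
  true 1 0 0)) (L true 0 (-1) 0)) (L false 1 (-1) 0))) (L false (-1) 1 0)) (L true 1 0 0)) (L true
  0 1 0)) (R 6 8 (L true 0 (-1) 0) (R 7 0 (L false 1 (-1) 0) (R 2 62 (R 5 53 (R 6 56 (R 7 1 (R 2 8
  (L true (-1) 0 0) (R 7 0 (R 2 24 (R 5 24 (R 6 25 (R 2 15 (R 5 15 (R 6 16 (R 2 11 (R 5 11 (R 2 2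
  (L false 1 (-1) 0) (R 5 2 (L true 1 0 0) (R 6 3 (L true 0 (-1) 0) (R 2 2 (L false 1 (-1) 0) (R 5
  2 (L true 1 0 0) (R 6 2 (L true 0 (-1) 0) (R 6 5 (R 2 3 (R 5 3 (R 6 3 (R 2 0 (L false 1 (-1) 0)
  (R 5 0 (L true 1 0 0) (R 6 0 (L false (-1) 1 0) (R 2 0 (L false 1 (-1) 0) (R 5 0 (L true 1 0 0)
  (R 6 1 (L false (-1) 1 0) (R 5 0 (L true 0 1 0) (R 2 0 (L false 1 (-1) 0) (L false (-1) 1
  0))))))))) (L true 0 1 0)) (L true (-1) 0 0)) (L false (-1) 1 0)) (L true 0 1 0)))))))) (L true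
  (-1) 0 0)) (L false (-1) 1 0)) (L true 0 1 0)) (L true (-1) 0 0)) (L false (-1) 1 0)) (L true 0 1
  0)) (L true (-1) 0 0)) (L false (-1) 1 0)) (L false (-1) 1 0))) (L false (-1) 1 0)) (L true 0 1
  0)) (L true (-1) 0 0)) (L false (-1) 1 0))))) (L false (-1) 1 0))))) (L false (-1) 1 0))))) (L
  false (-1) 1 0)))))) (L false (-1) 1 0)))))))) (L false 1 (-1) 0))))) (L false 1 (-1) 0))) (L
  false 1 (-1) 0))) (L true (-1) 0 0)))) (S 7 (S 4 (S 2 (R 3 3 (R 7 1 (L true 0 (-1) 0) (R 3 0 (R 4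
  0 (R 6 0 (R 2 0 (L false 1 (-1) 0) (L false (-1) 1 0)) (L false (-1) 1 0)) (L false (-1) 1 0)) (L
  false 1 (-1) 0))) (L false 1 (-1) 0)) (R 7 1 (L true 0 (-1) 0) (R 3 1 (R 3 0 (L false (-1) 1 0)
  (R 2 0 (R 4 3 (L false 1 (-1) 0) (R 5 0 (L true 1 0 0) (R 6 0 (L false 1 (-1) 0) (R 7 1 (L true 0
  (-1) 0) (R 4 649 (R 5 649 (R 5 2 (R 4 2 (R 6 2 (L false 1 (-1) 0) (R 4 0 (L false 1 (-1) 0) (R 5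
  0 (L true 1 0 0) (R 7 3 (L true 0 (-1) 0) (R 6 5 (L false 1 (-1) 0) (R 7 37 (R 6 31 (R 4 0 (L
  false 1 (-1) 0) (R 5 0 (L true 1 0 0) (R 7 6 (L true 0 (-1) 0) (R 6 11 (L false 1 (-1) 0) (R 7 11
  (L true 0 (-1) 0) (L false 1 (-1) 0)))))) (L true 0 (-1) 0)) (L false 1 (-1) 0))))))) (L true 1 0
  0)) (R 4 2 (L true (-1) 0 0) (R 6 17 (R 7 2 (L true 0 (-1) 0) (R 7 663 (R 5 5 (R 4 5 (R 6 0 (L
  false 1 (-1) 0) (R 7 22 (R 6 8 (R 7 14 (R 5 1 (R 4 1 (R 6 1 (L false 1 (-1) 0) (R 7 2 (L true 0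
  (-1) 0) (R 7 7 (R 6 4 (R 6 0 (L false 1 (-1) 0) (R 7 5 (R 4 0 (R 5 0 (R 6 0 (L false 1 (-1) 0) (R
  7 1 (L true 0 (-1) 0) (R 6 0 (L false 1 (-1) 0) (R 6 0 (R 7 1 (L false (-1) 1 0) (L false 1 (-1)
  0)) (L false (-1) 1 0))))) (L true (-1) 0 0)) (L false (-1) 1 0)) (L true 0 1 0))) (L false (-1)
  1 0)) (L true 0 1 0)))) (L true 1 0 0)) (R 4 1 (L true (-1) 0 0) (R 6 2 (R 7 2 (L true 0 (-1) 0)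
  (R 6 0 (L false 1 (-1) 0) (R 4 1 (R 5 1 (R 7 3 (R 6 0 (R 4 0 (L false 1 (-1) 0) (L false (-1) 1
  0)) (L false (-1) 1 0)) (L true 0 1 0)) (L true (-1) 0 0)) (L false (-1) 1 0)))) (L false (-1) 1
  0)))) (L true 0 1 0)) (L false (-1) 1 0)) (L true 0 1 0))) (L true 1 0 0)) (R 4 5 (L true (-1) 0
  0) (R 6 1 (R 7 5 (L true 0 (-1) 0) (R 5 11 (R 4 11 (R 6 0 (L false 1 (-1) 0) (R 4 5 (R 5 5 (R 7 6
  (R 4 1 (R 5 1 (R 4 0 (L false 1 (-1) 0) (R 5 0 (L true 1 0 0) (R 7 2 (L false (-1) 1 0) (L false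
  1 (-1) 0)))) (L true (-1) 0 0)) (L false (-1) 1 0)) (L true 0 1 0)) (L true (-1) 0 0)) (L false
  (-1) 1 0))) (L true 1 0 0)) (R 4 11 (L true (-1) 0 0) (R 6 0 (R 4 23 (L false 1 (-1) 0) (R 5 23
  (L true 1 0 0) (R 7 35 (L true 0 (-1) 0) (R 4 101 (L false 1 (-1) 0) (R 5 101 (L true 1 0 0) (R 7
  101 (L true 0 (-1) 0) (R 4 162 (L false 1 (-1) 0) (R 5 162 (L true 1 0 0) (R 7 162 (L true 0 (-1)
  0) (R 4 115 (L false 1 (-1) 0) (R 5 115 (L true 1 0 0) (R 4 94 (R 5 94 (R 7 115 (L true 0 (-1) 0)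
  (R 4 43 (L false 1 (-1) 0) (R 5 43 (L true 1 0 0) (R 7 94 (R 4 23 (R 5 23 (R 7 43 (L true 0 (-1)
  0) (R 4 11 (L false 1 (-1) 0) (R 5 11 (L true 1 0 0) (R 7 23 (R 4 5 (R 5 5 (R 7 11 (L true 0 (-1)
  0) (R 4 2 (L false 1 (-1) 0) (R 5 2 (L true 1 0 0) (R 7 5 (R 4 0 (R 5 0 (R 7 1 (L false (-1) 1 0)
  (L false 1 (-1) 0)) (L true (-1) 0 0)) (L false (-1) 1 0)) (L true 0 1 0))))) (L true (-1) 0 0))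
  (L false (-1) 1 0)) (L true 0 1 0))))) (L true (-1) 0 0)) (L false (-1) 1 0)) (L true 0 1 0)))))
  (L true (-1) 0 0)) (L false (-1) 1 0))))))))))))) (L false (-1) 1 0))))) (L false (-1) 1 0)))) (L
  true 0 1 0))) (L false (-1) 1 0)))) (L true (-1) 0 0)) (L false (-1) 1 0)))))) (L false 1 (-1)
  0))) (L false 1 (-1) 0)))) (S 2 (R 7 1 (L true 0 (-1) 0) (R 3 1 (R 3 0 (L false (-1) 1 0) (R 4 1
  (R 6 0 (L false 1 (-1) 0) (R 2 3 (L true (-1) 0 0) (R 7 0 (L true 0 (-1) 0) (R 4 0 (R 6 0 (L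
  false 1 (-1) 0) (R 7 0 (L true 0 (-1) 0) (R 5 0 (R 2 0 (R 7 4 (R 6 4 (L false 1 (-1) 0) (L true 0
  (-1) 0)) (L false 1 (-1) 0)) (L true 1 0 0)) (R 5 1 (R 2 2 (R 6 1 (L false 1 (-1) 0) (R 7 2 (L
  true 0 (-1) 0) (R 6 3 (L false 1 (-1) 0) (R 7 49 (R 6 45 (R 7 3 (L true 0 (-1) 0) (R 6 5 (L false
  1 (-1) 0) (R 7 5 (L true 0 (-1) 0) (R 2 1 (L false 1 (-1) 0) (R 5 0 (L true 1 0 0) (R 6 9 (L
  false 1 (-1) 0) (R 7 10 (L true 0 (-1) 0) (L false 1 (-1) 0)))))))) (L true 0 (-1) 0)) (L false 1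
  (-1) 0))))) (L true 1 0 0)) (R 7 2 (L true 0 (-1) 0) (R 2 2 (L true (-1) 0 0) (R 6 76 (R 5 2 (R 2
  2 (R 6 2 (L false 1 (-1) 0) (R 7 78 (R 7 2 (L true 0 (-1) 0) (R 6 35 (R 7 37 (R 6 23 (R 7 25 (R 5
  0 (R 2 0 (R 6 3 (L false 1 (-1) 0) (R 7 3 (L true 0 (-1) 0) (R 6 2 (L false 1 (-1) 0) (R 6 11 (R
  7 14 (R 6 8 (R 7 4 (R 6 1 (R 7 2 (L true 0 (-1) 0) (L false 1 (-1) 0)) (L true 0 (-1) 0)) (R 6 2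
  (L false 1 (-1) 0) (R 7 6 (R 6 3 (R 7 4 (R 6 2 (R 7 0 (L false (-1) 1 0) (R 6 0 (L false 1 (-1)
  0) (R 7 1 (L false (-1) 1 0) (R 6 0 (L false 1 (-1) 0) (R 7 0 (L false (-1) 1 0) (L false 1 (-1)
  0)))))) (L false (-1) 1 0)) (L true 0 1 0)) (L false (-1) 1 0)) (L true 0 1 0)))) (L false (-1) 1
  0)) (L true 0 1 0)) (L false (-1) 1 0))))) (L true 1 0 0)) (R 2 0 (L true (-1) 0 0) (R 6 9 (R 7
  11 (R 6 6 (R 7 8 (R 5 0 (R 2 0 (R 6 1 (L false 1 (-1) 0) (R 7 2 (L true 0 (-1) 0) (R 6 1 (L false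
  1 (-1) 0) (R 7 1 (L false (-1) 1 0) (R 6 0 (L false 1 (-1) 0) (R 7 2 (L false (-1) 1 0) (L true 0
  1 0))))))) (L true 1 0 0)) (R 7 1 (L true 0 (-1) 0) (R 6 1 (L false 1 (-1) 0) (R 7 1 (L true 0
  (-1) 0) (R 6 0 (L false 1 (-1) 0) (R 2 0 (L true (-1) 0 0) (R 6 0 (R 7 2 (L false (-1) 1 0) (L
  false 1 (-1) 0)) (L false (-1) 1 0)))))))) (L true 0 1 0)) (L false (-1) 1 0)) (L true 0 1 0)) (L
  false (-1) 1 0)))) (L true 0 1 0)) (L false (-1) 1 0)) (L true 0 1 0)) (L false (-1) 1 0))) (L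
  true 0 1 0))) (L true 1 0 0)) (R 7 2 (L true 0 (-1) 0) (R 6 0 (L false 1 (-1) 0) (R 2 2 (L true
  (-1) 0 0) (R 6 10 (R 5 3 (R 2 3 (R 7 14 (R 6 1 (L false 1 (-1) 0) (R 6 3 (R 7 2 (L true 0 (-1) 0)
  (R 7 6 (R 6 2 (R 5 1 (R 2 1 (R 6 0 (L false 1 (-1) 0) (R 7 3 (R 6 0 (R 2 0 (L false 1 (-1) 0) (R
  5 0 (L true 1 0 0) (R 7 2 (L false (-1) 1 0) (L false 1 (-1) 0)))) (L false (-1) 1 0)) (L true 0
  1 0))) (L true 1 0 0)) (R 2 1 (L true (-1) 0 0) (R 6 1 (R 7 1 (L true 0 (-1) 0) (R 6 0 (L false 1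
  (-1) 0) (R 7 3 (L false (-1) 1 0) (L true 0 1 0)))) (L false (-1) 1 0)))) (L false (-1) 1 0)) (L
  true 0 1 0))) (L false (-1) 1 0))) (L true 0 1 0)) (L true 1 0 0)) (R 7 4 (L true 0 (-1) 0) (R 2
  3 (L true (-1) 0 0) (R 6 5 (R 5 5 (R 2 5 (R 7 10 (R 6 1 (L false 1 (-1) 0) (R 6 0 (R 7 7 (R 7 1
  (L false (-1) 1 0) (R 2 2 (R 5 2 (R 7 2 (R 2 0 (L false 1 (-1) 0) (R 5 0 (L true 1 0 0) (R 7 1 (L
  false (-1) 1 0) (R 5 0 (L true 0 1 0) (R 2 0 (L false 1 (-1) 0) (L false (-1) 1 0)))))) (L true 0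
  1 0)) (L true (-1) 0 0)) (L false (-1) 1 0))) (L true 0 1 0)) (L false (-1) 1 0))) (L true 0 1
  0)) (L true 1 0 0)) (R 7 5 (L true 0 (-1) 0) (R 2 5 (L true (-1) 0 0) (R 6 3 (R 5 8 (R 7 11 (R 2
  8 (R 6 1 (R 6 0 (L false 1 (-1) 0) (R 7 3 (R 5 2 (R 2 4 (L false 1 (-1) 0) (L true 1 0 0)) (L
  true 0 (-1) 0)) (L false 1 (-1) 0))) (L false (-1) 1 0)) (L true 1 0 0)) (L true 0 1 0)) (R 7 8
  (L true 0 (-1) 0) (R 6 0 (L false 1 (-1) 0) (R 2 62 (R 5 53 (R 7 56 (R 6 1 (R 2 8 (L true (-1) 0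
  0) (R 6 0 (R 2 24 (R 5 24 (R 7 25 (R 2 15 (R 5 15 (R 7 16 (R 2 11 (R 5 11 (R 2 2 (L false 1 (-1)
  0) (R 5 2 (L true 1 0 0) (R 7 3 (L true 0 (-1) 0) (R 2 2 (L false 1 (-1) 0) (R 5 2 (L true 1 0 0)
  (R 7 2 (L true 0 (-1) 0) (R 7 5 (R 2 3 (R 5 3 (R 7 3 (R 2 0 (L false 1 (-1) 0) (R 5 0 (L true 1 0
  0) (R 7 0 (L false (-1) 1 0) (R 2 0 (L false 1 (-1) 0) (R 5 0 (L true 1 0 0) (R 7 1 (L false (-1)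
  1 0) (R 5 0 (L true 0 1 0) (R 2 0 (L false 1 (-1) 0) (L false (-1) 1 0))))))))) (L true 0 1 0))
  (L true (-1) 0 0)) (L false (-1) 1 0)) (L true 0 1 0)))))))) (L true (-1) 0 0)) (L false (-1) 1
  0)) (L true 0 1 0)) (L true (-1) 0 0)) (L false (-1) 1 0)) (L true 0 1 0)) (L true (-1) 0 0)) (L
  false (-1) 1 0)) (L false (-1) 1 0))) (L false (-1) 1 0)) (L true 0 1 0)) (L true (-1) 0 0)) (L
  false (-1) 1 0))))) (L false (-1) 1 0))))) (L false (-1) 1 0))))) (L false (-1) 1 0)))))) (L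
  false (-1) 1 0)))))))) (L false 1 (-1) 0))))) (L false 1 (-1) 0))) (L false 1 (-1) 0))) (L true
  (-1) 0 0))) (L true 0 (-1) 0)))))]

theorem c15_4_ok : c15_4.all (fun p => chk true p.2 p.1) = true := by decide +kernel

open Tr in
def c15_5 : List (List V × Tr) :=
  [([⟨0, 0, 2, 100, 42, 150, true⟩, ⟨1, 0, -1, 81, 87, 41, true⟩, ⟨1, 0, 1, 1, 65, 63, true⟩, ⟨1,
  0, 1, 1, 65, 63, true⟩, ⟨1, 1, 2, 100, 38, 90, true⟩, ⟨0, 1, 2, 9, 13, 51, true⟩, ⟨0, 1, 2, 9,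
  13, 51, true⟩, ⟨0, 0, 0, 0, 64, 64, true⟩], S 4 (S 1 (L false 1 0 0) (S 5 (S 6 (L false 0 1 0) (S
  2 (S 3 (R 1 0 (L false (-1) 1 0) (L false 1 0 0)) (R 1 0 (L false (-1) 1 0) (L false 1 0 0))) (S
  3 (R 1 0 (L false (-1) 1 0) (L false 1 0 0)) (R 1 0 (L false (-1) 1 0) (L false 1 0 0))))) (S 6
  (S 2 (S 3 (R 1 0 (L false (-1) 1 0) (L false 1 0 0)) (R 1 0 (L false (-1) 1 0) (L false 1 0 0)))
  (S 3 (R 1 0 (L false (-1) 1 0) (L false 1 0 0)) (R 1 0 (L false (-1) 1 0) (L false 1 0 0)))) (S 2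
  (S 3 (R 1 0 (L false (-1) 1 0) (L false 1 0 0)) (R 1 0 (L false (-1) 1 0) (L false 1 0 0))) (S 3
  (R 1 0 (L false (-1) 1 0) (L false 1 0 0)) (R 1 0 (L false (-1) 1 0) (L false 1 0 0))))))) (S 1
  (S 5 (S 6 (S 2 (S 3 (R 4 0 (L true 1 0 0) (L false 1 0 0)) (R 4 0 (R 6 0 (R 5 0 (L false 0 1 0)
  (L false 1 (-1) 0)) (L false 1 (-1) 0)) (L false 1 0 0))) (S 3 (R 4 0 (R 6 0 (R 5 0 (L false 0 1
  0) (L false 1 (-1) 0)) (L false 1 (-1) 0)) (L false 1 0 0)) (R 4 0 (R 6 0 (R 5 0 (L false 0 1 0)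
  (L false 1 (-1) 0)) (L false 1 (-1) 0)) (L false 1 0 0)))) (L false 1 (-1) 0)) (L false 1 (-1)
  0)) (S 5 (S 6 (S 2 (S 3 (R 1 0 (L false (-1) 1 0) (R 4 5 (R 6 6 (R 5 6 (R 4 0 (R 6 1 (R 5 1 (R 1
  0 (R 6 0 (L false (-1) 1 0) (R 5 0 (L false (-1) 1 0) (L true 0 1 0))) (R 5 0 (R 6 0 (L false 0 1
  0) (R 1 3 (L false (-1) 1 0) (L false 1 (-1) 0))) (R 6 0 (R 1 3 (L false (-1) 1 0) (L false 1
  (-1) 0)) (L false 1 (-1) 0)))) (L true 0 1 0)) (L true 0 1 0)) (R 1 1 (R 6 0 (L false 0 1 0) (R 5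
  0 (L false 0 1 0) (R 1 0 (R 6 0 (R 5 0 (R 4 0 (R 3 2 (R 2 2 (L false 1 (-1) 0) (L true 1 0 0)) (L
  true 1 0 0)) (L true 0 (-1) 0)) (L false 1 (-1) 0)) (L false 1 (-1) 0)) (L false 1 (-1) 0)))) (L
  false 1 0 0))) (L true 0 1 0)) (L true 0 1 0)) (L false 1 0 0))) (R 1 0 (L false (-1) 1 0) (R 4 5
  (R 6 6 (R 5 6 (R 2 2 (L true (-1) 0 0) (R 4 0 (R 6 1 (R 5 1 (R 1 0 (L false (-1) 1 0) (R 5 0 (R 6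
  0 (L false 0 1 0) (R 1 4 (R 1 3 (L false (-1) 1 0) (R 3 2 (L false (-1) 1 0) (R 2 7 (L true (-1)
  0 0) (R 3 6 (L false (-1) 1 0) (R 3 59 (R 2 66 (R 2 6 (L true (-1) 0 0) (R 3 4 (L false (-1) 1 0)
  (R 3 21 (R 2 4 (L true (-1) 0 0) (R 2 21 (R 3 11 (R 2 11 (R 3 7 (R 3 1 (L false (-1) 1 0) (R 2 7
  (R 3 3 (R 2 1 (L true (-1) 0 0) (R 3 1 (L false (-1) 1 0) (R 2 1 (L false 1 (-1) 0) (R 3 0 (L
  false (-1) 1 0) (R 2 1 (L false 1 (-1) 0) (L false (-1) 1 0)))))) (L false 1 (-1) 0)) (L true 1 0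
  0))) (L false 1 (-1) 0)) (L true 1 0 0)) (L false 1 (-1) 0)) (L true 1 0 0))) (L false 1 (-1)
  0)))) (L true 1 0 0)) (L false 1 (-1) 0)))))) (L false 1 (-1) 0))) (R 6 0 (R 1 4 (R 1 3 (L false
  (-1) 1 0) (R 3 2 (L false (-1) 1 0) (R 2 7 (L true (-1) 0 0) (R 3 6 (L false (-1) 1 0) (R 3 59 (R
  2 66 (R 2 6 (L true (-1) 0 0) (R 3 4 (L false (-1) 1 0) (R 3 21 (R 2 4 (L true (-1) 0 0) (R 2 21
  (R 3 11 (R 2 11 (R 3 7 (R 3 1 (L false (-1) 1 0) (R 2 7 (R 3 3 (R 2 1 (L true (-1) 0 0) (R 3 1 (L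
  false (-1) 1 0) (R 2 1 (L false 1 (-1) 0) (R 3 0 (L false (-1) 1 0) (R 2 1 (L false 1 (-1) 0) (L
  false (-1) 1 0)))))) (L false 1 (-1) 0)) (L true 1 0 0))) (L false 1 (-1) 0)) (L true 1 0 0)) (L
  false 1 (-1) 0)) (L true 1 0 0))) (L false 1 (-1) 0)))) (L true 1 0 0)) (L false 1 (-1) 0))))))
  (L false 1 (-1) 0)) (L false 1 (-1) 0)))) (L true 0 1 0)) (L true 0 1 0)) (R 1 2 (R 6 0 (L false
  0 1 0) (R 5 0 (L false 0 1 0) (R 1 0 (R 6 0 (R 5 0 (L false (-1) 1 0) (L false 1 (-1) 0)) (L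
  false 1 (-1) 0)) (L false 1 (-1) 0)))) (L false 1 0 0)))) (L true 0 1 0)) (L true 0 1 0)) (L
  false 1 0 0)))) (S 3 (R 1 0 (L false (-1) 1 0) (R 4 5 (R 6 6 (R 5 6 (R 3 2 (L true (-1) 0 0) (R 4
  0 (R 6 1 (R 5 1 (R 1 0 (L false (-1) 1 0) (R 5 0 (R 6 0 (L false 0 1 0) (R 1 4 (R 1 3 (L false
  (-1) 1 0) (R 2 2 (L false (-1) 1 0) (R 3 7 (L true (-1) 0 0) (R 2 6 (L false (-1) 1 0) (R 2 59 (R
  3 66 (R 3 6 (L true (-1) 0 0) (R 2 4 (L false (-1) 1 0) (R 2 21 (R 3 4 (L true (-1) 0 0) (R 3 21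
  (R 2 11 (R 3 11 (R 2 7 (R 2 1 (L false (-1) 1 0) (R 3 7 (R 2 3 (R 3 1 (L true (-1) 0 0) (R 2 1 (L
  false (-1) 1 0) (R 3 1 (L false 1 (-1) 0) (R 2 0 (L false (-1) 1 0) (R 3 1 (L false 1 (-1) 0) (L
  false (-1) 1 0)))))) (L false 1 (-1) 0)) (L true 1 0 0))) (L false 1 (-1) 0)) (L true 1 0 0)) (L
  false 1 (-1) 0)) (L true 1 0 0))) (L false 1 (-1) 0)))) (L true 1 0 0)) (L false 1 (-1) 0))))))
  (L false 1 (-1) 0))) (R 6 0 (R 1 4 (R 1 3 (L false (-1) 1 0) (R 2 2 (L false (-1) 1 0) (R 3 7 (L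
  true (-1) 0 0) (R 2 6 (L false (-1) 1 0) (R 2 59 (R 3 66 (R 3 6 (L true (-1) 0 0) (R 2 4 (L false
  (-1) 1 0) (R 2 21 (R 3 4 (L true (-1) 0 0) (R 3 21 (R 2 11 (R 3 11 (R 2 7 (R 2 1 (L false (-1) 1
  0) (R 3 7 (R 2 3 (R 3 1 (L true (-1) 0 0) (R 2 1 (L false (-1) 1 0) (R 3 1 (L false 1 (-1) 0) (R
  2 0 (L false (-1) 1 0) (R 3 1 (L false 1 (-1) 0) (L false (-1) 1 0)))))) (L false 1 (-1) 0)) (L
  true 1 0 0))) (L false 1 (-1) 0)) (L true 1 0 0)) (L false 1 (-1) 0)) (L true 1 0 0))) (L false 1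
  (-1) 0)))) (L true 1 0 0)) (L false 1 (-1) 0)))))) (L false 1 (-1) 0)) (L false 1 (-1) 0)))) (L
  true 0 1 0)) (L true 0 1 0)) (R 1 2 (R 6 0 (L false 0 1 0) (R 5 0 (L false 0 1 0) (R 1 0 (R 6 0
  (R 5 0 (L false (-1) 1 0) (L false 1 (-1) 0)) (L false 1 (-1) 0)) (L false 1 (-1) 0)))) (L false
  1 0 0)))) (L true 0 1 0)) (L true 0 1 0)) (L false 1 0 0))) (L true (-1) 0 0))) (S 2 (S 3 (R 1 3
  (R 5 1 (L true 0 (-1) 0) (R 1 0 (L false (-1) 1 0) (L false 1 (-1) 0))) (L false 1 (-1) 0)) (R 1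
  3 (R 5 1 (L true 0 (-1) 0) (R 1 0 (L false (-1) 1 0) (L false 1 (-1) 0))) (L false 1 (-1) 0))) (S
  3 (R 1 3 (R 5 1 (L true 0 (-1) 0) (R 1 0 (L false (-1) 1 0) (L false 1 (-1) 0))) (L false 1 (-1)
  0)) (L true (-1) 0 0)))) (S 6 (S 2 (S 3 (R 1 3 (R 6 1 (L true 0 (-1) 0) (R 1 0 (L false (-1) 1 0)
  (L false 1 (-1) 0))) (L false 1 (-1) 0)) (R 1 3 (R 6 1 (L true 0 (-1) 0) (R 1 0 (L false (-1) 1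
  0) (L false 1 (-1) 0))) (L false 1 (-1) 0))) (S 3 (R 1 3 (R 6 1 (L true 0 (-1) 0) (R 1 0 (L false
  (-1) 1 0) (L false 1 (-1) 0))) (L false 1 (-1) 0)) (L true (-1) 0 0))) (L true 0 (-1) 0))))),
  ([⟨0, 0, 1, 25, 53, 75, true⟩, ⟨0, 0, 1, 25, 53, 75, true⟩, ⟨0, 0, 1, 25, 53, 75, true⟩, ⟨0, 0,
  1, 25, 53, 75, true⟩, ⟨1, 0, -1, 81, 87, 41, true⟩, ⟨1, 0, 1, 1, 65, 63, true⟩, ⟨1, 0, 1, 1, 65,
  63, true⟩, ⟨1, 1, 2, 100, 38, 90, true⟩, ⟨0, 1, 2, 9, 13, 51, true⟩, ⟨0, 1, 2, 9, 13, 51, true⟩,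
  ⟨0, 0, 0, 0, 64, 64, true⟩], S 7 (S 4 (L false 1 0 0) (S 8 (S 9 (L false 0 1 0) (S 5 (S 6 (R 4 0
  (L false (-1) 1 0) (L false 1 0 0)) (R 4 0 (L false (-1) 1 0) (L false 1 0 0))) (S 6 (R 4 0 (L
  false (-1) 1 0) (L false 1 0 0)) (R 4 0 (L false (-1) 1 0) (L false 1 0 0))))) (S 9 (S 5 (S 6 (R
  4 0 (L false (-1) 1 0) (L false 1 0 0)) (R 4 0 (L false (-1) 1 0) (L false 1 0 0))) (S 6 (R 4 0
  (L false (-1) 1 0) (L false 1 0 0)) (R 4 0 (L false (-1) 1 0) (L false 1 0 0)))) (S 5 (S 6 (R 4 0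
  (L false (-1) 1 0) (L false 1 0 0)) (R 4 0 (L false (-1) 1 0) (L false 1 0 0))) (S 6 (R 4 0 (L
  false (-1) 1 0) (L false 1 0 0)) (R 4 0 (L false (-1) 1 0) (L false 1 0 0))))))) (S 4 (S 8 (S 9
  (S 5 (S 6 (R 7 0 (L true 1 0 0) (L false 1 0 0)) (R 7 0 (R 9 0 (R 8 0 (L false 0 1 0) (L false 1
  (-1) 0)) (L false 1 (-1) 0)) (L false 1 0 0))) (S 6 (R 7 0 (R 9 0 (R 8 0 (L false 0 1 0) (L false
  1 (-1) 0)) (L false 1 (-1) 0)) (L false 1 0 0)) (R 7 0 (R 9 0 (R 8 0 (L false 0 1 0) (L false 1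
  (-1) 0)) (L false 1 (-1) 0)) (L false 1 0 0)))) (L false 1 (-1) 0)) (L false 1 (-1) 0)) (S 8 (S 9
  (S 5 (S 6 (R 4 0 (L false (-1) 1 0) (R 7 5 (R 9 6 (R 8 6 (R 7 0 (R 9 1 (R 8 1 (R 4 0 (R 9 0 (L
  false (-1) 1 0) (R 8 0 (L false (-1) 1 0) (L true 0 1 0))) (R 8 0 (R 9 0 (L false 0 1 0) (R 4 3
  (L false (-1) 1 0) (L false 1 (-1) 0))) (R 9 0 (R 4 3 (L false (-1) 1 0) (L false 1 (-1) 0)) (L
  false 1 (-1) 0)))) (L true 0 1 0)) (L true 0 1 0)) (R 4 1 (R 9 0 (L false 0 1 0) (R 8 0 (L false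
  0 1 0) (R 4 0 (R 9 0 (R 8 0 (R 7 0 (R 6 2 (R 5 2 (L false 1 (-1) 0) (L true 1 0 0)) (L true 1 0
  0)) (L true 0 (-1) 0)) (L false 1 (-1) 0)) (L false 1 (-1) 0)) (L false 1 (-1) 0)))) (L false 1 0
  0))) (L true 0 1 0)) (L true 0 1 0)) (L false 1 0 0))) (R 4 0 (L false (-1) 1 0) (R 7 5 (R 9 6 (R
  8 6 (R 5 2 (L true (-1) 0 0) (R 7 0 (R 9 1 (R 8 1 (R 4 0 (L false (-1) 1 0) (R 8 0 (R 9 0 (L
  false 0 1 0) (R 4 4 (R 4 3 (L false (-1) 1 0) (R 6 2 (L false (-1) 1 0) (R 5 7 (L true (-1) 0 0)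
  (R 6 6 (L false (-1) 1 0) (R 6 59 (R 5 66 (R 5 6 (L true (-1) 0 0) (R 6 4 (L false (-1) 1 0) (R 6
  21 (R 5 4 (L true (-1) 0 0) (R 5 21 (R 6 11 (R 5 11 (R 6 7 (R 6 1 (L false (-1) 1 0) (R 5 7 (R 6
  3 (R 5 1 (L true (-1) 0 0) (R 6 1 (L false (-1) 1 0) (R 5 1 (L false 1 (-1) 0) (R 6 0 (L false
  (-1) 1 0) (R 5 1 (L false 1 (-1) 0) (L false (-1) 1 0)))))) (L false 1 (-1) 0)) (L true 1 0 0)))
  (L false 1 (-1) 0)) (L true 1 0 0)) (L false 1 (-1) 0)) (L true 1 0 0))) (L false 1 (-1) 0)))) (L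
  true 1 0 0)) (L false 1 (-1) 0)))))) (L false 1 (-1) 0))) (R 9 0 (R 4 4 (R 4 3 (L false (-1) 1 0)
  (R 6 2 (L false (-1) 1 0) (R 5 7 (L true (-1) 0 0) (R 6 6 (L false (-1) 1 0) (R 6 59 (R 5 66 (R 5
  6 (L true (-1) 0 0) (R 6 4 (L false (-1) 1 0) (R 6 21 (R 5 4 (L true (-1) 0 0) (R 5 21 (R 6 11 (R
  5 11 (R 6 7 (R 6 1 (L false (-1) 1 0) (R 5 7 (R 6 3 (R 5 1 (L true (-1) 0 0) (R 6 1 (L false (-1)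
  1 0) (R 5 1 (L false 1 (-1) 0) (R 6 0 (L false (-1) 1 0) (R 5 1 (L false 1 (-1) 0) (L false (-1)
  1 0)))))) (L false 1 (-1) 0)) (L true 1 0 0))) (L false 1 (-1) 0)) (L true 1 0 0)) (L false 1
  (-1) 0)) (L true 1 0 0))) (L false 1 (-1) 0)))) (L true 1 0 0)) (L false 1 (-1) 0)))))) (L false
  1 (-1) 0)) (L false 1 (-1) 0)))) (L true 0 1 0)) (L true 0 1 0)) (R 4 2 (R 9 0 (L false 0 1 0) (R
  8 0 (L false 0 1 0) (R 4 0 (R 9 0 (R 8 0 (L false (-1) 1 0) (L false 1 (-1) 0)) (L false 1 (-1)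
  0)) (L false 1 (-1) 0)))) (L false 1 0 0)))) (L true 0 1 0)) (L true 0 1 0)) (L false 1 0 0))))
  (S 6 (R 4 0 (L false (-1) 1 0) (R 7 5 (R 9 6 (R 8 6 (R 6 2 (L true (-1) 0 0) (R 7 0 (R 9 1 (R 8 1
  (R 4 0 (L false (-1) 1 0) (R 8 0 (R 9 0 (L false 0 1 0) (R 4 4 (R 4 3 (L false (-1) 1 0) (R 5 2
  (L false (-1) 1 0) (R 6 7 (L true (-1) 0 0) (R 5 6 (L false (-1) 1 0) (R 5 59 (R 6 66 (R 6 6 (L
  true (-1) 0 0) (R 5 4 (L false (-1) 1 0) (R 5 21 (R 6 4 (L true (-1) 0 0) (R 6 21 (R 5 11 (R 6 11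
  (R 5 7 (R 5 1 (L false (-1) 1 0) (R 6 7 (R 5 3 (R 6 1 (L true (-1) 0 0) (R 5 1 (L false (-1) 1 0)
  (R 6 1 (L false 1 (-1) 0) (R 5 0 (L false (-1) 1 0) (R 6 1 (L false 1 (-1) 0) (L false (-1) 1
  0)))))) (L false 1 (-1) 0)) (L true 1 0 0))) (L false 1 (-1) 0)) (L true 1 0 0)) (L false 1 (-1)
  0)) (L true 1 0 0))) (L false 1 (-1) 0)))) (L true 1 0 0)) (L false 1 (-1) 0)))))) (L false 1
  (-1) 0))) (R 9 0 (R 4 4 (R 4 3 (L false (-1) 1 0) (R 5 2 (L false (-1) 1 0) (R 6 7 (L true (-1) 0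
  0) (R 5 6 (L false (-1) 1 0) (R 5 59 (R 6 66 (R 6 6 (L true (-1) 0 0) (R 5 4 (L false (-1) 1 0)
  (R 5 21 (R 6 4 (L true (-1) 0 0) (R 6 21 (R 5 11 (R 6 11 (R 5 7 (R 5 1 (L false (-1) 1 0) (R 6 7
  (R 5 3 (R 6 1 (L true (-1) 0 0) (R 5 1 (L false (-1) 1 0) (R 6 1 (L false 1 (-1) 0) (R 5 0 (L
  false (-1) 1 0) (R 6 1 (L false 1 (-1) 0) (L false (-1) 1 0)))))) (L false 1 (-1) 0)) (L true 1 0
  0))) (L false 1 (-1) 0)) (L true 1 0 0)) (L false 1 (-1) 0)) (L true 1 0 0))) (L false 1 (-1)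
  0)))) (L true 1 0 0)) (L false 1 (-1) 0)))))) (L false 1 (-1) 0)) (L false 1 (-1) 0)))) (L true 0
  1 0)) (L true 0 1 0)) (R 4 2 (R 9 0 (L false 0 1 0) (R 8 0 (L false 0 1 0) (R 4 0 (R 9 0 (R 8 0
  (L false (-1) 1 0) (L false 1 (-1) 0)) (L false 1 (-1) 0)) (L false 1 (-1) 0)))) (L false 1 0
  0)))) (L true 0 1 0)) (L true 0 1 0)) (L false 1 0 0))) (L true (-1) 0 0))) (S 5 (S 6 (R 4 3 (R 8
  1 (L true 0 (-1) 0) (R 4 0 (L false (-1) 1 0) (L false 1 (-1) 0))) (L false 1 (-1) 0)) (R 4 3 (R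
  8 1 (L true 0 (-1) 0) (R 4 0 (L false (-1) 1 0) (L false 1 (-1) 0))) (L false 1 (-1) 0))) (S 6 (R
  4 3 (R 8 1 (L true 0 (-1) 0) (R 4 0 (L false (-1) 1 0) (L false 1 (-1) 0))) (L false 1 (-1) 0))
  (L true (-1) 0 0)))) (S 9 (S 5 (S 6 (R 4 3 (R 9 1 (L true 0 (-1) 0) (R 4 0 (L false (-1) 1 0) (L
  false 1 (-1) 0))) (L false 1 (-1) 0)) (R 4 3 (R 9 1 (L true 0 (-1) 0) (R 4 0 (L false (-1) 1 0)
  (L false 1 (-1) 0))) (L false 1 (-1) 0))) (S 6 (R 4 3 (R 9 1 (L true 0 (-1) 0) (R 4 0 (L false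
  (-1) 1 0) (L false 1 (-1) 0))) (L false 1 (-1) 0)) (L true (-1) 0 0))) (L true 0 (-1) 0))))),
  ([⟨0, 0, 1, 25, 53, 75, true⟩, ⟨0, 0, 1, 25, 53, 75, true⟩, ⟨0, 0, 2, 100, 42, 150, true⟩, ⟨1, 0,
  0, 16, 76, 52, true⟩, ⟨1, 0, 0, 16, 76, 52, true⟩, ⟨1, 0, 1, 1, 65, 63, true⟩, ⟨1, 1, 2, 100, 38,
  90, true⟩, ⟨0, 1, 2, 9, 13, 51, true⟩, ⟨0, 1, 2, 9, 13, 51, true⟩, ⟨0, 0, 0, 0, 64, 64, true⟩], S
  6 (L false 1 0 0) (S 7 (S 8 (S 3 (S 4 (S 5 (R 6 0 (L true 1 0 0) (L false 1 0 0)) (R 6 0 (R 8 0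
  (R 7 0 (L false 0 1 0) (L false 1 (-1) 0)) (L false 1 (-1) 0)) (L false 1 0 0))) (S 5 (R 6 0 (R 8
  1 (R 7 1 (R 7 0 (R 8 0 (L false 0 1 0) (R 4 0 (R 3 0 (L false 1 (-1) 0) (L true 1 0 0)) (L false
  1 (-1) 0))) (R 4 0 (R 8 0 (R 3 0 (L false 1 (-1) 0) (L true 1 0 0)) (L false 1 (-1) 0)) (L false
  1 (-1) 0))) (L true 0 1 0)) (L true 0 1 0)) (L false 1 0 0)) (R 6 0 (R 8 1 (R 7 1 (R 3 1 (L true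
  (-1) 0 0) (R 7 0 (R 8 0 (L false 0 1 0) (R 4 0 (L false (-1) 1 0) (L false 1 (-1) 0))) (R 4 0 (R
  8 0 (L false (-1) 1 0) (L false 1 (-1) 0)) (L false 1 (-1) 0)))) (L true 0 1 0)) (L true 0 1 0))
  (L false 1 0 0)))) (S 4 (S 5 (R 6 0 (R 8 1 (R 7 1 (R 7 0 (R 8 0 (L false 0 1 0) (R 3 0 (R 4 0 (L
  false 1 (-1) 0) (L true 1 0 0)) (L false 1 (-1) 0))) (R 3 0 (R 8 0 (R 4 0 (L false 1 (-1) 0) (L
  true 1 0 0)) (L false 1 (-1) 0)) (L false 1 (-1) 0))) (L true 0 1 0)) (L true 0 1 0)) (L false 1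
  0 0)) (R 6 0 (R 8 1 (R 7 1 (R 4 1 (L true (-1) 0 0) (R 7 0 (R 8 0 (L false 0 1 0) (R 3 0 (L false
  (-1) 1 0) (L false 1 (-1) 0))) (R 3 0 (R 8 0 (L false (-1) 1 0) (L false 1 (-1) 0)) (L false 1
  (-1) 0)))) (L true 0 1 0)) (L true 0 1 0)) (L false 1 0 0))) (S 5 (R 6 2 (R 8 3 (R 7 3 (R 5 1 (L
  true (-1) 0 0) (R 7 0 (R 6 0 (R 8 0 (L false 0 1 0) (R 4 0 (L false (-1) 1 0) (R 3 3 (R 3 0 (L
  false (-1) 1 0) (R 4 2 (R 8 0 (R 4 0 (L false (-1) 1 0) (R 3 0 (L false (-1) 1 0) (L false 1 (-1)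
  0))) (L true 0 1 0)) (L false 1 (-1) 0))) (L false 1 (-1) 0)))) (L false 0 1 0)) (R 8 0 (R 6 0 (R
  4 0 (L false (-1) 1 0) (R 3 3 (R 3 0 (L false (-1) 1 0) (R 4 2 (R 7 0 (R 4 0 (L false (-1) 1 0)
  (R 3 0 (L false (-1) 1 0) (L false 1 (-1) 0))) (L true 0 1 0)) (L false 1 (-1) 0))) (L false 1
  (-1) 0))) (L false 0 1 0)) (L false 1 (-1) 0)))) (L true 0 1 0)) (L true 0 1 0)) (L false 1 0 0))
  (L true (-1) 0 0)))) (S 3 (S 4 (L false 1 (-1) 0) (S 5 (R 6 0 (R 7 0 (L true 0 (-1) 0) (L false 1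
  (-1) 0)) (L false 1 0 0)) (R 6 0 (R 7 0 (L true 0 (-1) 0) (L false 1 (-1) 0)) (L false 1 0 0))))
  (S 4 (S 5 (R 6 0 (R 7 0 (L true 0 (-1) 0) (L false 1 (-1) 0)) (L false 1 0 0)) (R 6 0 (R 7 0 (L
  true 0 (-1) 0) (L false 1 (-1) 0)) (L false 1 0 0))) (S 5 (R 7 0 (L true 0 (-1) 0) (L false 1
  (-1) 0)) (L true (-1) 0 0))))) (S 8 (S 3 (S 4 (L false 1 (-1) 0) (S 5 (R 6 0 (R 8 0 (L true 0
  (-1) 0) (L false 1 (-1) 0)) (L false 1 0 0)) (R 6 0 (R 8 0 (L true 0 (-1) 0) (L false 1 (-1) 0))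
  (L false 1 0 0)))) (S 4 (S 5 (R 6 0 (R 8 0 (L true 0 (-1) 0) (L false 1 (-1) 0)) (L false 1 0 0))
  (R 6 0 (R 8 0 (L true 0 (-1) 0) (L false 1 (-1) 0)) (L false 1 0 0))) (S 5 (R 8 0 (L true 0 (-1)
  0) (L false 1 (-1) 0)) (L true (-1) 0 0)))) (L false 1 (-1) 0)))), ([⟨0, 0, 1, 25, 53, 75, true⟩,
  ⟨0, 0, 1, 25, 53, 75, true⟩, ⟨0, 0, 1, 25, 53, 75, true⟩, ⟨0, 0, 1, 25, 53, 75, true⟩, ⟨0, 0, 1,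
  25, 53, 75, true⟩, ⟨0, 0, 1, 25, 53, 75, true⟩, ⟨1, 0, 0, 16, 76, 52, true⟩, ⟨1, 0, 0, 16, 76,
  52, true⟩, ⟨1, 0, 1, 1, 65, 63, true⟩, ⟨1, 1, 2, 100, 38, 90, true⟩, ⟨0, 1, 2, 9, 13, 51, true⟩,
  ⟨0, 1, 2, 9, 13, 51, true⟩, ⟨0, 0, 0, 0, 64, 64, true⟩], S 9 (L false 1 0 0) (S 10 (S 11 (S 6 (S
  7 (S 8 (R 9 0 (L true 1 0 0) (L false 1 0 0)) (R 9 0 (R 11 0 (R 10 0 (L false 0 1 0) (L false 1
  (-1) 0)) (L false 1 (-1) 0)) (L false 1 0 0))) (S 8 (R 9 0 (R 11 1 (R 10 1 (R 10 0 (R 11 0 (L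
  false 0 1 0) (R 7 0 (R 6 0 (L false 1 (-1) 0) (L true 1 0 0)) (L false 1 (-1) 0))) (R 7 0 (R 11 0
  (R 6 0 (L false 1 (-1) 0) (L true 1 0 0)) (L false 1 (-1) 0)) (L false 1 (-1) 0))) (L true 0 1
  0)) (L true 0 1 0)) (L false 1 0 0)) (R 9 0 (R 11 1 (R 10 1 (R 6 1 (L true (-1) 0 0) (R 10 0 (R
  11 0 (L false 0 1 0) (R 7 0 (L false (-1) 1 0) (L false 1 (-1) 0))) (R 7 0 (R 11 0 (L false (-1)
  1 0) (L false 1 (-1) 0)) (L false 1 (-1) 0)))) (L true 0 1 0)) (L true 0 1 0)) (L false 1 0 0))))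
  (S 7 (S 8 (R 9 0 (R 11 1 (R 10 1 (R 10 0 (R 11 0 (L false 0 1 0) (R 6 0 (R 7 0 (L false 1 (-1) 0)
  (L true 1 0 0)) (L false 1 (-1) 0))) (R 6 0 (R 11 0 (R 7 0 (L false 1 (-1) 0) (L true 1 0 0)) (L
  false 1 (-1) 0)) (L false 1 (-1) 0))) (L true 0 1 0)) (L true 0 1 0)) (L false 1 0 0)) (R 9 0 (R
  11 1 (R 10 1 (R 7 1 (L true (-1) 0 0) (R 10 0 (R 11 0 (L false 0 1 0) (R 6 0 (L false (-1) 1 0)
  (L false 1 (-1) 0))) (R 6 0 (R 11 0 (L false (-1) 1 0) (L false 1 (-1) 0)) (L false 1 (-1) 0))))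
  (L true 0 1 0)) (L true 0 1 0)) (L false 1 0 0))) (S 8 (R 9 2 (R 11 3 (R 10 3 (R 8 1 (L true (-1)
  0 0) (R 10 0 (R 9 0 (R 11 0 (L false 0 1 0) (R 7 0 (L false (-1) 1 0) (R 6 3 (R 6 0 (L false (-1)
  1 0) (R 7 2 (R 11 0 (R 7 0 (L false (-1) 1 0) (R 6 0 (L false (-1) 1 0) (L false 1 (-1) 0))) (L
  true 0 1 0)) (L false 1 (-1) 0))) (L false 1 (-1) 0)))) (L false 0 1 0)) (R 11 0 (R 9 0 (R 7 0 (L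
  false (-1) 1 0) (R 6 3 (R 6 0 (L false (-1) 1 0) (R 7 2 (R 10 0 (R 7 0 (L false (-1) 1 0) (R 6 0
  (L false (-1) 1 0) (L false 1 (-1) 0))) (L true 0 1 0)) (L false 1 (-1) 0))) (L false 1 (-1) 0)))
  (L false 0 1 0)) (L false 1 (-1) 0)))) (L true 0 1 0)) (L true 0 1 0)) (L false 1 0 0)) (L true
  (-1) 0 0)))) (S 6 (S 7 (L false 1 (-1) 0) (S 8 (R 9 0 (R 10 0 (L true 0 (-1) 0) (L false 1 (-1)
  0)) (L false 1 0 0)) (R 9 0 (R 10 0 (L true 0 (-1) 0) (L false 1 (-1) 0)) (L false 1 0 0)))) (S 7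
  (S 8 (R 9 0 (R 10 0 (L true 0 (-1) 0) (L false 1 (-1) 0)) (L false 1 0 0)) (R 9 0 (R 10 0 (L true
  0 (-1) 0) (L false 1 (-1) 0)) (L false 1 0 0))) (S 8 (R 10 0 (L true 0 (-1) 0) (L false 1 (-1)
  0)) (L true (-1) 0 0))))) (S 11 (S 6 (S 7 (L false 1 (-1) 0) (S 8 (R 9 0 (R 11 0 (L true 0 (-1)
  0) (L false 1 (-1) 0)) (L false 1 0 0)) (R 9 0 (R 11 0 (L true 0 (-1) 0) (L false 1 (-1) 0)) (L
  false 1 0 0)))) (S 7 (S 8 (R 9 0 (R 11 0 (L true 0 (-1) 0) (L false 1 (-1) 0)) (L false 1 0 0))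
  (R 9 0 (R 11 0 (L true 0 (-1) 0) (L false 1 (-1) 0)) (L false 1 0 0))) (S 8 (R 11 0 (L true 0
  (-1) 0) (L false 1 (-1) 0)) (L true (-1) 0 0)))) (L false 1 (-1) 0)))), ([⟨0, 0, 1, 25, 53, 75,
  true⟩, ⟨0, 0, 1, 25, 53, 75, true⟩, ⟨1, 0, 0, 16, 76, 52, true⟩, ⟨1, 0, -1, 81, 87, 41, true⟩,
  ⟨1, 0, 1, 1, 65, 63, true⟩, ⟨1, 1, 3, 25, 27, 165, true⟩, ⟨0, 1, 0, 64, 88, 40, true⟩, ⟨0, 1, 2,
  9, 13, 51, true⟩, ⟨0, 0, 0, 0, 64, 64, true⟩], S 5 (S 3 (L false 1 0 0) (S 6 (S 7 (L false 0 1 0)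
  (S 2 (S 4 (R 3 0 (L false (-1) 1 0) (L false 1 0 0)) (R 3 0 (L false (-1) 1 0) (L false 1 0 0)))
  (S 4 (R 3 1 (R 5 1 (L false 0 1 0) (R 3 0 (L false (-1) 1 0) (R 2 0 (L true 1 0 0) (L false 1 0
  0)))) (L false 1 0 0)) (R 3 1 (R 5 1 (L false 0 1 0) (R 3 0 (L false (-1) 1 0) (R 2 0 (R 7 0 (L
  true 0 1 0) (L false (-1) 1 0)) (L false 1 0 0)))) (L false 1 0 0))))) (S 7 (S 2 (S 4 (R 3 0 (L
  true 1 0 0) (L false 1 0 0)) (R 3 0 (R 6 0 (R 5 0 (R 7 0 (L false 0 1 0) (L false 1 (-1) 0)) (L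
  true 0 1 0)) (L false (-1) 1 0)) (L false 1 0 0))) (S 4 (R 3 1 (R 6 0 (R 5 0 (R 7 0 (L false 0 1
  0) (L false 1 (-1) 0)) (L true 0 1 0)) (R 5 0 (L false 0 1 0) (R 7 0 (L false 0 1 0) (R 3 0 (L
  false (-1) 1 0) (R 2 0 (R 5 0 (L false 1 0 0) (L true 1 0 0)) (L false 1 0 0)))))) (L false 1 0
  0)) (R 3 1 (R 5 1 (L true (-1) 0 0) (R 6 1 (L true 0 1 0) (R 7 0 (L false 0 1 0) (R 3 0 (L false
  (-1) 1 0) (R 2 0 (R 6 10 (R 5 9 (R 5 1 (L false 1 0 0) (R 6 2 (L false 1 (-1) 0) (R 7 7 (R 7 0 (L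
  false (-1) 1 0) (R 6 0 (L false 1 (-1) 0) (R 6 3 (R 5 3 (R 4 4 (R 7 3 (R 4 0 (L true 1 0 0) (R 5
  0 (L false 1 0 0) (R 6 0 (L false 1 (-1) 0) (R 7 0 (L false (-1) 1 0) (R 5 1 (R 6 0 (L false 1
  (-1) 0) (R 7 0 (L false (-1) 1 0) (R 5 0 (R 7 0 (R 6 0 (L true 0 1 0) (L false 0 1 0)) (L true 0
  1 0)) (L true 0 1 0)))) (L true 0 1 0)))))) (L true 0 1 0)) (L true (-1) 0 0)) (L true 0 1 0)) (L
  false (-1) 1 0)))) (L true 0 1 0)))) (L true 0 1 0)) (L false (-1) 1 0)) (L false 1 0 0)))))) (L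
  false 1 0 0)))) (S 2 (S 4 (R 3 0 (L true 1 0 0) (L false 1 0 0)) (R 3 0 (R 6 1 (R 5 0 (L true 0
  (-1) 0) (R 6 0 (L false 1 (-1) 0) (R 7 0 (R 5 1 (R 2 0 (L false 1 (-1) 0) (L false (-1) 1 0)) (L
  true 0 1 0)) (L false (-1) 1 0)))) (L false (-1) 1 0)) (L false 1 0 0))) (S 4 (R 3 1 (R 5 0 (L
  true 0 (-1) 0) (R 6 0 (L false 1 (-1) 0) (R 3 0 (L false (-1) 1 0) (R 2 0 (L true 1 (-1) 0) (L
  false 1 0 0))))) (L false 1 0 0)) (R 3 1 (R 5 1 (L true (-1) 0 0) (R 6 0 (L false 1 (-1) 0) (R 3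
  0 (L false (-1) 1 0) (R 2 0 (R 6 8 (L false 1 (-1) 0) (R 5 8 (L true 0 (-1) 0) (R 7 0 (L false 1
  (-1) 0) (R 4 8 (L true 1 (-1) 0) (R 6 1 (L false 1 (-1) 0) (R 5 2 (L true 0 (-1) 0) (R 6 1150 (R
  4 1 (L true 1 0 0) (R 7 0 (R 6 449 (L false 1 (-1) 0) (R 5 449 (L true 0 (-1) 0) (R 5 700 (R 4
  449 (L true 1 0 0) (R 6 656 (L false 1 (-1) 0) (R 5 656 (L true 0 (-1) 0) (R 4 700 (R 4 656 (L
  true 1 0 0) (R 6 24 (L false 1 (-1) 0) (R 5 24 (L true 0 (-1) 0) (R 6 0 (R 5 0 (R 4 26 (L false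
  (-1) 1 0) (L false 1 (-1) 0)) (L true 0 1 0)) (L false (-1) 1 0))))) (L true (-1) 0 0))))) (L
  true 0 1 0)))) (R 6 22 (R 7 1 (R 5 24 (R 6 10 (L false 1 (-1) 0) (R 5 11 (L true 0 (-1) 0) (R 4
  24 (R 7 0 (R 6 9 (L false 1 (-1) 0) (R 5 9 (L true 0 (-1) 0) (R 4 21 (L true 1 0 0) (R 6 0 (L
  false 1 (-1) 0) (L false (-1) 1 0))))) (L false (-1) 1 0)) (L true (-1) 0 0)))) (L true 0 1 0))
  (R 6 7 (R 5 2 (L true 0 (-1) 0) (R 4 2 (L true 1 0 0) (R 7 0 (L false 1 (-1) 0) (R 6 5 (R 7 0 (L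
  false 1 (-1) 0) (R 6 4 (R 7 0 (L false 1 (-1) 0) (R 5 2 (L true 0 (-1) 0) (R 6 3 (R 7 0 (L false
  1 (-1) 0) (R 4 3 (L true 1 (-1) 0) (R 5 10 (R 7 9 (R 6 1 (L false 1 (-1) 0) (R 5 2 (L true 0 (-1)
  0) (R 7 4 (R 4 7 (R 7 0 (L false 1 (-1) 0) (R 6 0 (R 7 2 (L false 1 (-1) 0) (L false (-1) 1 0))
  (L false (-1) 1 0))) (L true (-1) 1 0)) (L false (-1) 1 0)))) (L true 0 (-1) 0)) (R 7 6 (L true 0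
  1 0) (R 6 1 (R 7 5 (L false 1 (-1) 0) (R 4 12 (L true 1 (-1) 0) (R 5 15 (R 7 12 (R 6 0 (L false 1
  (-1) 0) (R 5 3 (L true 0 (-1) 0) (R 7 2 (R 5 2 (R 4 3 (R 7 0 (L false 1 (-1) 0) (L false (-1) 1
  0)) (L true (-1) 0 0)) (L true 0 1 0)) (L false (-1) 1 0)))) (L true 0 (-1) 0)) (R 7 11 (L true 0
  1 0) (R 6 0 (R 7 316 (L false 1 (-1) 0) (R 5 315 (L true 0 (-1) 0) (R 4 328 (L true 1 0 0) (L
  false 1 (-1) 0)))) (L false (-1) 1 0)))))) (L false (-1) 1 0)))))) (L false (-1) 1 0)))) (L false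
  (-1) 1 0))) (L false (-1) 1 0))))) (L false (-1) 1 0))) (L false (-1) 1 0)))) (L false (-1) 1
  0)))))))) (L false 1 0 0))))) (L false 1 0 0))))))) (S 3 (L false 1 0 0) (S 6 (S 7 (S 2 (S 4 (R 3
  0 (L false (-1) 1 0) (L false 1 0 0)) (R 3 0 (L false (-1) 1 0) (L false 1 0 0))) (S 4 (R 3 1 (R
  7 0 (L false 0 1 0) (R 3 0 (L false (-1) 1 0) (R 6 5 (L false 0 1 0) (R 2 2 (R 5 5 (L true 0 1 0)
  (R 2 0 (L false (-1) 1 0) (L false 1 0 0))) (L false 1 0 0))))) (L false 1 0 0)) (L true (-1) 0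
  0))) (S 2 (S 4 (R 3 0 (L false (-1) 1 0) (L false 1 0 0)) (R 3 0 (L false (-1) 1 0) (L false 1 0
  0))) (S 4 (R 3 1 (R 3 0 (L false (-1) 1 0) (R 6 1 (L false 0 1 0) (R 2 2 (R 4 3 (L true (-1) 0 0)
  (R 6 1 (R 7 0 (R 5 1 (R 2 0 (L false (-1) 1 0) (R 6 0 (R 5 0 (R 2 0 (L false (-1) 1 0) (L false 1
  (-1) 0)) (L false 0 1 0)) (L false 1 (-1) 0))) (L true 0 (-1) 0)) (L false (-1) 1 0)) (R 2 0 (R 7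
  1 (R 5 0 (L true 0 1 0) (R 6 4 (L false (-1) 1 0) (R 7 0 (L false 1 (-1) 0) (R 5 4 (L true 0 1 0)
  (R 6 433 (L false (-1) 1 0) (R 5 433 (L true 0 1 0) (R 4 13 (L true (-1) 0 0) (L false (-1) 1
  0)))))))) (L false (-1) 1 0)) (R 5 1 (R 6 5 (R 7 0 (L false 1 (-1) 0) (R 7 6 (R 6 3 (R 4 3 (R 7 4
  (R 4 0 (L true (-1) 0 0) (R 6 1 (R 7 2 (R 2 0 (R 7 0 (R 5 0 (L true 0 1 0) (R 6 0 (L false (-1) 1
  0) (L false 1 (-1) 0))) (L false (-1) 1 0)) (R 5 0 (R 7 1 (L false 1 (-1) 0) (R 6 0 (L false (-1)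
  1 0) (L false 1 (-1) 0))) (L false 1 0 0))) (L true 0 (-1) 0)) (R 7 1 (L false 1 (-1) 0) (R 2 0
  (R 6 0 (L false (-1) 1 0) (R 7 1 (L false 1 (-1) 0) (L false (-1) 1 0))) (L false 1 (-1) 0)))))
  (L true 0 (-1) 0)) (L true 1 0 0)) (L false 1 (-1) 0)) (L true 0 (-1) 0))) (L false 1 (-1) 0)) (L
  false 1 0 0))))) (L false 1 0 0)))) (L false 1 0 0)) (L true (-1) 0 0)))) (S 7 (S 2 (S 4 (R 3 0
  (R 6 0 (R 7 0 (L true 0 (-1) 0) (L false 1 (-1) 0)) (L false (-1) 1 0)) (L false 1 0 0)) (R 3 0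
  (R 6 0 (R 7 0 (L true 0 (-1) 0) (L false 1 (-1) 0)) (L false (-1) 1 0)) (L false 1 0 0))) (S 4 (R
  3 1 (R 7 2 (L true 0 (-1) 0) (R 6 0 (L false 1 (-1) 0) (R 3 0 (L false (-1) 1 0) (R 2 0 (R 6 6 (L
  false 1 (-1) 0) (R 6 7 (R 7 7 (L true 0 (-1) 0) (R 6 2 (L false 1 (-1) 0) (R 4 3 (L true (-1) 0
  0) (R 6 1 (R 7 2 (L false (-1) 1 0) (R 7 1601 (R 5 1601 (R 4 1601 (R 5 2 (R 7 3 (R 6 0 (R 4 2 (R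
  7 1 (R 5 1 (R 4 0 (L false 1 (-1) 0) (R 5 0 (L true 1 0 0) (R 7 0 (L false (-1) 1 0) (R 4 0 (L
  false 1 (-1) 0) (L false (-1) 1 0))))) (L true 0 (-1) 0)) (L false 1 (-1) 0)) (L true 1 0 0)) (L
  false (-1) 1 0)) (L true 0 1 0)) (R 7 2 (L true 0 (-1) 0) (R 4 2 (L true (-1) 0 0) (R 5 5 (R 7 6
  (R 6 0 (R 4 5 (R 7 0 (R 5 0 (R 4 4 (L false 1 (-1) 0) (L false (-1) 1 0)) (L true 0 (-1) 0)) (L
  false 1 (-1) 0)) (L true 1 0 0)) (L false (-1) 1 0)) (L true 0 1 0)) (R 7 5 (L true 0 (-1) 0) (R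
  6 0 (L false 1 (-1) 0) (R 7 45 (L false (-1) 1 0) (R 5 44 (L true 0 1 0) (R 4 50 (L true (-1) 0
  0) (R 7 330 (L false (-1) 1 0) (R 5 330 (L true 0 1 0) (R 4 330 (L true (-1) 0 0) (R 7 706 (L
  false (-1) 1 0) (R 5 706 (L true 0 1 0) (R 4 706 (L true (-1) 0 0) (R 7 281 (L false (-1) 1 0) (R
  5 281 (L true 0 1 0) (R 7 63 (R 5 63 (R 4 281 (L true (-1) 0 0) (R 7 40 (L false (-1) 1 0) (R 5
  40 (L true 0 1 0) (R 4 63 (R 7 6 (R 5 6 (R 4 40 (L true (-1) 0 0) (R 7 4 (L false (-1) 1 0) (R 5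
  4 (L true 0 1 0) (R 4 6 (L false 1 (-1) 0) (L true 1 0 0))))) (L true 0 (-1) 0)) (L false 1 (-1)
  0)) (L true 1 0 0))))) (L true 0 (-1) 0)) (L false 1 (-1) 0))))))))))))))))))) (L true 1 0 0)) (L
  true 0 (-1) 0)) (L false 1 (-1) 0))) (L false (-1) 1 0))))) (L false (-1) 1 0))) (L false 1 (-1)
  0))))) (L false 1 0 0)) (L true (-1) 0 0))) (L true 0 (-1) 0))))), ([⟨0, 0, 2, 100, 42, 150,
  true⟩, ⟨1, 0, 0, 16, 76, 52, true⟩, ⟨1, 0, 0, 16, 76, 52, true⟩, ⟨1, 0, 0, 16, 76, 52, true⟩, ⟨1,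
  1, 3, 25, 27, 165, true⟩, ⟨0, 1, 0, 64, 88, 40, true⟩, ⟨0, 1, 2, 9, 13, 51, true⟩, ⟨0, 0, 0, 0,
  64, 64, true⟩], S 4 (L false 1 0 0) (S 5 (S 6 (S 1 (L false 1 0 0) (S 2 (L false 1 0 0) (S 3 (L
  false 1 0 0) (L true (-1) 0 0)))) (S 1 (L false 1 0 0) (S 2 (L false 1 0 0) (S 3 (L false 1 0 0)
  (L true (-1) 0 0))))) (S 6 (S 1 (L false 1 0 0) (S 2 (L false 1 0 0) (S 3 (L false 1 0 0) (L true
  (-1) 0 0)))) (L false 1 (-1) 0)))), ([⟨0, 0, 1, 25, 53, 75, true⟩, ⟨0, 0, 1, 25, 53, 75, true⟩,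
  ⟨0, 0, 1, 25, 53, 75, true⟩, ⟨0, 0, 1, 25, 53, 75, true⟩, ⟨1, 0, 0, 16, 76, 52, true⟩, ⟨1, 0, 0,
  16, 76, 52, true⟩, ⟨1, 0, 0, 16, 76, 52, true⟩, ⟨1, 1, 3, 25, 27, 165, true⟩, ⟨0, 1, 0, 64, 88,
  40, true⟩, ⟨0, 1, 2, 9, 13, 51, true⟩, ⟨0, 0, 0, 0, 64, 64, true⟩], S 7 (L false 1 0 0) (S 8 (S 9
  (S 4 (L false 1 0 0) (S 5 (L false 1 0 0) (S 6 (L false 1 0 0) (L true (-1) 0 0)))) (S 4 (L false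
  1 0 0) (S 5 (L false 1 0 0) (S 6 (L false 1 0 0) (L true (-1) 0 0))))) (S 9 (S 4 (L false 1 0 0)
  (S 5 (L false 1 0 0) (S 6 (L false 1 0 0) (L true (-1) 0 0)))) (L false 1 (-1) 0)))), ([⟨1, 0, 0,
  16, 76, 52, true⟩, ⟨1, 0, 1, 1, 65, 63, true⟩, ⟨1, 0, 1, 1, 65, 63, true⟩, ⟨1, 1, 1, 225, 49, 79,
  true⟩, ⟨0, 1, 0, 16, 76, 52, true⟩, ⟨0, 1, 4, 1, 65, 63, true⟩, ⟨0, 1, 4, 1, 65, 63, true⟩, ⟨0,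
  1, 4, 1, 65, 63, true⟩], L false 1 (-1) 0)]

theorem c15_5_ok : c15_5.all (fun p => chk true p.2 p.1) = true := by decide +kernel

open Tr in
def c15_6 : List (List V × Tr) :=
  [([⟨1, 0, -1, 81, 87, 41, true⟩, ⟨1, 0, 1, 1, 65, 63, true⟩, ⟨1, 0, 1, 1, 65, 63, true⟩, ⟨1, 1,
  2, 100, 38, 90, true⟩, ⟨0, 1, 0, 16, 76, 52, true⟩, ⟨0, 1, 0, 16, 76, 52, true⟩, ⟨0, 1, 4, 1, 65,
  63, true⟩, ⟨0, 1, 4, 1, 65, 63, true⟩], S 3 (L false 1 0 1) (S 0 (L false 1 (-1) 0) (S 4 (S 5 (S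
  6 (S 7 (S 1 (S 2 (R 3 0 (L false (-1) 1 (-1)) (L false 1 0 1)) (R 3 0 (L false (-1) 1 (-1)) (L
  false 1 0 1))) (S 2 (R 3 0 (L false (-1) 1 (-1)) (L false 1 0 1)) (L true (-1) 0 0))) (S 1 (S 2
  (R 3 0 (L false (-1) 1 (-1)) (L false 1 (-1) 1)) (R 3 0 (L false (-1) 1 (-1)) (L false 1 (-1)
  1))) (S 2 (R 3 0 (L false (-1) 1 (-1)) (L false 1 (-1) 1)) (L true (-1) 0 0)))) (S 7 (S 1 (S 2 (R
  3 0 (L false (-1) 1 (-1)) (L false 1 (-1) 1)) (R 3 0 (L false (-1) 1 (-1)) (L false 1 (-1) 1)))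
  (S 2 (R 3 0 (L false (-1) 1 (-1)) (L false 1 (-1) 1)) (L true (-1) 0 0))) (S 1 (S 2 (R 3 0 (L
  false (-1) 1 (-1)) (L false 1 (-1) 1)) (R 3 0 (L false (-1) 1 (-1)) (L false 1 (-1) 1))) (S 2 (R
  3 0 (L false (-1) 1 (-1)) (L false 1 (-1) 1)) (L true (-1) 0 0))))) (S 6 (S 7 (S 1 (S 2 (R 3 0 (L
  true 0 0 1) (L false 1 0 1)) (R 3 0 (L true (-1) 0 1) (L false 1 0 1))) (S 2 (R 3 0 (L true (-1)
  0 1) (L false 1 0 1)) (L true (-1) 0 0))) (S 1 (S 2 (R 3 0 (R 0 0 (L false 0 0 1) (L false 0 0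
  (-1))) (L false 1 (-1) 1)) (R 3 0 (R 0 0 (L false 0 0 1) (L false 0 0 (-1))) (L false 1 (-1) 1)))
  (S 2 (R 3 0 (R 0 0 (L false 0 0 1) (L false 0 0 (-1))) (L false 1 (-1) 1)) (L true (-1) 0 0))))
  (S 7 (S 1 (S 2 (R 3 0 (R 0 0 (L false 0 0 1) (L false 0 0 (-1))) (L false 1 (-1) 1)) (R 3 0 (R 0
  0 (L false 0 0 1) (L false 0 0 (-1))) (L false 1 (-1) 1))) (S 2 (R 3 0 (R 0 0 (L false 0 0 1) (L
  false 0 0 (-1))) (L false 1 (-1) 1)) (L true (-1) 0 0))) (S 1 (S 2 (R 3 0 (R 0 0 (L false 0 0 1)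
  (L false 0 0 (-1))) (L false 1 (-1) 1)) (R 3 0 (R 0 0 (L false 0 0 1) (L false 0 0 (-1))) (L
  false 1 (-1) 1))) (S 2 (R 3 0 (R 0 0 (L false 0 0 1) (L false 0 0 (-1))) (L false 1 (-1) 1)) (L
  true (-1) 0 0)))))) (S 5 (S 6 (S 7 (S 1 (S 2 (R 3 0 (L true 0 0 1) (L false 1 0 1)) (R 3 0 (L
  true (-1) 0 1) (L false 1 0 1))) (S 2 (R 3 0 (L true (-1) 0 1) (L false 1 0 1)) (L true (-1) 0
  0))) (S 1 (S 2 (R 3 0 (R 0 0 (L false 0 0 1) (L false 0 0 (-1))) (L false 1 (-1) 1)) (R 3 0 (R 0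
  0 (L false 0 0 1) (L false 0 0 (-1))) (L false 1 (-1) 1))) (S 2 (R 3 0 (R 0 0 (L false 0 0 1) (L
  false 0 0 (-1))) (L false 1 (-1) 1)) (L true (-1) 0 0)))) (S 7 (S 1 (S 2 (R 3 0 (R 0 0 (L false 0
  0 1) (L false 0 0 (-1))) (L false 1 (-1) 1)) (R 3 0 (R 0 0 (L false 0 0 1) (L false 0 0 (-1))) (L
  false 1 (-1) 1))) (S 2 (R 3 0 (R 0 0 (L false 0 0 1) (L false 0 0 (-1))) (L false 1 (-1) 1)) (L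
  true (-1) 0 0))) (S 1 (S 2 (R 3 0 (R 0 0 (L false 0 0 1) (L false 0 0 (-1))) (L false 1 (-1) 1))
  (R 3 0 (R 0 0 (L false 0 0 1) (L false 0 0 (-1))) (L false 1 (-1) 1))) (S 2 (R 3 0 (R 0 0 (L
  false 0 0 1) (L false 0 0 (-1))) (L false 1 (-1) 1)) (L true (-1) 0 0))))) (L true (-1) (-4)
  1))))), ([⟨0, 0, 1, 25, 53, 75, true⟩, ⟨0, 0, 1, 25, 53, 75, true⟩, ⟨1, 0, 0, 16, 76, 52, true⟩,
  ⟨1, 0, 0, 16, 76, 52, true⟩, ⟨1, 0, 1, 1, 65, 63, true⟩, ⟨1, 1, 2, 100, 38, 90, true⟩, ⟨0, 1, 0,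
  16, 76, 52, true⟩, ⟨0, 1, 0, 16, 76, 52, true⟩, ⟨0, 1, 4, 1, 65, 63, true⟩, ⟨0, 1, 4, 1, 65, 63,
  true⟩], S 5 (L false 1 0 0) (S 2 (L false 1 (-1) 0) (S 3 (L false 1 (-1) 0) (S 6 (S 7 (S 8 (S 9
  (S 4 (R 5 2 (L true 0 1 0) (L false 1 0 0)) (L true (-1) 0 0)) (S 4 (R 5 2 (R 3 0 (R 2 0 (R 7 0
  (R 6 0 (L false (-1) 1 0) (L false 1 (-1) 0)) (L false 1 (-1) 0)) (L false 1 (-1) 0)) (L false 1
  (-1) 0)) (L false 1 0 0)) (L true (-1) 0 0))) (S 9 (S 4 (R 5 2 (R 3 0 (R 2 0 (R 7 0 (R 6 0 (L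
  false (-1) 1 0) (L false 1 (-1) 0)) (L false 1 (-1) 0)) (L false 1 (-1) 0)) (L false 1 (-1) 0))
  (L false 1 0 0)) (L true (-1) 0 0)) (S 4 (R 5 2 (R 3 0 (R 2 0 (R 7 0 (R 6 0 (L true 0 (-1) 0) (L
  false 1 (-1) 0)) (L false 1 (-1) 0)) (L false 1 (-1) 0)) (L false 1 (-1) 0)) (L false 1 0 0)) (L
  true (-1) 0 0)))) (L false 1 (-1) 0)) (L false 1 (-1) 0))))), ([⟨1, 0, 0, 16, 76, 52, true⟩, ⟨1,
  0, -1, 81, 87, 41, true⟩, ⟨1, 0, 1, 1, 65, 63, true⟩, ⟨1, 1, 3, 25, 27, 165, true⟩, ⟨0, 1, 0, 16,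
  76, 52, true⟩, ⟨0, 1, 0, 16, 76, 52, true⟩, ⟨0, 1, 0, 16, 76, 52, true⟩, ⟨0, 1, 4, 1, 65, 63,
  true⟩], L false 1 0 1), ([⟨0, 0, 1, 25, 53, 75, true⟩, ⟨0, 0, 1, 25, 53, 75, true⟩, ⟨1, 0, 0, 16,
  76, 52, true⟩, ⟨1, 0, 0, 16, 76, 52, true⟩, ⟨1, 0, 0, 16, 76, 52, true⟩, ⟨1, 1, 3, 25, 27, 165,
  true⟩, ⟨0, 1, 0, 16, 76, 52, true⟩, ⟨0, 1, 0, 16, 76, 52, true⟩, ⟨0, 1, 0, 16, 76, 52, true⟩, ⟨0,
  1, 4, 1, 65, 63, true⟩], S 5 (L false 1 0 0) (S 2 (L false 1 0 0) (S 3 (L false 1 0 0) (S 4 (L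
  false 1 0 0) (L true (-1) 0 0)))))]

theorem c15_6_ok : c15_6.all (fun p => chk true p.2 p.1) = true := by decide +kernel

def cf15 : List (List V) :=
  c15_0.map Prod.fst ++ c15_1.map Prod.fst ++ c15_2.map Prod.fst ++ c15_3.map Prod.fst ++ c15_4.map Prod.fst ++ c15_5.map Prod.fst ++ c15_6.map Prod.fst

theorem cf15_ok : ∀ st ∈ cf15, ∃ c, chk true c st = true := by
  simp only [cf15, List.forall_mem_append]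
  exact ⟨⟨⟨⟨⟨⟨all_chk c15_0_ok, all_chk c15_1_ok⟩, all_chk c15_2_ok⟩, all_chk c15_3_ok⟩, all_chk c15_4_ok⟩, all_chk c15_5_ok⟩, all_chk c15_6_ok⟩

open Tg in
def g15 : Tg :=
  B (B (P 4) (B (P 4) (B (P 0) (P 2)))) (B (B (B (P 4) (P 5)) (B (P 0) (B (B (P 4) (B (P 4) (B (P
  0) (P 2)))) (B (B (B (P 4) (P 2)) (B (B (P 4) (P 5)) (P 6))) (B (P 6) (P 6)))))) (B (P 2) (B (P
  2) (B (P 2) (B (P 2) (B (B (B (B (B (P 3) (P 0)) (B (B (B (B (P 3) (P 0)) (P 0)) (P 0)) (P 2)))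
  (B (B (B (B (P 3) (P 0)) (B (B (B (B (B (P 3) (P 0)) (P 0)) (P 0)) (P 0)) (P 0))) (B (B (B (P 0)
  (P 0)) (P 0)) (P 2))) (P 6))) (B (B (B (P 0) (P 0)) (P 6)) (B (B (B (B (B (B (P 3) (P 0)) (P 0))
  (P 2)) (P 5)) (B (B (B (B (B (B (P 3) (P 0)) (P 0)) (P 0)) (B (B (P 0) (P 0)) (P 2))) (P 5)) (P
  6))) (B (B (B (B (B (B (P 3) (P 0)) (P 0)) (B (B (B (P 0) (P 0)) (P 0)) (P 2))) (P 5)) (P 6)) (P
  6))))) (B (B (B (P 0) (P 6)) (B (B (P 2) (P 6)) (P 6))) (B (B (P 1) (B (B (P 5) (B (P 5) (P 6)))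
  (B (P 6) (P 6)))) (B (B (P 4) (B (P 4) (B (B (B (P 9) (B (P 9) (B (B (B (P 3) (P 0)) (P 1)) (P
  1)))) (B (B (P 0) (P 1)) (B (B (B (B (B (P 3) (P 0)) (P 0)) (P 1)) (P 1)) (P 1)))) (B (B (B (B (B
  (P 3) (P 0)) (B (B (P 3) (P 0)) (B (B (B (P 3) (P 0)) (P 0)) (P 1)))) (B (B (B (B (C 0) (P 0)) (P
  0)) (P 1)) (B (B (B (B (B (P 3) (P 0)) (P 0)) (P 0)) (P 1)) (P 1)))) (B (B (B (B (P 3) (B (B (B
  (B (P 3) (P 0)) (P 0)) (P 0)) (P 0))) (B (B (C 1) (B (B (B (B (C 2) (P 0)) (P 0)) (P 0)) (P 0)))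
  (B (B (B (P 3) (P 0)) (B (B (B (B (B (P 3) (P 0)) (P 0)) (P 0)) (P 0)) (P 0))) (P 1)))) (B (B (P
  0) (B (B (B (B (P 0) (P 0)) (P 0)) (P 0)) (P 1))) (B (B (B (B (B (C 3) (P 0)) (P 0)) (B (B (B (B
  (B (B (C 4) (P 0)) (P 0)) (P 0)) (P 0)) (P 0)) (P 0))) (P 1)) (P 1)))) (B (B (P 0) (B (B (B (B (P
  0) (P 0)) (P 0)) (P 1)) (P 1))) (B (B (B (B (B (P 0) (P 0)) (B (B (B (B (B (P 0) (P 0)) (P 0)) (P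
  0)) (P 0)) (P 0))) (P 1)) (P 1)) (P 1))))) (B (B (B (B (P 0) (P 0)) (P 0)) (B (B (B (B (B (P 0)
  (P 0)) (P 0)) (B (B (P 0) (P 0)) (P 1))) (B (B (B (P 0) (P 0)) (P 1)) (P 1))) (B (B (B (P 0) (P
  1)) (P 1)) (P 1)))) (B (B (B (P 0) (P 1)) (B (B (P 1) (B (P 1) (B (P 1) (P 1)))) (B (B (P 0) (B
  (P 1) (P 1))) (B (B (P 1) (P 1)) (P 1))))) (B (P 2) (B (B (B (P 1) (B (P 1) (B (P 1) (P 1)))) (B
  (B (P 1) (B (P 1) (P 1))) (B (B (P 1) (P 1)) (P 1)))) (B (B (B (P 0) (P 1)) (B (B (P 1) (P 1)) (P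
  1))) (B (B (B (P 1) (P 1)) (P 1)) (P 1))))))))))) (B (B (B (P 5) (B (P 5) (B (P 5) (P 5)))) (B (B
  (B (B (B (P 3) (B (C 5) (B (B (P 3) (P 0)) (P 1)))) (B (P 0) (B (B (B (B (C 6) (P 0)) (P 0)) (P
  1)) (P 1)))) (B (P 0) (B (B (B (B (P 0) (P 0)) (P 1)) (P 1)) (P 1)))) (B (B (B (P 0) (P 1)) (P
  1)) (B (B (B (P 1) (B (P 1) (B (P 1) (P 1)))) (B (P 2) (B (B (P 1) (P 1)) (P 1)))) (B (P 2) (B (B
  (B (P 1) (P 1)) (P 1)) (P 1)))))) (B (B (P 5) (B (P 5) (B (P 5) (P 5)))) (B (B (P 4) (B (P 4) (B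
  (B (B (P 9) (B (P 9) (B (B (B (P 3) (P 0)) (P 1)) (P 1)))) (B (B (P 0) (P 1)) (B (B (B (B (B (P
  3) (P 0)) (P 0)) (P 1)) (P 1)) (P 1)))) (B (B (B (B (B (P 3) (P 0)) (B (B (P 3) (P 0)) (B (B (B
  (P 3) (P 0)) (P 0)) (P 1)))) (B (B (B (B (C 7) (P 0)) (P 0)) (P 1)) (B (B (B (B (B (P 3) (P 0))
  (P 0)) (P 0)) (P 1)) (P 1)))) (B (B (B (B (P 3) (B (B (B (B (P 3) (P 0)) (P 0)) (P 0)) (P 0))) (B
  (B (C 8) (B (B (B (B (C 9) (P 0)) (P 0)) (P 0)) (P 0))) (B (B (B (P 3) (P 0)) (B (B (B (B (B (P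
  3) (P 0)) (P 0)) (P 0)) (P 0)) (P 0))) (P 1)))) (B (B (P 0) (B (B (B (B (P 0) (P 0)) (P 0)) (P
  0)) (P 1))) (B (B (B (B (B (C 10) (P 0)) (P 0)) (B (B (B (B (B (B (C 11) (P 0)) (P 0)) (P 0)) (P
  0)) (P 0)) (P 0))) (P 1)) (P 1)))) (B (B (P 0) (B (B (B (B (P 0) (P 0)) (P 0)) (P 1)) (P 1))) (B
  (B (B (B (B (P 0) (P 0)) (B (B (B (B (B (P 0) (P 0)) (P 0)) (P 0)) (P 0)) (P 0))) (P 1)) (P 1))
  (P 1))))) (B (B (B (B (P 0) (P 0)) (P 0)) (B (B (B (B (B (P 0) (P 0)) (P 0)) (B (B (P 0) (P 0))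
  (P 1))) (B (B (B (P 0) (P 0)) (P 1)) (P 1))) (B (B (B (P 0) (P 1)) (P 1)) (P 1)))) (B (B (B (P 0)
  (P 1)) (B (B (P 1) (B (P 1) (B (P 1) (P 1)))) (B (B (P 0) (B (P 1) (P 1))) (B (B (P 1) (P 1)) (P
  1))))) (B (P 2) (B (B (B (P 1) (B (P 1) (B (P 1) (P 1)))) (B (B (P 1) (B (P 1) (P 1))) (B (B (P
  1) (P 1)) (P 1)))) (B (B (B (P 0) (P 1)) (B (B (P 1) (P 1)) (P 1))) (B (B (B (P 1) (P 1)) (P 1))
  (P 1))))))))))) (B (B (B (B (P 9) (B (P 0) (P 1))) (B (B (B (P 1) (B (P 0) (P 1))) (B (P 0) (P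
  1))) (P 5))) (B (B (B (B (P 3) (B (C 12) (B (B (P 3) (P 0)) (P 1)))) (B (B (B (B (B (P 3) (P 0))
  (P 0)) (P 0)) (B (B (P 0) (P 0)) (B (B (C 13) (B (B (B (B (C 14) (P 0)) (P 0)) (P 0)) (P 0))) (P
  1)))) (B (B (P 0) (P 1)) (B (B (B (B (B (P 0) (P 0)) (P 0)) (P 0)) (P 1)) (P 1))))) (B (B (B (P
  1) (B (P 1) (P 1))) (B (B (P 1) (B (P 1) (P 1))) (B (B (P 1) (P 1)) (P 1)))) (B (B (B (P 0) (B (P
  1) (P 1))) (B (B (P 1) (B (P 0) (B (P 1) (P 1)))) (B (P 0) (B (B (P 1) (P 1)) (P 1))))) (P 5))))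
  (P 6))) (B (B (B (B (B (B (P 3) (P 0)) (B (B (P 3) (P 0)) (B (B (B (P 3) (P 0)) (P 0)) (P 1))))
  (B (B (B (B (C 15) (P 0)) (P 0)) (P 1)) (B (B (B (B (B (P 3) (P 0)) (P 0)) (P 0)) (P 1)) (P 1))))
  (B (B (B (P 0) (P 0)) (B (B (B (B (P 0) (P 0)) (P 0)) (B (B (P 0) (P 0)) (P 1))) (B (B (B (P 0)
  (P 0)) (P 1)) (P 1)))) (B (B (B (P 1) (B (P 0) (P 1))) (B (P 0) (P 1))) (B (B (B (P 1) (B (P 0)
  (B (P 1) (P 1)))) (B (B (P 1) (B (P 1) (B (P 1) (P 1)))) (B (B (P 1) (P 1)) (B (B (P 1) (P 1)) (P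
  1))))) (B (B (B (P 1) (B (P 0) (P 1))) (B (P 0) (P 1))) (P 5)))))) (P 6)) (P 6))))))) (B (B (B (P
  0) (B (B (B (B (P 3) (P 0)) (P 1)) (P 1)) (B (P 0) (P 5)))) (B (B (P 0) (B (P 0) (B (B (P 8) (B
  (P 0) (B (B (B (B (P 3) (P 0)) (P 2)) (B (P 0) (B (B (B (B (C 16) (P 0)) (P 0)) (P 2)) (P 1))))
  (B (P 0) (B (B (B (B (P 0) (P 0)) (P 2)) (P 1)) (P 1)))))) (P 5)))) (B (B (P 0) (P 5)) (B (B (B
  (B (B (B (P 3) (B (C 17) (B (B (P 3) (P 0)) (P 1)))) (B (P 0) (B (B (B (B (C 18) (P 0)) (P 0)) (P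
  1)) (P 1)))) (B (P 0) (B (B (B (B (P 0) (P 0)) (P 1)) (P 1)) (P 1)))) (B (B (B (P 0) (P 1)) (P
  1)) (B (B (B (P 1) (B (P 1) (B (P 1) (P 1)))) (B (P 2) (B (B (P 1) (P 1)) (P 1)))) (B (P 2) (B (B
  (B (P 1) (P 1)) (P 1)) (P 1)))))) (B (B (B (B (B (C 19) (P 1)) (P 1)) (P 1)) (B (P 0) (B (B (B (P
  1) (B (P 1) (P 1))) (B (B (P 1) (P 1)) (P 1))) (B (B (B (P 1) (P 1)) (P 1)) (P 1))))) (P 5))) (B
  (P 5) (P 5)))))) (B (P 6) (B (B (B (P 0) (B (B (B (B (P 0) (P 0)) (B (P 0) (P 1))) (B (P 0) (P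
  1))) (B (P 0) (P 1)))) (B (B (P 2) (B (P 1) (P 1))) (B (B (B (P 1) (B (P 1) (P 1))) (B (B (P 1)
  (P 1)) (P 1))) (B (B (B (P 0) (P 1)) (P 1)) (P 1))))) (B (B (B (B (P 0) (B (B (B (B (P 0) (P 0))
  (B (P 0) (P 1))) (B (P 0) (P 1))) (B (P 0) (P 1)))) (B (B (P 2) (B (P 1) (P 1))) (B (B (B (P 1)
  (B (P 1) (P 1))) (B (B (P 1) (P 1)) (P 1))) (B (B (B (P 0) (P 1)) (P 1)) (P 1))))) (B (B (B (B (B
  (P 1) (B (P 0) (P 1))) (B (P 0) (P 1))) (P 5)) (P 6)) (P 6))) (B (B (B (B (P 4) (B (P 4) (P 2)))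
  (B (P 0) (B (B (B (P 3) (B (P 3) (B (P 4) (P 1)))) (B (B (P 3) (B (P 4) (B (P 4) (P 1)))) (B (B
  (B (P 3) (P 0)) (P 1)) (B (P 0) (B (B (B (B (B (P 3) (P 0)) (P 0)) (B (B (P 0) (P 0)) (P 2))) (B
  (B (B (B (P 3) (P 0)) (P 0)) (P 2)) (B (B (P 3) (B (B (B (B (P 3) (P 0)) (P 0)) (P 0)) (B (P 0)
  (P 2)))) (P 1)))) (B (B (B (P 0) (P 2)) (B (B (P 3) (B (B (B (B (C 20) (P 0)) (P 0)) (P 0)) (P
  2))) (P 1))) (B (B (B (B (P 3) (P 0)) (B (B (P 3) (B (B (B (B (P 3) (P 0)) (P 0)) (P 0)) (P 0)))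
  (B (P 0) (P 2)))) (P 1)) (P 1)))))))) (B (B (B (P 4) (B (P 0) (B (P 4) (P 1)))) (B (B (B (P 0) (P
  0)) (P 1)) (B (B (B (B (P 3) (P 0)) (B (B (B (P 0) (P 0)) (P 0)) (P 2))) (B (B (B (P 3) (P 0)) (P
  2)) (B (B (B (B (P 3) (P 0)) (P 0)) (B (B (P 0) (P 0)) (P 2))) (P 1)))) (B (B (P 0) (B (B (B (B
  (C 21) (P 0)) (P 0)) (P 2)) (P 1))) (B (B (B (B (B (B (P 3) (P 0)) (P 0)) (P 0)) (B (B (P 0) (P
  0)) (P 2))) (P 1)) (P 1)))))) (P 5))))) (B (B (B (P 4) (B (P 4) (B (P 0) (P 2)))) (B (B (B (P 3)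
  (B (P 3) (B (P 4) (P 1)))) (B (B (B (P 3) (P 0)) (P 1)) (B (B (B (B (B (P 3) (P 0)) (P 0)) (P 2))
  (B (B (P 0) (P 2)) (B (B (P 3) (B (B (B (B (C 22) (P 0)) (P 0)) (P 0)) (P 2))) (P 1)))) (B (B (P
  0) (P 1)) (B (B (B (B (B (P 0) (P 0)) (P 0)) (P 2)) (P 1)) (P 1)))))) (B (B (B (P 4) (B (P 4) (B
  (P 4) (P 1)))) (B (B (P 4) (B (P 4) (B (P 0) (B (P 4) (P 1))))) (B (B (B (P 0) (P 0)) (B (B (B (B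
  (P 3) (P 0)) (P 0)) (B (B (P 0) (P 0)) (P 2))) (B (B (B (B (C 23) (P 0)) (P 0)) (P 2)) (B (B (B
  (B (B (P 3) (P 0)) (P 0)) (P 0)) (B (B (P 0) (P 0)) (P 2))) (P 1))))) (B (P 2) (B (B (B (P 3) (B
  (B (B (P 3) (P 0)) (B (B (B (B (B (P 3) (P 0)) (P 0)) (P 0)) (P 0)) (P 0))) (B (B (B (B (P 0) (P
  0)) (P 0)) (P 0)) (P 2)))) (B (B (B (B (B (P 0) (P 0)) (P 0)) (P 0)) (B (P 0) (P 2))) (B (B (B (P
  3) (P 0)) (B (B (B (B (C 24) (P 0)) (P 0)) (B (B (B (B (B (B (C 25) (P 0)) (P 0)) (P 0)) (P 0))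
  (P 0)) (P 0))) (B (B (B (P 0) (P 0)) (P 0)) (P 2)))) (P 1)))) (B (B (P 2) (B (B (B (B (P 0) (P
  0)) (P 0)) (P 2)) (P 1))) (B (B (B (P 0) (B (B (B (P 0) (P 0)) (B (B (B (B (B (P 0) (P 0)) (P 0))
  (P 0)) (P 0)) (P 0))) (B (B (B (P 0) (P 0)) (P 0)) (P 2)))) (P 1)) (P 1)))))))) (B (B (B (P 3) (B
  (P 4) (B (P 4) (P 1)))) (B (B (P 0) (B (B (P 0) (P 2)) (B (B (P 3) (B (P 0) (P 2))) (P 1)))) (B
  (B (B (B (B (P 3) (P 0)) (P 0)) (B (B (B (P 0) (P 0)) (P 0)) (P 2))) (B (B (P 0) (P 0)) (B (B (B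
  (B (B (C 26) (P 0)) (P 0)) (P 0)) (B (B (P 0) (P 0)) (P 2))) (P 1)))) (B (P 1) (B (B (B (B (B (P
  0) (P 0)) (P 0)) (B (B (P 0) (P 0)) (P 2))) (P 1)) (P 1)))))) (P 5))))) (B (B (P 2) (B (B (B (B
  (P 0) (P 0)) (P 1)) (P 1)) (P 5))) (B (B (B (P 4) (B (B (P 9) (B (B (P 0) (P 1)) (P 1))) (B (B (B
  (B (C 27) (P 1)) (P 1)) (B (B (B (B (P 3) (P 0)) (B (B (B (C 28) (P 0)) (P 0)) (P 1))) (B (B (B
  (P 0) (P 0)) (P 1)) (P 1))) (B (B (B (P 0) (P 1)) (P 1)) (P 1)))) (B (B (B (P 0) (P 1)) (P 1)) (B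
  (B (B (P 1) (B (P 1) (P 1))) (B (B (P 1) (P 1)) (P 1))) (B (B (B (P 0) (P 1)) (P 1)) (P 1)))))))
  (B (B (B (B (B (P 3) (B (C 29) (B (B (P 3) (P 0)) (P 1)))) (B (P 0) (B (B (B (B (C 30) (P 0)) (P
  0)) (P 1)) (P 1)))) (B (P 0) (B (B (B (B (P 0) (P 0)) (P 1)) (P 1)) (P 1)))) (B (B (B (P 0) (P
  1)) (P 1)) (B (B (B (P 1) (B (P 1) (B (P 1) (P 1)))) (B (P 2) (B (B (P 1) (P 1)) (P 1)))) (B (P
  2) (B (B (B (P 1) (P 1)) (P 1)) (P 1)))))) (P 5))) (B (B (B (P 4) (B (P 4) (B (B (B (P 9) (B (P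
  9) (B (B (B (P 3) (P 0)) (P 1)) (P 1)))) (B (B (P 0) (P 1)) (B (B (B (B (B (P 3) (P 0)) (P 0)) (P
  1)) (P 1)) (P 1)))) (B (B (B (B (B (P 3) (P 0)) (B (B (P 3) (P 0)) (B (B (B (P 3) (P 0)) (P 0))
  (P 1)))) (B (B (B (B (C 31) (P 0)) (P 0)) (P 1)) (B (B (B (B (B (P 3) (P 0)) (P 0)) (P 0)) (P 1))
  (P 1)))) (B (B (B (B (P 3) (B (B (B (B (P 3) (P 0)) (P 0)) (P 0)) (P 0))) (B (B (C 32) (B (B (B
  (B (C 33) (P 0)) (P 0)) (P 0)) (P 0))) (B (B (B (P 3) (P 0)) (B (B (B (B (B (P 3) (P 0)) (P 0))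
  (P 0)) (P 0)) (P 0))) (P 1)))) (B (B (P 0) (B (B (B (B (P 0) (P 0)) (P 0)) (P 0)) (P 1))) (B (B
  (B (B (B (C 34) (P 0)) (P 0)) (B (B (B (B (B (B (C 35) (P 0)) (P 0)) (P 0)) (P 0)) (P 0)) (P 0)))
  (P 1)) (P 1)))) (B (B (P 0) (B (B (B (B (P 0) (P 0)) (P 0)) (P 1)) (P 1))) (B (B (B (B (B (P 0)
  (P 0)) (B (B (B (B (B (P 0) (P 0)) (P 0)) (P 0)) (P 0)) (P 0))) (P 1)) (P 1)) (P 1))))) (B (B (B
  (B (P 0) (P 0)) (P 0)) (B (B (B (B (B (P 0) (P 0)) (P 0)) (B (B (P 0) (P 0)) (P 1))) (B (B (B (P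
  0) (P 0)) (P 1)) (P 1))) (B (B (B (P 0) (P 1)) (P 1)) (P 1)))) (B (B (B (P 0) (P 1)) (B (B (P 1)
  (B (P 1) (B (P 1) (P 1)))) (B (B (P 0) (B (P 1) (P 1))) (B (B (P 1) (P 1)) (P 1))))) (B (P 2) (B
  (B (B (P 1) (B (P 1) (B (P 1) (P 1)))) (B (B (P 1) (B (P 1) (P 1))) (B (B (P 1) (P 1)) (P 1))))
  (B (B (B (P 0) (P 1)) (B (B (P 1) (P 1)) (P 1))) (B (B (B (P 1) (P 1)) (P 1)) (P 1))))))))))) (B
  (B (P 4) (B (B (B (B (P 3) (P 1)) (P 1)) (B (B (B (B (P 3) (P 0)) (B (B (P 3) (P 0)) (B (B (B (P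
  3) (P 0)) (P 0)) (P 1)))) (B (B (B (B (C 36) (P 0)) (P 0)) (P 1)) (B (B (B (B (B (P 3) (P 0)) (P
  0)) (P 0)) (P 1)) (P 1)))) (B (B (B (B (P 0) (P 0)) (P 1)) (P 1)) (B (B (B (B (C 37) (B (B (B (B
  (C 38) (P 0)) (P 0)) (P 0)) (P 0))) (P 1)) (P 1)) (P 1))))) (B (B (B (B (B (P 0) (P 0)) (B (P 0)
  (P 1))) (B (P 0) (P 1))) (B (B (B (B (B (P 0) (P 0)) (P 0)) (B (B (B (P 0) (P 0)) (P 0)) (P 1)))
  (B (B (B (P 0) (P 0)) (P 1)) (P 1))) (B (B (B (B (P 0) (P 0)) (P 1)) (P 1)) (P 1)))) (B (B (P 0)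
  (B (B (P 1) (B (P 1) (B (P 1) (P 1)))) (B (B (P 1) (P 1)) (B (B (P 1) (P 1)) (P 1))))) (B (B (B
  (P 1) (B (P 1) (B (P 1) (P 1)))) (B (B (P 0) (B (P 1) (P 1))) (B (B (P 1) (P 1)) (P 1)))) (B (B
  (P 0) (B (B (P 1) (P 1)) (P 1))) (B (B (B (P 1) (P 1)) (P 1)) (P 1)))))))) (P 5))) (B (B (B (B (P
  0) (B (B (B (B (P 0) (P 0)) (B (P 0) (P 1))) (B (P 0) (P 1))) (B (P 0) (P 1)))) (B (B (P 2) (B (P
  1) (P 1))) (B (B (B (P 1) (B (P 1) (P 1))) (B (B (P 1) (P 1)) (P 1))) (B (B (B (P 0) (P 1)) (P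
  1)) (P 1))))) (P 5)) (P 5))))))) (B (P 6) (B (B (B (B (B (B (B (B (C 39) (P 1)) (P 0)) (P 0)) (B
  (B (B (P 0) (P 1)) (B (P 0) (P 1))) (B (P 0) (P 1)))) (P 5)) (B (B (B (B (B (B (P 3) (B (C 40) (B
  (B (P 3) (P 0)) (P 1)))) (B (P 0) (B (B (B (B (C 41) (P 0)) (P 0)) (P 1)) (P 1)))) (B (P 0) (B (B
  (B (B (P 0) (P 0)) (P 1)) (P 1)) (P 1)))) (B (B (B (P 0) (P 1)) (P 1)) (B (B (B (P 1) (B (P 1) (B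
  (P 1) (P 1)))) (B (P 2) (B (B (P 1) (P 1)) (P 1)))) (B (P 2) (B (B (B (P 1) (P 1)) (P 1)) (P
  1)))))) (P 5)) (P 6))) (B (B (B (B (P 4) (B (B (B (B (P 3) (P 1)) (B (B (C 42) (P 1)) (B (B (B (P
  3) (P 0)) (P 1)) (P 1)))) (B (P 0) (B (B (B (B (B (C 43) (P 0)) (P 0)) (P 1)) (P 1)) (P 1)))) (B
  (B (B (B (P 0) (P 0)) (P 0)) (P 0)) (B (B (B (P 0) (B (P 0) (B (P 1) (P 1)))) (B (P 0) (B (B (P
  1) (P 1)) (P 1)))) (B (B (B (P 1) (B (P 1) (B (P 1) (P 1)))) (B (B (P 1) (P 1)) (B (B (P 1) (P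
  1)) (P 1)))) (B (B (P 2) (P 1)) (B (B (B (P 1) (P 1)) (P 1)) (P 1)))))))) (P 5)) (P 6)) (P 6)))
  (B (B (B (B (B (B (P 0) (B (B (B (B (P 0) (P 0)) (B (P 0) (P 1))) (B (P 0) (P 1))) (B (P 0) (P
  1)))) (B (B (P 2) (B (P 1) (P 1))) (B (B (B (P 1) (B (P 1) (P 1))) (B (B (P 1) (P 1)) (P 1))) (B
  (B (B (P 0) (P 1)) (P 1)) (P 1))))) (P 5)) (P 6)) (P 6)) (P 6)))))))))))))))))))

theorem g15_ok : go 10 cf15 g15 ty15 [15, 4, 5, 319, 64, 16, 8, 7, 13, 12] [] = true := by decide +kernel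

end Cfsg.Agent.LY.Ck
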