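import Cfsg.Agent.LY.Chk

/-! Lyons' theorem: certificates. -/

set_option autoImplicit false
set_option maxRecDepth 100000

namespace Cfsg.Agent.LY.Ck

def ty3 : List (List ℕ × V) :=
  [([1, 1, 1, 9, 49], ⟨0, 0, 1, 49, 73, 55, true⟩), ([1, 7, 15, 9, 49], ⟨0, 0, 1, 49, 23, 41,
  true⟩), ([1, 3, 15, 1, 49], ⟨0, 0, 1, 49, 71, 57, true⟩), ([1, 5, 1, 1, 49], ⟨0, 0, 1, 49, 25,
  39, true⟩), ([1, 2, 2, 4, 36], ⟨0, 0, 1, 36, 58, 70, true⟩), ([1, 2, 14, 4, 36], ⟨0, 0, 1, 36,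
  22, 42, true⟩), ([1, 6, 2, 4, 36], ⟨0, 0, 1, 36, 74, 54, true⟩), ([1, 6, 14, 4, 36], ⟨0, 0, 1,
  36, 38, 26, true⟩), ([1, 1, 13, 9, 25], ⟨0, 0, 1, 25, 37, 27, true⟩), ([1, 7, 3, 9, 25], ⟨0, 0,
  1, 25, 59, 69, true⟩), ([1, 3, 3, 1, 25], ⟨0, 0, 1, 25, 43, 21, true⟩), ([1, 5, 13, 1, 25], ⟨0,
  0, 1, 25, 53, 75, true⟩), ([1, 1, 5, 9, 9], ⟨0, 0, 1, 9, 61, 67, true⟩), ([1, 7, 11, 9, 9], ⟨0,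
  0, 1, 9, 35, 29, true⟩), ([1, 4, 4, 0, 16], ⟨0, 0, 1, 16, 28, 36, true⟩), ([1, 4, 12, 0, 16], ⟨0,
  0, 1, 16, 68, 60, true⟩), ([1, 1, 9, 9, 1], ⟨0, 0, 1, 1, 49, 15, true⟩), ([1, 3, 11, 1, 9], ⟨0,
  0, 1, 9, 19, 45, true⟩), ([1, 5, 5, 1, 9], ⟨0, 0, 1, 9, 13, 51, true⟩), ([1, 7, 7, 9, 1], ⟨0, 0,
  1, 1, 47, 17, true⟩), ([1, 2, 6, 4, 4], ⟨0, 0, 1, 4, 46, 18, true⟩), ([1, 2, 10, 4, 4], ⟨0, 0, 1,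
  4, 34, 30, true⟩), ([1, 6, 6, 4, 4], ⟨0, 0, 1, 4, 62, 66, true⟩), ([1, 6, 10, 4, 4], ⟨0, 0, 1, 4,
  50, 14, true⟩), ([1, 3, 7, 1, 1], ⟨0, 0, 1, 1, 31, 33, true⟩), ([1, 5, 9, 1, 1], ⟨0, 0, 1, 1, 65,
  63, true⟩), ([1, 4, 8, 0, 0], ⟨0, 0, 1, 0, 16, 48, true⟩)]

open Tr in
def c3_0 : List (List V × Tr) :=
  [([⟨0, 0, 1, 0, 16, 48, true⟩, ⟨0, 0, 1, 25, 53, 75, true⟩, ⟨0, 0, 1, 36, 58, 70, true⟩], L false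
  0 0 1), ([⟨0, 0, 1, 1, 65, 63, true⟩, ⟨0, 0, 1, 16, 68, 60, true⟩, ⟨0, 0, 1, 36, 58, 70, true⟩],
  L false 0 0 1), ([⟨0, 0, 1, 4, 50, 14, true⟩, ⟨0, 0, 1, 9, 19, 45, true⟩, ⟨0, 0, 1, 36, 58, 70,
  true⟩], S 2 (L false 0 0 1) (S 1 (L false 0 0 1) (S 0 (L false 0 0 1) (L true 0 0 (-1))))), ([⟨0,
  0, 1, 9, 13, 51, true⟩, ⟨0, 0, 1, 16, 28, 36, true⟩, ⟨0, 0, 1, 36, 22, 42, true⟩], S 2 (L false 0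
  0 1) (S 0 (S 1 (L false 0 0 1) (R 2 0 (R 1 1 (R 0 0 (L false 0 0 1) (R 1 0 (L false 0 0 (-1)) (R
  0 1 (L false 0 0 1) (L true 0 0 1)))) (L false 0 0 1)) (L false 0 0 1))) (S 1 (R 2 0 (R 0 0 (R 1
  1 (L false 0 0 1) (L true 0 0 1)) (L false 0 0 1)) (L false 0 0 1)) (L true 0 0 (-1))))), ([⟨0,
  0, 1, 0, 16, 48, true⟩, ⟨0, 0, 1, 25, 37, 27, true⟩, ⟨0, 0, 1, 36, 74, 54, true⟩], S 1 (L false 0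
  0 1) (S 2 (L false 0 0 1) (S 0 (R 1 0 (R 2 6 (L false 0 0 (-1)) (L false 0 0 1)) (L false 0 0 1))
  (L true 0 0 (-1))))), ([⟨0, 0, 1, 1, 49, 15, true⟩, ⟨0, 0, 1, 16, 68, 60, true⟩, ⟨0, 0, 1, 36,
  74, 54, true⟩], S 2 (L false 0 0 1) (S 1 (L false 0 0 1) (S 0 (L false 0 0 1) (L true 0 0
  (-1))))), ([⟨0, 0, 1, 4, 34, 30, true⟩, ⟨0, 0, 1, 9, 19, 45, true⟩, ⟨0, 0, 1, 36, 74, 54, true⟩],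
  S 2 (L false 0 0 1) (S 1 (L false 0 0 1) (S 0 (L false 0 0 1) (L true 0 0 (-1))))), ([⟨0, 0, 1,
  16, 28, 36, true⟩, ⟨0, 0, 1, 9, 61, 67, true⟩, ⟨0, 0, 1, 36, 38, 26, true⟩], S 2 (L false 0 0 1)
  (S 0 (S 1 (R 2 0 (L true 0 0 1) (L false 0 0 1)) (R 2 0 (R 0 0 (L false 0 0 1) (L false 0 0
  (-1))) (L false 0 0 1))) (S 1 (R 2 0 (L false 0 0 (-1)) (L false 0 0 1)) (L true 0 0 (-1))))),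
  ([⟨0, 0, 1, 4, 62, 66, true⟩, ⟨0, 0, 1, 16, 28, 36, true⟩, ⟨0, 0, 1, 25, 37, 27, true⟩], S 2 (L
  false 0 0 1) (S 1 (L false 0 0 1) (S 0 (R 2 0 (R 1 2 (R 1 1 (L false 0 0 (-1)) (R 0 1 (L false 0
  0 1) (L false 0 0 (-1)))) (L false 0 0 1)) (L false 0 0 1)) (L true 0 0 (-1))))), ([⟨0, 0, 1, 9,
  13, 51, true⟩, ⟨0, 0, 1, 9, 13, 51, true⟩, ⟨0, 0, 1, 25, 37, 27, true⟩], S 2 (L false 0 0 1) (S 0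
  (S 1 (L false 0 0 1) (R 2 0 (R 0 1 (L false 0 0 1) (R 1 1 (R 0 0 (R 1 0 (L false 0 0 (-1)) (L
  false 0 0 1)) (L true 0 0 1)) (L false 0 0 1))) (L false 0 0 1))) (S 1 (R 2 0 (R 1 1 (L false 0 0
  1) (R 0 1 (R 1 0 (R 0 0 (L false 0 0 (-1)) (L false 0 0 1)) (L true 0 0 1)) (L false 0 0 1))) (L
  false 0 0 1)) (L true 0 0 (-1))))), ([⟨0, 0, 1, 1, 31, 33, true⟩, ⟨0, 0, 1, 25, 53, 75, true⟩,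
  ⟨0, 0, 1, 25, 43, 21, true⟩], S 2 (L false 0 0 1) (S 1 (S 0 (R 2 0 (L true 0 0 1) (L false 0 0
  1)) (R 2 0 (R 1 1 (R 1 0 (L false 0 0 1) (R 0 0 (L false 0 0 (-1)) (L false 0 0 1))) (L false 0 0
  (-1))) (L false 0 0 1))) (S 0 (R 2 0 (L false 0 0 (-1)) (L false 0 0 1)) (L true 0 0 (-1))))),
  ([⟨0, 0, 1, 0, 16, 48, true⟩, ⟨0, 0, 1, 16, 68, 60, true⟩, ⟨0, 0, 1, 25, 43, 21, true⟩], S 2 (L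
  false 0 0 1) (S 1 (S 0 (R 2 0 (L true 0 0 1) (L false 0 0 1)) (R 2 0 (R 1 0 (L false 0 0 1) (L
  false 0 0 (-1))) (L false 0 0 1))) (S 0 (R 2 0 (L false 0 0 (-1)) (L false 0 0 1)) (L true 0 0
  (-1))))), ([⟨0, 0, 1, 1, 65, 63, true⟩, ⟨0, 0, 1, 9, 19, 45, true⟩, ⟨0, 0, 1, 25, 43, 21, true⟩],
  S 2 (L false 0 0 1) (S 1 (S 0 (R 2 0 (L true 0 0 1) (L false 0 0 1)) (R 2 0 (R 1 0 (L false 0 0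
  1) (L false 0 0 (-1))) (L false 0 0 1))) (S 0 (R 2 0 (L false 0 0 (-1)) (L false 0 0 1)) (L true
  0 0 (-1))))), ([⟨0, 0, 1, 4, 50, 14, true⟩, ⟨0, 0, 1, 4, 34, 30, true⟩, ⟨0, 0, 1, 25, 43, 21,
  true⟩], S 2 (L false 0 0 1) (S 0 (S 1 (R 2 0 (L true 0 0 1) (L false 0 0 1)) (R 2 0 (L false 0 0
  (-1)) (L false 0 0 1))) (S 1 (R 2 0 (L false 0 0 (-1)) (L false 0 0 1)) (L true 0 0 (-1))))),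
  ([⟨0, 0, 1, 9, 13, 51, true⟩, ⟨0, 0, 1, 9, 61, 67, true⟩, ⟨0, 0, 1, 25, 53, 75, true⟩], L false 0
  0 1), ([⟨0, 0, 1, 4, 46, 18, true⟩, ⟨0, 0, 1, 16, 28, 36, true⟩, ⟨0, 0, 1, 25, 53, 75, true⟩], S
  1 (L false 0 0 1) (S 2 (L false 0 0 1) (S 0 (L false 0 0 1) (L true 0 0 (-1))))), ([⟨0, 0, 1, 4,
  62, 66, true⟩, ⟨0, 0, 1, 16, 68, 60, true⟩, ⟨0, 0, 1, 9, 61, 67, true⟩], L false 0 0 1), ([⟨0, 0,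
  1, 0, 16, 48, true⟩, ⟨0, 0, 1, 4, 50, 14, true⟩, ⟨0, 0, 1, 9, 61, 67, true⟩], L false 0 0 1),
  ([⟨0, 0, 1, 1, 65, 63, true⟩, ⟨0, 0, 1, 1, 65, 63, true⟩, ⟨0, 0, 1, 9, 61, 67, true⟩], L false 0
  0 1), ([⟨0, 0, 1, 1, 31, 33, true⟩, ⟨0, 0, 1, 16, 68, 60, true⟩, ⟨0, 0, 1, 16, 28, 36, true⟩], L
  false 0 0 1), ([⟨0, 0, 1, 4, 50, 14, true⟩, ⟨0, 0, 1, 1, 49, 15, true⟩, ⟨0, 0, 1, 16, 28, 36,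
  true⟩], L false 0 0 1), ([⟨0, 0, 1, 0, 16, 48, true⟩, ⟨0, 0, 1, 9, 19, 45, true⟩, ⟨0, 0, 1, 16,
  28, 36, true⟩], L false 0 0 1), ([⟨0, 0, 1, 1, 65, 63, true⟩, ⟨0, 0, 1, 4, 34, 30, true⟩, ⟨0, 0,
  1, 16, 28, 36, true⟩], L false 0 0 1), ([⟨0, 0, 1, 4, 46, 18, true⟩, ⟨0, 0, 1, 9, 13, 51, true⟩,
  ⟨0, 0, 1, 16, 68, 60, true⟩], L false 0 0 1), ([⟨0, 0, 1, 1, 65, 63, true⟩, ⟨0, 0, 1, 9, 13, 51,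
  true⟩, ⟨0, 0, 1, 1, 49, 15, true⟩], L false 0 0 1), ([⟨0, 0, 1, 0, 16, 48, true⟩, ⟨0, 0, 1, 4,
  62, 66, true⟩, ⟨0, 0, 1, 1, 49, 15, true⟩], L false 0 0 1), ([⟨0, 0, 1, 1, 31, 33, true⟩, ⟨0, 0,
  1, 9, 13, 51, true⟩, ⟨0, 0, 1, 9, 19, 45, true⟩], L false 0 0 1), ([⟨0, 0, 1, 4, 62, 66, true⟩,
  ⟨0, 0, 1, 4, 46, 18, true⟩, ⟨0, 0, 1, 9, 19, 45, true⟩], L false 0 0 1), ([⟨0, 0, 1, 0, 16, 48,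
  true⟩, ⟨0, 0, 1, 4, 34, 30, true⟩, ⟨0, 0, 1, 9, 13, 51, true⟩], L false 0 0 1), ([⟨0, 0, 1, 1,
  31, 33, true⟩, ⟨0, 0, 1, 4, 50, 14, true⟩, ⟨0, 0, 1, 4, 46, 18, true⟩], L false 0 0 1), ([⟨0, 0,
  1, 0, 16, 48, true⟩, ⟨0, 0, 1, 1, 65, 63, true⟩, ⟨0, 0, 1, 4, 46, 18, true⟩], L false 0 0 1),
  ([⟨0, 0, 1, 1, 31, 33, true⟩, ⟨0, 0, 1, 4, 62, 66, true⟩, ⟨0, 0, 1, 4, 34, 30, true⟩], L false 0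
  0 1), ([⟨0, 0, 1, 1, 65, 63, true⟩, ⟨0, 0, 1, 1, 31, 33, true⟩, ⟨0, 0, 1, 1, 31, 33, true⟩], L
  false 0 0 1), ([⟨0, 0, 1, 0, 16, 48, true⟩, ⟨0, 0, 1, 0, 16, 48, true⟩, ⟨0, 0, 1, 1, 31, 33,
  true⟩], L false 0 0 1)]

theorem c3_0_ok : c3_0.all (fun p => chk false p.2 p.1) = true := by decide +kernel

def cf3 : List (List V) :=
  c3_0.map Prod.fst

theorem cf3_ok : ∀ st ∈ cf3, ∃ c, chk false c st = true := by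
  simp only [cf3, List.forall_mem_append]
  exact all_chk c3_0_ok

open Tg in
def g3 : Tg :=
  B (B (B (P 1) (B (P 1) (B (P 1) (B (P 1) (B (P 1) (B (P 1) (B (P 1) (P 0)))))))) (B (B (P 1) (B
  (P 1) (B (P 1) (B (P 2) (B (P 1) (P 0)))))) (B (B (P 1) (B (P 1) (B (P 1) (P 0)))) (B (B (P 1) (B
  (P 1) (B (P 1) (P 0)))) (B (B (P 1) (B (P 2) (P 0))) (B (B (P 1) (B (P 2) (P 0))) (B (B (P 1) (B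
  (P 1) (B (P 1) (P 0)))) (B (B (P 2) (B (P 1) (P 0))) (B (B (P 1) (P 0)) (P 0)))))))))) (B (B (P
  0) (B (P 0) (B (P 0) (P 0)))) (B (B (P 0) (B (P 0) (B (P 0) (B (P 0) (B (P 0) (B (P 0) (B (P 0)
  (P 0)))))))) (B (B (B (P 1) (B (P 1) (B (P 1) (B (P 2) (B (P 1) (P 0)))))) (B (B (P 1) (B (P 2)
  (B (P 1) (B (P 1) (B (P 1) (B (P 2) (B (P 1) (P 0)))))))) (B (B (P 1) (B (P 1) (B (P 2) (P 0))))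
  (B (P 0) (B (B (P 1) (B (P 1) (B (P 1) (B (P 2) (P 0))))) (B (B (P 1) (B (P 1) (B (P 2) (P 0))))
  (B (P 0) (B (P 0) (B (B (P 2) (P 0)) (B (P 0) (B (P 0) (P 0)))))))))))) (B (B (B (P 1) (B (P 1)
  (P 0))) (B (P 0) (B (B (P 1) (B (P 1) (B (P 1) (B (P 1) (P 0))))) (B (B (P 1) (B (C 0) (P 0))) (B
  (B (P 1) (B (P 1) (B (P 1) (B (P 1) (B (P 1) (B (P 1) (B (P 1) (P 0)))))))) (B (P 0) (B (B (P 1)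
  (B (P 1) (B (P 2) (B (P 1) (B (P 1) (B (P 1) (B (P 2) (B (P 1) (P 0))))))))) (B (B (P 1) (B (P 2)
  (B (P 1) (B (P 1) (B (C 1) (B (P 1) (P 0))))))) (B (B (P 1) (B (P 1) (B (P 1) (B (P 1) (B (P 1)
  (P 0)))))) (B (B (P 1) (B (P 1) (B (P 1) (B (P 2) (B (C 2) (B (P 1) (B (P 1) (B (P 1) (P
  0))))))))) (B (B (P 1) (B (P 1) (B (P 1) (B (P 2) (P 0))))) (B (P 0) (B (B (P 1) (B (P 1) (B (P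
  1) (B (P 1) (B (P 1) (B (P 1) (B (P 1) (P 0)))))))) (B (B (P 1) (B (P 1) (B (P 1) (B (P 1) (B (P
  1) (B (P 1) (P 0))))))) (B (B (P 2) (P 0)) (B (B (P 2) (P 0)) (B (B (P 1) (B (P 1) (B (P 1) (P
  0)))) (B (B (P 2) (P 0)) (B (B (P 1) (P 0)) (P 0)))))))))))))))))))) (B (B (P 0) (B (P 0) (B (B
  (P 1) (P 0)) (B (B (C 3) (P 0)) (B (P 0) (B (P 0) (B (P 0) (B (P 0) (B (P 0) (B (P 0) (B (P 0) (B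
  (P 0) (P 0))))))))))))) (B (B (B (P 1) (B (C 4) (P 0))) (B (B (P 1) (P 0)) (B (P 0) (B (B (P 2)
  (B (P 2) (B (P 1) (B (P 1) (B (P 2) (P 0)))))) (B (B (P 2) (P 0)) (B (B (C 5) (P 0)) (B (B (P 1)
  (B (P 1) (B (P 2) (P 0)))) (B (B (P 2) (B (C 6) (P 0))) (B (P 0) (B (B (P 1) (B (P 1) (B (P 2) (P
  0)))) (B (B (P 1) (B (P 2) (P 0))) (B (P 0) (B (P 0) (B (P 0) (P 0))))))))))))))) (B (B (P 0) (B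
  (B (C 7) (P 0)) (B (P 0) (B (P 0) (B (P 0) (B (P 0) (B (P 0) (B (P 0) (B (P 0) (P 0)))))))))) (B
  (B (B (P 1) (B (P 1) (B (P 1) (B (P 1) (P 0))))) (B (B (P 1) (B (P 1) (B (P 1) (B (C 8) (P 0)))))
  (B (B (C 9) (P 0)) (B (P 0) (B (P 0) (B (P 0) (B (P 0) (B (P 0) (B (P 0) (B (P 0) (P 0)))))))))))
  (B (B (P 0) (B (P 0) (B (P 0) (B (P 0) (B (P 0) (B (P 0) (B (P 0) (B (P 0) (P 0))))))))) (B (B (B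
  (P 1) (B (P 1) (B (P 1) (B (P 2) (B (P 1) (B (P 1) (B (P 1) (B (P 2) (B (P 1) (P 0)))))))))) (B
  (B (P 1) (B (P 1) (B (C 10) (P 0)))) (B (B (P 1) (B (P 1) (B (P 1) (B (P 1) (B (P 1) (B (P 1) (B
  (P 1) (B (P 1) (B (P 1) (B (P 1) (B (P 1) (P 0)))))))))))) (B (P 0) (B (B (P 2) (B (P 2) (B (P 1)
  (B (P 1) (B (P 1) (B (P 1) (B (P 1) (B (P 2) (P 0))))))))) (B (B (P 1) (B (P 1) (B (C 11) (P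
  0)))) (B (B (P 1) (B (P 1) (B (P 1) (B (P 1) (B (P 1) (B (P 1) (B (P 1) (B (P 1) (B (P 1) (P
  0)))))))))) (B (B (P 2) (B (P 1) (B (P 1) (B (C 12) (B (P 1) (P 0)))))) (B (B (P 1) (B (P 1) (B
  (P 2) (P 0)))) (B (P 0) (B (B (P 1) (B (P 1) (B (P 2) (B (P 2) (B (P 1) (B (P 1) (B (P 1) (P
  0)))))))) (B (B (P 1) (B (P 2) (B (C 13) (B (P 1) (B (P 1) (B (P 1) (P 0))))))) (B (P 0) (B (P 0)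
  (B (B (P 1) (B (P 2) (B (P 1) (P 0)))) (B (P 0) (B (B (P 2) (P 0)) (P 0)))))))))))))))))) (B (B
  (B (P 1) (B (C 14) (P 0))) (B (B (C 15) (P 0)) (B (P 0) (B (P 0) (B (P 0) (B (P 0) (B (P 0) (B (P
  0) (B (P 0) (B (P 0) (B (P 0) (P 0)))))))))))) (B (B (B (P 1) (B (P 1) (B (P 1) (B (P 1) (B (P 1)
  (B (P 1) (B (P 2) (B (P 2) (B (P 1) (B (P 1) (B (P 1) (P 0)))))))))))) (B (B (P 1) (B (P 1) (B (C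
  16) (P 0)))) (B (B (P 1) (B (P 1) (B (P 1) (B (P 1) (P 0))))) (B (B (P 2) (B (P 1) (B (P 1) (B (P
  1) (B (P 2) (B (P 1) (P 0))))))) (B (B (P 1) (B (P 1) (B (P 1) (P 0)))) (B (B (P 1) (B (P 1) (P
  0))) (B (B (P 1) (B (P 2) (P 0))) (B (B (P 1) (B (C 17) (P 0))) (B (B (P 1) (B (P 1) (B (P 1) (P
  0)))) (B (B (C 18) (B (P 1) (P 0))) (B (B (P 1) (P 0)) (P 0)))))))))))) (B (B (P 0) (B (P 0) (B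
  (P 0) (B (P 0) (B (P 0) (B (P 0) (B (P 0) (P 0)))))))) (B (B (B (P 1) (B (P 2) (B (P 1) (B (P 1)
  (B (P 2) (P 0)))))) (B (B (P 1) (B (C 19) (P 0))) (B (B (P 1) (B (P 1) (B (P 1) (B (P 2) (B (C
  20) (B (P 1) (B (P 1) (B (P 1) (P 0))))))))) (B (B (P 1) (B (P 1) (B (C 21) (P 0)))) (B (B (P 2)
  (B (P 2) (P 0))) (B (P 0) (B (B (P 1) (B (P 1) (B (P 1) (B (P 2) (B (P 1) (P 0)))))) (B (B (P 1)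
  (B (C 22) (B (P 1) (P 0)))) (B (P 0) (B (P 0) (B (B (P 1) (B (P 2) (P 0))) (B (P 0) (B (P 0) (P
  0)))))))))))))) (B (B (P 0) (B (P 0) (B (B (C 23) (P 0)) (B (P 0) (B (P 0) (B (P 0) (B (P 0) (B
  (P 0) (B (P 0) (B (P 0) (B (P 0) (P 0)))))))))))) (B (B (P 0) (B (B (P 2) (B (P 1) (B (P 1) (B (C
  24) (B (P 1) (P 0)))))) (B (B (P 1) (B (P 1) (P 0))) (B (P 0) (B (B (P 1) (B (C 25) (P 0))) (B (P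
  0) (B (B (P 1) (P 0)) (B (P 0) (B (P 0) (P 0)))))))))) (B (B (P 0) (B (B (P 1) (B (C 26) (P 0)))
  (B (P 0) (B (B (P 1) (B (C 27) (P 0))) (B (P 0) (B (P 0) (B (P 0) (B (P 0) (B (P 0) (B (P 0) (P
  0))))))))))) (B (B (P 0) (B (B (P 1) (B (P 1) (B (P 1) (B (P 2) (P 0))))) (B (B (P 1) (B (C 28)
  (P 0))) (B (P 0) (B (P 0) (B (B (P 2) (P 0)) (B (P 0) (B (P 0) (P 0))))))))) (B (B (P 0) (B (P 0)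
  (B (P 0) (B (P 0) (P 0))))) (B (B (B (P 1) (B (P 1) (B (P 1) (B (P 1) (B (P 1) (B (P 1) (B (P 1)
  (P 0)))))))) (B (B (P 1) (B (P 1) (P 0))) (B (B (P 2) (P 0)) (B (B (C 29) (P 0)) (B (B (P 1) (B
  (P 1) (B (P 1) (P 0)))) (B (B (C 30) (P 0)) (B (B (P 1) (P 0)) (P 0)))))))) (B (B (P 0) (B (B (C
  31) (P 0)) (B (P 0) (B (P 0) (B (P 0) (B (P 0) (P 0))))))) (B (B (P 0) (B (P 0) (B (P 0) (P 0))))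
  (B (B (P 0) (B (P 0) (B (P 0) (P 0)))) (B (B (B (P 1) (B (C 32) (B (P 1) (P 0)))) (B (P 0) (B (B
  (C 33) (P 0)) (P 0)))) (B (B (P 0) (B (P 0) (P 0))) (B (B (P 0) (P 0)) (P
  0)))))))))))))))))))))))))))

theorem g3_ok : go 3 cf3 g3 ty3 [3, 11, 23, 15, 63] [] = true := by decide +kernel

end Cfsg.Agent.LY.Ck
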